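import Cfsg.Agent.Lib.Helper5.Tw.BNPairTw
import Cfsg.Agent.Lib.Helper5.Chev.HCard
import Mathlib

/-!
# The diagonal elements of a twisted group (helper5)
-/

set_option autoImplicit false
set_option linter.unusedSectionVars false

namespace Cfsg.Agent.Lib.Helper5.Tw

open Cfsg.Lie Cfsg.Agent.Lib.Helper5.ChevPerm Cfsg.Agent.Lib.Helper5.ChevPermB
open Cfsg.Agent.Lib.Helper5.Chev
open scoped Matrix

theorem coh3 {G : Type*} [CommGroup G] (τ : G →* G) (h3 : ∀ x, τ (τ (τ x)) = x) (c : G)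
    (hsq : τ (τ c / c) * τ (τ c / c) = 1) : τ (c * τ (τ c / c)) = c * τ (τ c / c) := by
  rw [map_div] at hsq
  rw [map_mul, map_div, map_div, h3]
  generalize τ c = b at *
  generalize τ b = e at *
  have h1 : e * e = b * b := by
    rw [div_mul_div_comm, div_eq_one] at hsq
    exact hsq
  rw [mul_div_assoc', mul_div_assoc', div_eq_div_iff_mul_eq_mul]
  calc b * c * b = c * (b * b) := by ac_rfl
    _ = c * (e * e) := by rw [h1]
    _ = c * e * e := by ac_rfl

theorem coh2 {G : Type*} [CommGroup G] (τ : G →* G) (h2 : ∀ x, τ (τ x) = x) (c : G)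
    (hcu : (τ c / c) ^ 3 = 1) : τ (c * (τ c / c) ^ 2) = c * (τ c / c) ^ 2 := by
  rw [map_mul, map_pow, map_div, h2]
  generalize τ c = b at *
  have h1 : b ^ 3 = c ^ 3 := by
    rw [div_pow, div_eq_one] at hcu
    exact hcu
  rw [div_pow, div_pow, mul_div_assoc', mul_div_assoc', div_eq_div_iff_mul_eq_mul]
  calc b * c ^ 2 * c ^ 2 = (b * c) * c ^ 3 := by
        simp only [pow_succ, pow_zero, one_mul]; ac_rfl
    _ = (b * c) * b ^ 3 := by rw [h1]
    _ = c * b ^ 2 * b ^ 2 := by
        simp only [pow_succ, pow_zero, one_mul]; ac_rfl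

/-- the number of the non-zero fixed points of a field endomorphism -/
theorem card_units_fix {K : Type*} [Field K] [Finite K] (φ : K →+* K) :
    Nat.card {u : Kˣ // Units.map (φ : K →* K) u = u} + 1 = Nat.card {a : K // φ a = a} := by
  classical
  have hset : {a : K | φ a = a}
      = insert 0 (Units.val '' {u : Kˣ | Units.map (φ : K →* K) u = u}) := by
    ext a
    simp only [Set.mem_ofPred_eq, Set.mem_insert_iff, Set.mem_image]
    constructor
    · intro h
      by_cases ha : a = 0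
      · exact Or.inl ha
      · right
        refine ⟨Units.mk0 a ha, ?_, rfl⟩
        apply Units.ext
        rw [Units.coe_map, Units.val_mk0]
        exact h
    · rintro (rfl | ⟨u, hu, rfl⟩)
      · exact map_zero φ
      · have := congrArg Units.val hu
        rw [Units.coe_map] at this
        exact this
  have h0 : (0 : K) ∉ Units.val '' {u : Kˣ | Units.map (φ : K →* K) u = u} := by
    rintro ⟨u, -, hu⟩
    exact u.ne_zero hu
  show Nat.card ↥{u : Kˣ | Units.map (φ : K →* K) u = u} + 1 = Nat.card ↥{a : K | φ a = a}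
  rw [Nat.card_coe_set_eq, Nat.card_coe_set_eq, hset,
    Set.ncard_insert_of_notMem h0 (Set.toFinite _),
    Set.ncard_image_of_injective _ Units.val_injective]


/-- the decidable facts on the opposite roots of an orbit of fundamental roots -/
structure NegOK (D : ChevalleyDatum) (sg sgi : List ℕ) (J : List ℕ) : Prop where
  block : BlockOK D sg ((J.map D.simple).map D.neg)
  negneg : ∀ r ∈ J.map D.simple, D.neg (D.neg r) = r
  sgimem : ∀ r ∈ J.map D.simple, sgi.getD r 0 ∈ J.map D.simple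
  sgineg : ∀ r ∈ J.map D.simple, sgi.getD (D.neg r) 0 = D.neg (sgi.getD r 0)

instance (D : ChevalleyDatum) (sg sgi J : List ℕ) : Decidable (NegOK D sg sgi J) :=
  decidable_of_iff (BlockOK D sg ((J.map D.simple).map D.neg) ∧
    (∀ r ∈ J.map D.simple, D.neg (D.neg r) = r) ∧
    (∀ r ∈ J.map D.simple, sgi.getD r 0 ∈ J.map D.simple) ∧
    (∀ r ∈ J.map D.simple, sgi.getD (D.neg r) 0 = D.neg (sgi.getD r 0)))
    ⟨fun h => ⟨h.1, h.2.1, h.2.2.1, h.2.2.2⟩, fun h => ⟨h.block, h.negneg, h.sgimem, h.sgineg⟩⟩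

section

variable {K : Type*} [Field K] {D : ChevalleyDatum}

theorem posW_eq_wordU (hadd : AllAdd K D) (R : List ℕ) (s : ℕ → K) :
    posW hadd R s = hadd.wordU (wordL R fun r => (s r)⁻¹) := by
  unfold posW wordL AllAdd.wordU
  rw [List.map_map]
  rfl

theorem negW_eq_wordU (hadd : AllAdd K D) (R : List ℕ) (s : ℕ → K)
    (hnn : ∀ r ∈ R, D.neg (D.neg r) = r) :
    negW hadd R s = hadd.wordU (wordL (R.map D.neg) fun r' => s (D.neg r')) := by
  unfold negW wordL AllAdd.wordU
  rw [List.map_map, List.map_map]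
  congr 1
  apply List.map_congr_left
  intro r hr
  simp only [Function.comp_apply]
  rw [hnn r hr]

theorem negW_mem_UL (hadd : AllAdd K D) (R : List ℕ) (s : ℕ → K) :
    negW hadd R s ∈ UL K D (R.map D.neg) := by
  unfold negW
  apply Subgroup.list_prod_mem
  intro x hx
  rw [List.mem_map] at hx
  obtain ⟨r, hr, rfl⟩ := hx
  exact xU_mem_UL hadd _ _ (List.mem_map.2 ⟨r, hr, rfl⟩) _

theorem hPr_eq (hadd : AllAdd K D) (R : List ℕ) (t : ℕ → K) :
    hPr hadd R (fun r => -(t r)⁻¹)
      = (R.map fun r => nUt hadd r (t r) * nUt hadd r (-1)).prod := by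
  unfold hPr
  congr 1
  apply List.map_congr_left
  intro r _
  simp only [inv_neg, neg_neg, inv_inv]

end

section

variable {K : Type*} [Field K] {D : ChevalleyDatum}

theorem diagU_mul (y y' : Fin D.nroots → Kˣ) :
    diagU (F := K) (D := D) (y * y') = diagU y * diagU y' := by
  apply Units.ext
  rw [Units.val_mul, diagU_val, diagU_val, diagU_val, Matrix.diagonal_mul_diagonal]
  congr 1
  funext x
  rcases x with j | v <;> simp

theorem diagU_one : diagU (F := K) (D := D) 1 = 1 :=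
  map_one (MonoidHom.mk' (diagU (F := K) (D := D)) diagU_mul)

theorem hU_eq_one_iff (c : Fin D.rank → Kˣ) :
    diagU (F := K) (zact (cartanM D) c) = 1 ↔ zact (cartanM D) c = 1 := by
  constructor
  · intro h
    apply diagU_injective (F := K) (D := D)
    rw [h, diagU_one]
  · intro h
    rw [h, diagU_one]

/-- the element `∏ h_{p_i}(c_i)` of `H` -/
noncomputable def hU (K : Type*) [Field K] (D : ChevalleyDatum) :
    (Fin D.rank → Kˣ) →* GL D.Idx K :=
  (MonoidHom.mk' (diagU (F := K) (D := D)) diagU_mul).comp (zact (cartanM D))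

theorem hU_apply (c : Fin D.rank → Kˣ) : hU K D c = diagU (zact (cartanM D) c) := rfl

theorem range_hU (hD : D ∈ [chevG2, chevB2, chevD4, chevF4, chevE6, chevE7, chevE8]) :
    (D.diagonalSubgroup K : Set (GL D.Idx K)) = Set.range (hU K D) := by
  rw [diagonal_eq_image hD]
  ext g
  constructor
  · rintro ⟨y, ⟨c, rfl⟩, rfl⟩
    exact ⟨c, rfl⟩
  · rintro ⟨c, rfl⟩
    exact ⟨_, ⟨c, rfl⟩, rfl⟩

theorem hU_single (hD : D ∈ [chevG2, chevB2, chevD4, chevF4, chevE6, chevE7, chevE8])
    (hadd : AllAdd K D) (i : Fin D.rank) (a : Kˣ) :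
    hU K D (Pi.mulSingle i a)
      = nUt hadd (D.simple i) (a : K) * nUt hadd (D.simple i) (-1) := by
  apply Units.ext
  rw [hMat_eq, hMat_simple_all D hD i i.2 _ a.ne_zero, hU_apply, diagU_val]
  unfold dK
  congr 1
  funext x
  rcases x with j | v
  · rfl
  · simp only [Sum.elim_inr]
    rw [zact_apply, Finset.prod_eq_single i]
    · rw [Pi.mulSingle_eq_same, Units.val_zpow_eq_zpow_val]
      rfl
    · intro k _ hk
      rw [Pi.mulSingle_eq_of_ne hk, one_zpow]
    · intro h
      exact absurd (Finset.mem_univ i) h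

end

namespace TwSetup

variable {K : Type*} [Field K] [Finite K] {D : ChevalleyDatum} (S : TwSetup K D)

include S

/-- the products `∏ h_r(t_r)` over an orbit, for a fixed family of non-zero parameters, lie in
the twisted group -/
theorem hJ_mem {J : List ℕ} (hJ : J ∈ S.Ws) {rest : List (List ℕ)}
    (hok : JOK D S.Bs S.sg J rest) (hneg : NegOK D S.sg S.sgi J) (t : ℕ → K)
    (ht0 : ∀ r ∈ J.map D.simple, t r ≠ 0)
    (htfix : ∀ r ∈ J.map D.simple, twP S.φ S.ep S.sgi t r = t r) :
    ((J.map D.simple).map fun r => nUt S.hadd r (t r) * nUt S.hadd r (-1)).prod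
      ∈ D.diagonalSubgroup K ⊓ S.Q := by
  have hadd := S.hadd
  have hJw := S.hJw hJ
  have hRlt := S.rJ_lt hok
  have hnQ : S.nW J ∈ S.Q := S.hnQ J hJ
  have hnf : S.nW J ∈ fixS S.c S.φ := S.hQfix hnQ
  have hb := hok.block _ List.mem_cons_self
  have horth : (J.map D.simple).Pairwise fun r r' => SOrth2 S.hadd r r' :=
    hok.orth.imp fun h => h.sOrth2 S.hD S.hadd
  have e3 : nOne S.hadd (J.map D.simple) = S.nW J := nOne_eq S.hA S.hadd J hJw
  have hXQ : ∀ g ∈ S.XJ J, g ∈ S.Q := fun g hg => S.U1_le_Q (S.XJ_le_U1 hok hg)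
  have hXdef : ∀ g, g ∈ UL K D (J.map D.simple) → g ∈ fixS S.c S.φ → g ∈ S.XJ J :=
    fun g h1 h2 => ⟨h1, h2⟩
  have hnegJ := hok.negJ
  obtain ⟨hnb, hnn, hsm, hsn⟩ := hneg
  generalize J.map D.simple = R at *
  set s : ℕ → K := fun r => -(t r)⁻¹ with hs
  have hs0 : ∀ r ∈ R, s r ≠ 0 := fun r hr => neg_ne_zero.2 (inv_ne_zero (ht0 r hr))
  have e1 := negW_eq S.hadd R s horth hs0
  have e2 := nPr_eq S.hadd R s horth
  have e4 : hPr S.hadd R s
      = (R.map fun r => nUt S.hadd r (t r) * nUt S.hadd r (-1)).prod := hPr_eq S.hadd R t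
  -- the positive part
  have hpos : posW S.hadd R s ∈ S.XJ J := by
    apply hXdef _ (posW_mem S.hadd R s)
    rw [posW_eq_wordU, mem_fixS, sigma_block S.hD S.c S.φ S.hadd S.sgi S.hsgi _ hb]
    congr 1
    apply wordL_congr
    intro r hr
    have := htfix r hr
    unfold twP at this ⊢
    simp only [hs, inv_neg, inv_inv, map_neg, mul_neg, neg_inj]
    exact this
  have hposQ : posW S.hadd R s ∈ S.Q := hXQ _ hpos
  -- the negative part
  have hnegfix : negW S.hadd R s ∈ fixS S.c S.φ := by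
    rw [negW_eq_wordU S.hadd R s hnn, mem_fixS,
      sigma_block S.hD S.c S.φ S.hadd S.sgi S.hsgi _ hnb]
    congr 1
    apply wordL_congr
    intro r' hr'
    rw [List.mem_map] at hr'
    obtain ⟨r, hr, rfl⟩ := hr'
    have h1 := htfix r hr
    have hsm' := hsm r hr
    have hsl : S.sgi.getD r 0 < D.nroots := hRlt _ hsm'
    unfold twP at h1 ⊢
    rw [hsn r hr]
    beta_reduce
    rw [hnn _ hsm', hnn r hr]
    have hep : epF K S.ep (D.neg (S.sgi.getD r 0)) = epF K S.ep (S.sgi.getD r 0) := by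
      unfold epF
      have := S.c.neg_ep _ hsl
      show ((S.ep.getD (D.negIdx.getD (S.sgi.getD r 0) 0) 1 : ℤ) : K) = _
      rw [this]
    rw [hep]
    simp only [hs, map_neg, map_inv₀, mul_neg, neg_inj]
    rw [← h1, mul_inv, epF_inv S.c _ hsl]
  have hnegQ : negW S.hadd R s ∈ S.Q := by
    have hUL := negW_mem_UL S.hadd R s
    have hlt : ∀ r ∈ R.map D.neg, r < D.nroots := hnb.lt
    have h1 := conj_UL_inv S.hA S.hadd S.Bs S.hB J hJw _ hlt _ hUL
    have h2 : (S.nW J)⁻¹ * negW S.hadd R s * S.nW J ∈ S.XJ J := by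
      refine hXdef _ (UL_mono ?_ h1) (Subgroup.mul_mem _ (Subgroup.mul_mem _
        (Subgroup.inv_mem _ hnf) hnegfix) hnf)
      intro r' hr'
      rw [List.mem_map] at hr'
      obtain ⟨r'', hr'', rfl⟩ := hr'
      rw [List.mem_map] at hr''
      obtain ⟨r, hr, rfl⟩ := hr''
      rw [wW'_neg S.hA S.Bs S.hB J hJw r (hRlt r hr), (hnegJ r hr).2, hnn r hr]
      exact hr
    have h3 := hXQ _ h2
    have : negW S.hadd R s
        = S.nW J * ((S.nW J)⁻¹ * negW S.hadd R s * S.nW J) * (S.nW J)⁻¹ := by group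
    rw [this]
    exact Subgroup.mul_mem _ (Subgroup.mul_mem _ hnQ h3) (Subgroup.inv_mem _ hnQ)
  -- the conclusion
  rw [← e4]
  refine ⟨hPr_mem S.hadd R hRlt s hs0, ?_⟩
  have e7 : hPr S.hadd R s = (posW S.hadd R s)⁻¹ * negW S.hadd R s * (posW S.hadd R s)⁻¹ *
      (S.nW J)⁻¹ := by
    rw [e1, e2, e3]
    group
  rw [e7]
  exact Subgroup.mul_mem _ (Subgroup.mul_mem _ (Subgroup.mul_mem _ (Subgroup.inv_mem _ hposQ)
    hnegQ) (Subgroup.inv_mem _ hposQ)) (Subgroup.inv_mem _ hnQ)

theorem simple_inj : ∀ i < D.rank, ∀ j < D.rank, D.simple i = D.simple j → i = j := by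
  intro i hi j hj h
  have hi' : i < S.T.rank := by rw [S.hl]; exact hi
  have hj' : j < S.T.rank := by rw [S.hl]; exact hj
  have h1 := S.h1.v_p i hi' i hi'
  have h2 := S.h1.v_p j hj' i hi'
  rw [← FD.simple_eq' S.hA i hi] at h1
  rw [← FD.simple_eq' S.hA j hj, ← h, h1] at h2
  by_contra hne
  rw [if_pos rfl, if_neg hne] at h2
  exact one_ne_zero h2

/-- the permutation of the fundamental roots -/
def piP : Equiv.Perm (Fin D.rank) where
  toFun i := ⟨S.pi.getD i 0, S.c.pi_lt i i.2⟩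
  invFun i := ⟨S.pii.getD i 0, by
    have := S.G.pii_lt i (by show (i : ℕ) < S.T.rank; rw [S.hl]; exact i.2)
    have e : (wdOf S.T S.Bs S.mLL).l = D.rank := S.hl
    rw [e] at this
    exact this⟩
  left_inv i := by
    apply Fin.ext
    exact S.G.pii_pi i (by show (i : ℕ) < S.T.rank; rw [S.hl]; exact i.2)
  right_inv i := by
    apply Fin.ext
    exact S.G.pi_pii i (by show (i : ℕ) < S.T.rank; rw [S.hl]; exact i.2)

theorem piP_val (i : Fin D.rank) : ((S.piP i : Fin D.rank) : ℕ) = S.pi.getD i 0 := rfl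

theorem piP_symm_val (i : Fin D.rank) : ((S.piP.symm i : Fin D.rank) : ℕ) = S.pii.getD i 0 := rfl

/-- the twisting of the parameters of the diagonal elements -/
def tau : (Fin D.rank → Kˣ) →* (Fin D.rank → Kˣ) where
  toFun c := fun j => Units.map (S.φ : K →* K) (c (S.piP.symm j))
  map_one' := by
    funext j
    simp
  map_mul' c c' := by
    funext j
    simp

theorem tau_apply (c : Fin D.rank → Kˣ) (j : Fin D.rank) :
    S.tau c j = Units.map (S.φ : K →* K) (c (S.piP.symm j)) := rfl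

theorem sigma_hU_single (i : Fin D.rank) (a : Kˣ) :
    sigma S.c S.φ (hU K D (Pi.mulSingle i a))
      = hU K D (Pi.mulSingle (S.piP i) (Units.map (S.φ : K →* K) a)) := by
  have hpi : S.pi.getD i 0 < D.rank := S.c.pi_lt i i.2
  rw [hU_single S.hD S.hadd, hU_single S.hD S.hadd, map_mul,
    sigma_nUt S.c S.φ S.hadd _ (simple_lt' S.hA i.2),
    sigma_nUt S.c S.φ S.hadd _ (simple_lt' S.hA i.2)]
  have e1 : S.sg.getD (D.simple i) 0 = D.simple (S.pi.getD i 0) := by
    have := S.G.sg_p i (by show (i : ℕ) < S.T.rank; rw [S.hl]; exact i.2)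
    rw [FD.simple_eq' S.hA i i.2, FD.simple_eq' S.hA _ hpi]
    exact this
  have e2 : epF K S.ep (D.simple i) = 1 := by
    unfold epF
    rw [S.hep i i.2]
    simp
  rw [e1, e2, one_mul, one_mul, map_neg, map_one]
  rfl

theorem sigma_hU (c : Fin D.rank → Kˣ) : sigma S.c S.φ (hU K D c) = hU K D (S.tau c) := by
  have e1 : c = ((List.finRange D.rank).map fun i => Pi.mulSingle i (c i)).prod := by
    rw [← Fin.prod_univ_def]
    exact (Finset.univ_prod_mulSingle c).symm
  have e2 : S.tau c = ((List.finRange D.rank).map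
      fun i => Pi.mulSingle (S.piP i) (Units.map (S.φ : K →* K) (c i))).prod := by
    rw [← Fin.prod_univ_def, ← Equiv.prod_comp S.piP.symm]
    simp only [Equiv.apply_symm_apply]
    exact (Finset.univ_prod_mulSingle (S.tau c)).symm
  conv_lhs => rw [e1]
  rw [e2, map_list_prod, map_list_prod, map_list_prod, List.map_map, List.map_map, List.map_map]
  congr 1
  apply List.map_congr_left
  intro i _
  exact S.sigma_hU_single i (c i)

/-- a fixed element of `H` comes from parameters whose twist differs by an element of the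
kernel -/
theorem fix_diag (h : GL D.Idx K) (hh : h ∈ D.diagonalSubgroup K) (hf : h ∈ fixS S.c S.φ) :
    ∃ c : Fin D.rank → Kˣ, h = hU K D c ∧ S.tau c / c ∈ (hU K D).ker := by
  have : h ∈ (D.diagonalSubgroup K : Set (GL D.Idx K)) := hh
  rw [range_hU S.hD] at this
  obtain ⟨c, rfl⟩ := this
  refine ⟨c, rfl, ?_⟩
  rw [MonoidHom.mem_ker, map_div, ← S.sigma_hU, (mem_fixS _ _ _).1 hf, div_self']

/-- the kernel is stable under the twist -/
theorem tau_ker (z : Fin D.rank → Kˣ) (hz : z ∈ (hU K D).ker) : S.tau z ∈ (hU K D).ker := by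
  rw [MonoidHom.mem_ker] at hz ⊢
  rw [← S.sigma_hU, hz, map_one]


theorem exists_rootFam (c : ℕ → K) : ∃ t : ℕ → K, ∀ i < D.rank, t (D.simple i) = c i := by
  classical
  refine ⟨fun r => if h : ∃ i < D.rank, D.simple i = r then c (Classical.choose h) else 0, ?_⟩
  intro i hi
  have h : ∃ j < D.rank, D.simple j = D.simple i := ⟨i, hi, rfl⟩
  simp only [dif_pos h]
  have := Classical.choose_spec h
  rw [S.simple_inj _ this.1 i hi this.2]

theorem sgi_simple (i : ℕ) (hi : i < D.rank) :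
    S.sgi.getD (D.simple i) 0 = D.simple (S.pii.getD i 0) ∧ S.pii.getD i 0 < D.rank := by
  have hi' : i < (wdOf S.T S.Bs S.mLL).l := by show i < S.T.rank; rw [S.hl]; exact hi
  have hpl := S.G.pii_lt i hi'
  have hpl' : S.pii.getD i 0 < D.rank := by
    have e : (wdOf S.T S.Bs S.mLL).l = D.rank := S.hl
    rw [e] at hpl
    exact hpl
  refine ⟨?_, hpl'⟩
  have h1 := S.G.sg_p _ hpl
  rw [S.G.pi_pii i hi'] at h1
  have h2 : S.sg.getD (D.simple (S.pii.getD i 0)) 0 = D.simple i := by
    rw [FD.simple_eq' S.hA _ hpl', FD.simple_eq' S.hA i hi]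
    exact h1
  rw [← h2, S.hsgi _ (simple_lt' S.hA hpl')]

/-- the elements of `H` with parameters fixed by the twist lie in the twisted group -/
theorem hU_mem_Q (hneg : ∀ J ∈ S.Ws, NegOK D S.sg S.sgi J)
    (hperm : S.Ws.flatten.Perm (List.range D.rank)) (c : Fin D.rank → Kˣ) (hc : S.tau c = c) :
    hU K D c ∈ D.diagonalSubgroup K ⊓ S.Q := by
  classical
  set sgl : ℕ → (Fin D.rank → Kˣ) := fun k =>
    if h : k < D.rank then Pi.mulSingle ⟨k, h⟩ (c ⟨k, h⟩) else 1 with hsgl
  have e1 : c = ((List.range D.rank).map sgl).prod := by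
    rw [list_range_map_prod]
    have : ∀ i : Fin D.rank, sgl i = Pi.mulSingle i (c i) := by
      intro i
      rw [hsgl]
      simp only [dif_pos i.2]
    simp only [this]
    exact (Finset.univ_prod_mulSingle c).symm
  have e2 : c = (S.Ws.flatten.map sgl).prod := by
    rw [(hperm.map sgl).prod_eq]
    exact e1
  obtain ⟨t, ht⟩ := S.exists_rootFam (fun k => ((extU c k : Kˣ) : K))
  have htc : ∀ i (hi : i < D.rank), t (D.simple i) = ((c ⟨i, hi⟩ : Kˣ) : K) := by
    intro i hi
    rw [ht i hi]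
    unfold extU
    rw [dif_pos hi]
  have e5 : hU K D c = hU K D (S.Ws.flatten.map sgl).prod := congrArg _ e2
  rw [e5, map_list_prod, List.map_map, List.map_flatten, List.prod_flatten, List.map_map]
  apply Subgroup.list_prod_mem
  intro g hg
  rw [List.mem_map] at hg
  obtain ⟨J, hJ, rfl⟩ := hg
  obtain ⟨rest, hok⟩ := S.jok J hJ
  have hJw := S.hJw hJ
  have e3 : (List.prod ∘ List.map (⇑(hU K D) ∘ sgl)) J
      = ((J.map D.simple).map fun r => nUt S.hadd r (t r) * nUt S.hadd r (-1)).prod := by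
    rw [Function.comp_apply, List.map_map]
    congr 1
    apply List.map_congr_left
    intro i hi
    have hil := hJw i hi
    rw [Function.comp_apply, Function.comp_apply, hsgl]
    simp only [dif_pos hil]
    rw [hU_single S.hD S.hadd, htc i hil]
  rw [e3]
  apply S.hJ_mem hJ hok (hneg J hJ) t
  · intro r hr
    rw [List.mem_map] at hr
    obtain ⟨i, hi, rfl⟩ := hr
    rw [htc i (hJw i hi)]
    exact Units.ne_zero _
  · intro r hr
    rw [List.mem_map] at hr
    obtain ⟨i, hi, rfl⟩ := hr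
    have hil := hJw i hi
    obtain ⟨es, hpl⟩ := S.sgi_simple i hil
    unfold twP
    rw [es, htc _ hpl, htc i hil]
    have e4 : epF K S.ep (D.simple (S.pii.getD i 0)) = 1 := by
      unfold epF
      rw [S.hep _ hpl]
      simp
    rw [e4, one_mul]
    have := congrFun hc ⟨i, hil⟩
    rw [S.tau_apply] at this
    have h5 := congrArg Units.val this
    rw [Units.coe_map] at h5
    exact h5


/-- the parameters fixed by the twist -/
def tauFix : Subgroup (Fin D.rank → Kˣ) where
  carrier := {c | S.tau c = c}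
  mul_mem' := by
    intro a b ha hb
    show S.tau (a * b) = a * b
    rw [map_mul, ha, hb]
  one_mem' := map_one _
  inv_mem' := by
    intro a ha
    show S.tau a⁻¹ = a⁻¹
    rw [map_inv, ha]

theorem mem_tauFix (c : Fin D.rank → Kˣ) : c ∈ S.tauFix ↔ S.tau c = c := Iff.rfl

/-- `H ∩ Q` is the image of the parameters fixed by the twist -/
theorem mem_H1_iff (hneg : ∀ J ∈ S.Ws, NegOK D S.sg S.sgi J)
    (hperm : S.Ws.flatten.Perm (List.range D.rank))
    (hcoh : ∀ c : Fin D.rank → Kˣ, S.tau c / c ∈ (hU K D).ker →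
      ∃ d ∈ (hU K D).ker, S.tau (c * d) = c * d) (h : GL D.Idx K) :
    h ∈ S.H1 ↔ ∃ c ∈ S.tauFix, hU K D c = h := by
  constructor
  · intro hh
    obtain ⟨c, rfl, hz⟩ := S.fix_diag h hh.1 (S.hQfix hh.2)
    obtain ⟨d, hd, hcd⟩ := hcoh c hz
    refine ⟨c * d, hcd, ?_⟩
    rw [map_mul, (MonoidHom.mem_ker).1 hd, mul_one]
  · rintro ⟨c, hc, rfl⟩
    exact S.hU_mem_Q hneg hperm c hc

/-- the order of `H ∩ Q` -/
theorem card_H1 (hneg : ∀ J ∈ S.Ws, NegOK D S.sg S.sgi J)
    (hperm : S.Ws.flatten.Perm (List.range D.rank))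
    (hcoh : ∀ c : Fin D.rank → Kˣ, S.tau c / c ∈ (hU K D).ker →
      ∃ d ∈ (hU K D).ker, S.tau (c * d) = c * d) :
    Nat.card {c : Fin D.rank → Kˣ // S.tau c = c ∧ hU K D c = 1} * Nat.card S.H1
      = Nat.card {c : Fin D.rank → Kˣ // S.tau c = c} := by
  set f : ↥S.tauFix →* GL D.Idx K := (hU K D).comp S.tauFix.subtype with hf
  have hrange : f.range = S.H1 := by
    ext h
    rw [S.mem_H1_iff hneg hperm hcoh, MonoidHom.mem_range]
    constructor
    · rintro ⟨⟨c, hc⟩, rfl⟩
      exact ⟨c, hc, rfl⟩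
    · rintro ⟨c, hc, rfl⟩
      exact ⟨⟨c, hc⟩, rfl⟩
  have h1 := Subgroup.card_mul_index f.ker
  rw [Subgroup.index_ker, hrange] at h1
  have e1 : Nat.card ↥f.ker = Nat.card {c : Fin D.rank → Kˣ // S.tau c = c ∧ hU K D c = 1} := by
    apply Nat.card_congr
    refine ⟨fun x => ⟨x.1.1, x.1.2, (MonoidHom.mem_ker).1 x.2⟩,
      fun c => ⟨⟨c.1, c.2.1⟩, (MonoidHom.mem_ker).2 c.2.2⟩, ?_, ?_⟩
    · intro x
      rfl
    · intro c
      rfl
  have e2 : Nat.card ↥S.tauFix = Nat.card {c : Fin D.rank → Kˣ // S.tau c = c} := rfl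
  rw [← e1, ← e2]
  exact h1


end TwSetup

end Cfsg.Agent.Lib.Helper5.Tw
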