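import Cfsg.Agent.Lib.Helper5.Tw.SigmaStab
import Mathlib

/-!
# The canonical form of the elements fixed by the twisting endomorphism (helper5)
-/

set_option autoImplicit false

namespace Cfsg.Agent.Lib.Helper5.Tw

open Cfsg.Lie Cfsg.Agent.Lib.Helper5.ChevPerm Cfsg.Agent.Lib.Helper5.ChevPermB
open Cfsg.Agent.Lib.Helper5.Chev
open scoped Matrix

variable {K : Type*} [Field K] {D : ChevalleyDatum} {pi sg : List ℕ} {ep : List ℤ}

/-- an element of `B` is a product `u h` -/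
theorem borel_eq_mul (hD : D ∈ [chevG2, chevB2, chevD4, chevF4, chevE6, chevE7, chevE8])
    (b : GL D.Idx K) (hb : b ∈ D.borelSubgroup K) :
    ∃ u ∈ D.posUnipotent K, ∃ h ∈ D.diagonalSubgroup K, b = u * h := by
  have hHU := (borel_semidirect_all (F := K) D hD).1
  unfold ChevalleyDatum.borelSubgroup at hb
  rw [← SetLike.mem_coe, Subgroup.coe_mul_of_right_le_normalizer_left _ _ hHU, Set.mem_mul] at hb
  obtain ⟨u, hu, h, hh, rfl⟩ := hb
  exact ⟨u, hu, h, hh, rfl⟩

/-- uniqueness of the factors of an element of `B` -/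
theorem borel_mul_unique (hD : D ∈ [chevG2, chevB2, chevD4, chevF4, chevE6, chevE7, chevE8])
    (u u' h h' : GL D.Idx K) (hu : u ∈ D.posUnipotent K) (hu' : u' ∈ D.posUnipotent K)
    (hh : h ∈ D.diagonalSubgroup K) (hh' : h' ∈ D.diagonalSubgroup K) (e : u * h = u' * h') :
    u = u' ∧ h = h' := by
  have hbot := (borel_semidirect_all (F := K) D hD).2
  have e2 : u'⁻¹ * u = h' * h⁻¹ := by
    calc u'⁻¹ * u = u'⁻¹ * (u * h) * h⁻¹ := by group
      _ = _ := by rw [e]; group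
  have hmem : u'⁻¹ * u ∈ D.posUnipotent K ⊓ D.diagonalSubgroup K := by
    refine ⟨Subgroup.mul_mem _ (Subgroup.inv_mem _ hu') hu, ?_⟩
    rw [e2]
    exact Subgroup.mul_mem _ hh' (Subgroup.inv_mem _ hh)
  rw [hbot, Subgroup.mem_bot] at hmem
  have hu2 : u = u' := by
    have := inv_mul_eq_one.1 hmem
    exact this.symm
  subst hu2
  exact ⟨rfl, mul_left_cancel e⟩

section

variable (hD : D ∈ [chevG2, chevB2, chevD4, chevF4, chevE6, chevE7, chevE8])
  (c : GraphCert D pi sg ep) (φ : K →+* K) (hφ : Function.Bijective φ)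
  (hpos : ∀ r < D.nroots, (D.nroots / 2 ≤ sg.getD r 0 ↔ D.nroots / 2 ≤ r))

include hD hφ hpos in
/-- the factors of a fixed element of `B` are fixed -/
theorem borel_fix (b : GL D.Idx K) (hb : b ∈ D.borelSubgroup K) (hfix : sigma c φ b = b) :
    ∃ u ∈ D.posUnipotent K, ∃ h ∈ D.diagonalSubgroup K, b = u * h ∧ sigma c φ u = u ∧
      sigma c φ h = h := by
  have hadd := allAdd_all (F := K) D hD
  obtain ⟨u, hu, h, hh, rfl⟩ := borel_eq_mul hD b hb
  rw [map_mul] at hfix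
  obtain ⟨e1, e2⟩ := borel_mul_unique hD _ _ _ _ (sigma_pos_mem c φ hadd hpos hD u hu) hu
    (sigma_diag_mem c φ hadd hφ.1 h hh) hh hfix
  exact ⟨u, hu, h, hh, rfl, e1, e2⟩

include hD hφ hpos in
/-- the canonical form of a fixed element: all three factors are fixed -/
theorem bruhat_fix (g : GL D.Idx K) (hg : g ∈ D.group K) (hfix : sigma c φ g = g) :
    ∃ u1 ∈ D.posUnipotent K, ∃ n ∈ D.monomialSubgroup K,
      ∃ u ∈ Subgroup.closure (unegSet K D n), g = u1 * n * u ∧ sigma c φ u1 = u1 ∧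
        sigma c φ n = n ∧ sigma c φ u = u := by
  have hadd := allAdd_all (F := K) D hD
  have hUB : D.posUnipotent K ≤ D.borelSubgroup K := le_sup_left
  have hHN : D.diagonalSubgroup K ≤ D.monomialSubgroup K := le_sup_left
  obtain ⟨b, hb, n0, hn0, u, hu, rfl⟩ := bruhat_exists_all D hD g hg
  obtain ⟨u1, hu1, h, hh, rfl⟩ := borel_eq_mul hD b hb
  have hn : h * n0 ∈ D.monomialSubgroup K := Subgroup.mul_mem _ (hHN hh) hn0
  have hu' : u ∈ Subgroup.closure (unegSet K D (h * n0)) :=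
    Subgroup.closure_mono (unegSet_diag_mul hD n0 h hh) hu
  have e0 : u1 * h * n0 * u = u1 * (h * n0) * u := by group
  rw [e0] at hfix ⊢
  rw [map_mul, map_mul] at hfix
  have hs1 := sigma_pos_mem c φ hadd hpos hD u1 hu1
  have hs2 := sigma_mono_mem c φ hadd hφ.1 _ hn
  have hs3 := sigma_uneg_mem c φ hadd hpos hD hφ.2 _ u hu'
  have hnn := bruhat_sharp_unique D hD _ _ _ _ _ _ hs1 hu1 hs2 hn hs3 hu' hfix
  have huu := (bruhat_unique_all D hD _ _ _ _ _ _ (hUB hs1) (hUB hu1) hs2 hn hs3 hu' hfix).2 hnn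
  exact ⟨u1, hu1, h * n0, hn, u, hu', rfl, huu.1, hnn, huu.2⟩

end

end Cfsg.Agent.Lib.Helper5.Tw
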