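import Cfsg.Agent.Lib.Helper5.BN
import Mathlib

/-!
# Minimal parabolic subgroups of a (B, N)-pair and opposite root subgroups (helper5)
-/

set_option autoImplicit false

namespace Cfsg.Agent.Lib.Helper5.Tw.AutTw

open Cfsg Cfsg.Agent.Lib.Helper5.BN

variable {G : Type*} [Group G] (P : BNPair G)

theorem zpow_mem_or {s : G} (hs : s ∈ P.S) (k : ℤ) : s ^ k ∈ P.B ∨ s ^ k ∈ D P s := by
  have hsq : s ^ (2 : ℤ) ∈ P.B := by
    rw [zpow_two]
    exact P.sq_mem s hs
  rcases Int.even_or_odd' k with ⟨m, rfl | rfl⟩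
  · left
    rw [zpow_mul]
    exact zpow_mem hsq m
  · right
    rw [zpow_add, zpow_one, zpow_mul]
    exact B_mul_mem_D P (zpow_mem hsq m) (self_mem_D P s)

/-- a minimal parabolic subgroup is `B ∪ B s B` -/
theorem mem_parabolic_singleton {s : G} (hs : s ∈ P.S) {g : G} (hg : g ∈ P.parabolic {s}) :
    g ∈ P.B ∨ g ∈ D P s := by
  have hJ : ({s} : Set G) ⊆ P.S := Set.singleton_subset_iff.2 hs
  obtain ⟨n, hn, h⟩ := (mem_parabolic_iff P hJ g).1 hg
  rw [Subgroup.mem_closure_singleton] at hn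
  obtain ⟨k, rfl⟩ := hn
  rcases zpow_mem_or P hs k with h1 | h1
  · left
    rw [D_of_mem_B P h1] at h
    exact h
  · right
    rw [D_eq_of_mem P h1] at h
    exact h

/-- the intersection of a minimal parabolic subgroup with a subgroup meeting `B` trivially, by
counting -/
theorem parabolic_inf_eq [Finite G] {s : G} (hs : s ∈ P.S) (V X : Subgroup G)
    (hBV : P.B ⊓ V = ⊥) (hX : X ≤ P.parabolic {s} ⊓ V)
    (hcard : Nat.card ↥(D P s) ≤ Nat.card X * Nat.card P.B) (h2 : 2 ≤ Nat.card X) :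
    P.parabolic {s} ⊓ V = X := by
  classical
  set M := P.parabolic {s} ⊓ V with hM
  have hsub : ∀ (m : ↥M) (b : ↥P.B), (m : G) * (b : G) ∈ (P.B : Set G) ∪ D P s := by
    intro m b
    have : (m : G) * (b : G) ∈ P.parabolic {s} :=
      Subgroup.mul_mem _ (Subgroup.mem_inf.1 m.2).1 (B_le_parabolic P _ b.2)
    exact mem_parabolic_singleton P hs this
  have hinj : Function.Injective (fun q : ↥M × ↥P.B =>
      (⟨(q.1 : G) * (q.2 : G), hsub q.1 q.2⟩ : ↥((P.B : Set G) ∪ D P s))) := by
    rintro ⟨m, b⟩ ⟨m', b'⟩ h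
    have h1 : (m : G) * (b : G) = (m' : G) * (b' : G) := congrArg Subtype.val h
    have h2 : (b' : G) * (b : G)⁻¹ = (m' : G)⁻¹ * (m : G) := by
      have : (m : G) = (m' : G) * (b' : G) * (b : G)⁻¹ := by
        rw [← h1]
        group
      rw [this]
      group
    have hbot : (m' : G)⁻¹ * (m : G) ∈ P.B ⊓ V := by
      constructor
      · rw [← h2]
        exact Subgroup.mul_mem _ b'.2 (Subgroup.inv_mem _ b.2)
      · exact Subgroup.mul_mem _ (Subgroup.inv_mem _ (Subgroup.mem_inf.1 m'.2).2)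
          (Subgroup.mem_inf.1 m.2).2
    rw [hBV, Subgroup.mem_bot] at hbot
    have hm : (m : G) = m' := by
      have : (m : G) = (m' : G) * ((m' : G)⁻¹ * (m : G)) := by group
      rw [this, hbot, mul_one]
    have hb : (b : G) = b' := by
      rw [hm] at h1
      exact mul_left_cancel h1
    rw [Prod.mk.injEq]
    exact ⟨Subtype.ext hm, Subtype.ext hb⟩
  have hcardU : Nat.card ↥((P.B : Set G) ∪ D P s) ≤ Nat.card P.B + Nat.card ↥(D P s) := by
    have e1 : Nat.card P.B = (P.B : Set G).ncard := Nat.card_coe_set_eq _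
    rw [Nat.card_coe_set_eq, Nat.card_coe_set_eq, e1]
    exact Set.ncard_union_le _ _
  have hcard1 : Nat.card M * Nat.card P.B ≤ Nat.card ↥((P.B : Set G) ∪ D P s) := by
    rw [← Nat.card_prod]
    exact Nat.card_le_card_of_injective _ hinj
  have hBpos : 0 < Nat.card P.B := Nat.card_pos
  have hcardM : Nat.card M ≤ 1 + Nat.card X := by
    apply Nat.le_of_mul_le_mul_right _ hBpos
    calc Nat.card M * Nat.card P.B ≤ Nat.card P.B + Nat.card ↥(D P s) := hcard1.trans hcardU
      _ ≤ Nat.card P.B + Nat.card X * Nat.card P.B := Nat.add_le_add_left hcard _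
      _ = (1 + Nat.card X) * Nat.card P.B := by ring
  have hdvd : Nat.card X ∣ Nat.card M := Subgroup.card_dvd_of_le hX
  have hMpos : 0 < Nat.card M := Nat.card_pos
  have hMeq : Nat.card M = Nat.card X := by
    obtain ⟨k, hk⟩ := hdvd
    rw [hk] at hcardM hMpos
    have hk1 : 1 ≤ k := by
      rcases Nat.eq_zero_or_pos k with h0 | h0
      · rw [h0, mul_zero] at hMpos
        exact absurd hMpos (lt_irrefl 0)
      · exact h0
    have hk2 : k < 2 := by
      by_contra hcon
      rw [not_lt] at hcon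
      have : Nat.card X * 2 ≤ Nat.card X * k := Nat.mul_le_mul_left _ hcon
      omega
    have : k = 1 := by omega
    rw [hk, this, mul_one]
  symm
  apply Subgroup.eq_of_le_of_card_ge hX
  rw [hMeq]

end Cfsg.Agent.Lib.Helper5.Tw.AutTw
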