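import Cfsg.Agent.Lib.Helper5.Tw.D4Aut
import Cfsg.Agent.Lib.Helper8.FA.FieldAutTw
import Cfsg.Agent.Lib.Helper8.FA.OutSplit
import Mathlib

/-!
# Automorphisms of `³D₄(q)`: the field automorphisms are outer (helper5)
-/

set_option autoImplicit false
set_option maxRecDepth 100000
set_option linter.unusedSectionVars false

namespace Cfsg.Agent.Lib.Helper5.Tw

open Cfsg.Lie Cfsg.Agent.Lib.Helper5.ChevPerm Cfsg.Agent.Lib.Helper5.ChevPermB
open Cfsg.Agent.Lib.Helper5.Chev Cfsg.Agent.Lib.Helper5.AutBN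
open Cfsg.Agent.Lib.Helper8.FA
open scoped Matrix

/-- a subgroup generated by root subgroups is stable under the field automorphisms -/
theorem glMap_roots_le {K : Type*} [Field K] {D : ChevalleyDatum} (hadd : AllAdd K D)
    (ψ : K ≃+* K) (P : ℕ → Prop) {g : GL D.Idx K}
    (hg : g ∈ Subgroup.closure {x : GL D.Idx K | ∃ (r : ℕ) (t : K), P r ∧
        (x : Matrix D.Idx D.Idx K) = D.x K r t}) :
    Matrix.GeneralLinearGroup.map (ψ : K →+* K) g ∈
      Subgroup.closure {x : GL D.Idx K | ∃ (r : ℕ) (t : K), P r ∧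
        (x : Matrix D.Idx D.Idx K) = D.x K r t} := by
  have hle : Subgroup.closure {x : GL D.Idx K | ∃ (r : ℕ) (t : K), P r ∧
        (x : Matrix D.Idx D.Idx K) = D.x K r t} ≤
      (Subgroup.closure {x : GL D.Idx K | ∃ (r : ℕ) (t : K), P r ∧
        (x : Matrix D.Idx D.Idx K) = D.x K r t}).comap
        (Matrix.GeneralLinearGroup.map (ψ : K →+* K)) := by
    rw [Subgroup.closure_le]
    rintro x ⟨r, t, hr, hx⟩
    have hx' : x = hadd.xU r t := Units.ext hx
    subst hx'
    rw [SetLike.mem_coe, Subgroup.mem_comap, map_xU]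
    exact Subgroup.subset_closure ⟨r, ψ t, hr, rfl⟩
  exact hle hg

namespace D4

section inner

variable {K : Type*} [Field K] [Fintype K]
variable (q : ℕ) (hq : IsPrimePow q) (hK : Fintype.card K = q ^ 3)

include hq hK in
/-- a field automorphism of `³D₄(q)` which is inner is trivial -/
theorem fieldAut_inner (ψ : K ≃+* K) (x : ↥(twistedD4 K q))
    (h : fieldAutQ K q ψ = MulAut.conj x) : ψ = 1 := by
  obtain ⟨φ, hφ, hφ3⟩ := exists_frob hq hK
  have hφ3' : ∀ t, φ (φ (φ t)) = t := fun t => hφ3 t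
  have hadd := hadd' (K := K)
  have key : ∀ (g : GL chevD4.Idx K) (hg : g ∈ twistedD4 K q),
      (x : GL chevD4.Idx K) * g * (x : GL chevD4.Idx K)⁻¹
        = Matrix.GeneralLinearGroup.map (ψ : K →+* K) g := by
    intro g hg
    have h1 := congrArg (fun f : MulAut ↥(twistedD4 K q) => ((f ⟨g, hg⟩ : ↥(twistedD4 K q)) :
      GL chevD4.Idx K)) h
    simp only [fieldAutQ_val, MulAut.conj_apply] at h1
    rw [h1]
    rfl
  have hmapQ : ∀ (g : GL chevD4.Idx K), g ∈ twistedD4 K q →
      Matrix.GeneralLinearGroup.map (ψ : K →+* K) g ∈ twistedD4 K q := by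
    intro g hg
    rw [← key g hg]
    exact Subgroup.mul_mem _ (Subgroup.mul_mem _ x.2 hg) (Subgroup.inv_mem _ x.2)
  -- `x` normalises `U¹` and `V¹`
  have hU : cj (x : GL chevD4.Idx K) (setup φ q hφ hφ3').U1 = (setup φ q hφ hφ3').U1 := by
    apply Subgroup.eq_of_le_of_card_ge
    · intro y hy
      rw [mem_cj] at hy
      have hyQ := (setup φ q hφ hφ3').U1_le_Q hy
      have e : y = (x : GL chevD4.Idx K) * ((x : GL chevD4.Idx K)⁻¹ * y * x) *
          (x : GL chevD4.Idx K)⁻¹ := by group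
      rw [e, key _ hyQ]
      exact ⟨glMap_roots_le hadd ψ _ hy.1,
        twisted_le_fix φ q hφ hφ3' (hmapQ _ hyQ)⟩
    · rw [card_cj]
  have hV : cj (x : GL chevD4.Idx K) (setup φ q hφ hφ3').V1 = (setup φ q hφ hφ3').V1 := by
    apply Subgroup.eq_of_le_of_card_ge
    · intro y hy
      rw [mem_cj] at hy
      have hyQ := (setup φ q hφ hφ3').V1_le_Q Js0 Js0_mem Js0_check hy
      have e : y = (x : GL chevD4.Idx K) * ((x : GL chevD4.Idx K)⁻¹ * y * x) *
          (x : GL chevD4.Idx K)⁻¹ := by group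
      rw [e, key _ hyQ]
      exact ⟨glMap_roots_le hadd ψ _ hy.1,
        twisted_le_fix φ q hφ hφ3' (hmapQ _ hyQ)⟩
    · rw [card_cj]
  have hxH := (setup φ q hφ hφ3').mem_H1_of_normalizes Js0 Js0_mem Js0_check Js0_check_rev
    (x : GL chevD4.Idx K) x.2 hU hV
  obtain ⟨χ, -, hχ⟩ := diag_conj_char chevD4 hD4 (x : GL chevD4.Idx K) hxH.1
  have hform : ∀ t : K, ψ t = (χ 18 : K) * t := by
    intro t
    have h1 := conj_char_wordU hadd (x : GL chevD4.Idx K) χ hχ
      [(18, t), (13, t ^ q), (12, t ^ (q ^ 2))] (by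
        intro p hp
        simp only [List.mem_cons, List.not_mem_nil, or_false] at hp
        rcases hp with rfl | rfl | rfl
        · show 18 < chevD4.nroots
          decide
        · show 13 < chevD4.nroots
          decide
        · show 12 < chevD4.nroots
          decide)
    have h2 := key (gA q t) (gA_mem q t)
    rw [gA, map_wordU] at h2
    rw [h2] at h1
    have h3 := (setup φ q hφ hφ3').XJ_wordL_inj jokA
      (fun r => if r = 18 then ψ t else if r = 13 then ψ (t ^ q) else ψ (t ^ (q ^ 2)))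
      (fun r => if r = 18 then (χ 18 : K) * t else if r = 13 then (χ 13 : K) * t ^ q
        else (χ 12 : K) * t ^ (q ^ 2))
      (by
        rw [mapA]
        simpa [wordL, mapWord] using h1) 18 (by rw [mapA]; simp)
    simpa using h3
  have h1 : (χ 18 : K) = 1 := by
    have := hform 1
    rw [map_one, mul_one] at this
    exact this.symm
  apply RingEquiv.ext
  intro t
  rw [hform t, h1, one_mul]
  rfl

end inner

end D4

end Cfsg.Agent.Lib.Helper5.Tw
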