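import Cfsg.Agent.Lib.Helper5.Tw.Ordered
import Mathlib

/-!
# The fixed points of the twisting endomorphism in `U`, in coordinates (helper5)
-/

set_option autoImplicit false

namespace Cfsg.Agent.Lib.Helper5.Tw

open Cfsg.Lie Cfsg.Agent.Lib.Helper5.ChevPerm Cfsg.Agent.Lib.Helper5.ChevPermB
open Cfsg.Agent.Lib.Helper5.Chev
open scoped Matrix

section

variable {K : Type*} [Field K] {D : ChevalleyDatum} {pi sg : List ℕ} {ep : List ℤ}

theorem wordU_nil (hadd : AllAdd K D) : hadd.wordU ([] : List (ℕ × K)) = 1 := rfl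

/-- the image of a word under the twisting endomorphism -/
theorem sigma_wordU (c : GraphCert D pi sg ep) (φ : K →+* K) (hadd : AllAdd K D)
    (w : List (ℕ × K)) (hw : ∀ p ∈ w, p.1 < D.nroots) :
    sigma c φ (hadd.wordU w)
      = hadd.wordU (w.map fun p => (sg.getD p.1 0, epF K ep p.1 * φ p.2)) := by
  induction w with
  | nil => rw [List.map_nil, wordU_nil, map_one]
  | cons p w ih =>
    rw [List.map_cons, wordU_cons, wordU_cons, map_mul,
      ih (fun q hq => hw q (List.mem_cons_of_mem _ hq)),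
      sigma_xU c φ hadd p.1 (hw p List.mem_cons_self)]

/-- the twisted parameters -/
def twP (φ : K →+* K) (ep : List ℤ) (sgi : List ℕ) (t : ℕ → K) : ℕ → K :=
  fun s => epF K ep (sgi.getD s 0) * φ (t (sgi.getD s 0))

theorem sigma_wordL (c : GraphCert D pi sg ep) (φ : K →+* K) (hadd : AllAdd K D) (sgi : List ℕ)
    (hsgi : ∀ r < D.nroots, sgi.getD (sg.getD r 0) 0 = r) (b : List ℕ)
    (hb : ∀ r ∈ b, r < D.nroots) (t : ℕ → K) :
    sigma c φ (hadd.wordU (wordL b t))
      = hadd.wordU (wordL (b.map fun r => sg.getD r 0) (twP φ ep sgi t)) := by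
  rw [sigma_wordU c φ hadd]
  · congr 1
    unfold wordL
    rw [List.map_map, List.map_map]
    apply List.map_congr_left
    intro r hr
    simp only [Function.comp, twP, hsgi r (hb r hr)]
  · intro p hp
    unfold wordL at hp
    rw [List.mem_map] at hp
    obtain ⟨r, hr, rfl⟩ := hp
    exact hb r hr

/-- a block of the order: an orbit of the root permutation, listed along the permutation, whose
root subgroups commute -/
structure BlockOK (D : ChevalleyDatum) (sg : List ℕ) (b : List ℕ) : Prop where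
  lt : ∀ r ∈ b, r < D.nroots
  rot : (b.map fun r => sg.getD r 0) = b.rotate 1
  comm : b.Pairwise fun r s => s ≠ r ∧ s ≠ D.neg r ∧ D.commTerms r s = []

instance (D : ChevalleyDatum) (sg b : List ℕ) : Decidable (BlockOK D sg b) :=
  decidable_of_iff ((∀ r ∈ b, r < D.nroots) ∧ ((b.map fun r => sg.getD r 0) = b.rotate 1) ∧
    b.Pairwise fun r s => s ≠ r ∧ s ≠ D.neg r ∧ D.commTerms r s = [])
    ⟨fun h => ⟨h.1, h.2.1, h.2.2⟩, fun h => ⟨h.lt, h.rot, h.comm⟩⟩

/-- root elements with no terms in the commutator formula commute -/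
theorem xU_commute (hD : D ∈ [chevG2, chevB2, chevD4, chevF4, chevE6, chevE7, chevE8])
    (hadd : AllAdd K D) (r s : ℕ) (hr : r < D.nroots) (hs : s < D.nroots) (hne : s ≠ r)
    (hneg : s ≠ D.neg r) (hc : D.commTerms r s = []) (t u : K) :
    Commute (hadd.xU r t) (hadd.xU s u) := by
  have h := comm_formula D hD r s hr hs hne hneg t u
  unfold ChevalleyDatum.commWord at h
  rw [hc, List.map_nil] at h
  unfold ChevalleyDatum.wordMat at h
  rw [List.map_nil, List.prod_nil, Matrix.mul_one] at h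
  symm
  apply Units.ext
  rw [Units.val_mul, Units.val_mul]
  exact h

theorem wordU_rotate (hD : D ∈ [chevG2, chevB2, chevD4, chevF4, chevE6, chevE7, chevE8])
    (hadd : AllAdd K D) (b : List ℕ) (hlt : ∀ r ∈ b, r < D.nroots)
    (hcomm : b.Pairwise fun r s => s ≠ r ∧ s ≠ D.neg r ∧ D.commTerms r s = []) (t : ℕ → K) :
    hadd.wordU (wordL (b.rotate 1) t) = hadd.wordU (wordL b t) := by
  rcases b with _ | ⟨a, rest⟩
  · rfl
  · rw [List.rotate_cons_succ, List.rotate_zero, wordL_append, wordU_append]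
    have e1 : wordL (a :: rest) t = (a, t a) :: wordL rest t := rfl
    have e2 : wordL [a] t = [(a, t a)] := rfl
    rw [e1, wordU_cons, e2, wordU_cons, wordU_nil, mul_one]
    rw [List.pairwise_cons] at hcomm
    have hc : Commute (hadd.wordU (wordL rest t)) (hadd.xU a (t a)) := by
      unfold AllAdd.wordU
      apply Commute.list_prod_left
      intro x hx
      rw [List.mem_map] at hx
      obtain ⟨p, hp, rfl⟩ := hx
      unfold wordL at hp
      rw [List.mem_map] at hp
      obtain ⟨s, hs, rfl⟩ := hp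
      obtain ⟨h1, h2, h3⟩ := hcomm.1 s hs
      exact (xU_commute hD hadd a s (hlt a List.mem_cons_self)
        (hlt s (List.mem_cons_of_mem _ hs)) h1 h2 h3 _ _).symm
    exact hc.eq

theorem sigma_block (hD : D ∈ [chevG2, chevB2, chevD4, chevF4, chevE6, chevE7, chevE8])
    (c : GraphCert D pi sg ep) (φ : K →+* K) (hadd : AllAdd K D) (sgi : List ℕ)
    (hsgi : ∀ r < D.nroots, sgi.getD (sg.getD r 0) 0 = r) (b : List ℕ) (hb : BlockOK D sg b)
    (t : ℕ → K) :
    sigma c φ (hadd.wordU (wordL b t)) = hadd.wordU (wordL b (twP φ ep sgi t)) := by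
  rw [sigma_wordL c φ hadd sgi hsgi b hb.lt, hb.rot, wordU_rotate hD hadd b hb.lt hb.comm]

theorem sigma_blocks (hD : D ∈ [chevG2, chevB2, chevD4, chevF4, chevE6, chevE7, chevE8])
    (c : GraphCert D pi sg ep) (φ : K →+* K) (hadd : AllAdd K D) (sgi : List ℕ)
    (hsgi : ∀ r < D.nroots, sgi.getD (sg.getD r 0) 0 = r) (bs : List (List ℕ))
    (hb : ∀ b ∈ bs, BlockOK D sg b) (t : ℕ → K) :
    sigma c φ (hadd.wordU (wordL bs.flatten t))
      = hadd.wordU (wordL bs.flatten (twP φ ep sgi t)) := by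
  induction bs with
  | nil => rw [List.flatten_nil]; exact map_one _
  | cons b bs ih =>
    rw [List.flatten_cons, wordL_append, wordL_append, wordU_append, wordU_append, map_mul,
      ih (fun b' hb' => hb b' (List.mem_cons_of_mem _ hb')),
      sigma_block hD c φ hadd sgi hsgi b (hb b List.mem_cons_self)]

/-- the fixed elements of `U` in coordinates -/
theorem fixed_iff [Finite K] (hD : D ∈ [chevG2, chevB2, chevD4, chevF4, chevE6, chevE7, chevE8])
    (c : GraphCert D pi sg ep) (φ : K →+* K) (hadd : AllAdd K D) (sgi : List ℕ)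
    (hsgi : ∀ r < D.nroots, sgi.getD (sg.getD r 0) 0 = r) (bs : List (List ℕ))
    (hb : ∀ b ∈ bs, BlockOK D sg b) (hord : OrdOK D bs.flatten) (t : ℕ → K) :
    hadd.wordU (wordL bs.flatten t) ∈ fixS c φ ↔ ∀ r ∈ bs.flatten, twP φ ep sgi t r = t r := by
  rw [mem_fixS, sigma_blocks hD c φ hadd sgi hsgi bs hb]
  constructor
  · intro h
    exact wordL_injective hD hadd _ hord _ _ h
  · intro h
    rw [wordL_congr _ _ _ h]

end

end Cfsg.Agent.Lib.Helper5.Tw
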