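import Cfsg.Agent.Lib.Helper5.Tw.Sigma
import Cfsg.Agent.Lib.Helper5.Chev.BruhatH
import Cfsg.Agent.Lib.Helper5.Chev.ChevCount
import Mathlib

/-!
# The twisting endomorphism preserves the standard subgroups (helper5)
-/

set_option autoImplicit false

namespace Cfsg.Agent.Lib.Helper5.Tw

open Cfsg.Lie Cfsg.Agent.Lib.Helper5.ChevPerm Cfsg.Agent.Lib.Helper5.ChevPermB
open Cfsg.Agent.Lib.Helper5.Chev
open scoped Matrix

variable {K : Type*} [Field K] {D : ChevalleyDatum} {pi sg : List ℕ} {ep : List ℤ}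

/-- the element `n_r(t)` as a product of root elements -/
def nUt (hadd : AllAdd K D) (r : ℕ) (t : K) : GL D.Idx K :=
  hadd.xU r t * hadd.xU (D.neg r) (-t⁻¹) * hadd.xU r t

theorem nUt_val (hadd : AllAdd K D) (r : ℕ) (t : K) :
    ((nUt hadd r t : GL D.Idx K) : Matrix D.Idx D.Idx K) = D.nMat K r t := by
  unfold nUt
  rw [nMat_eq_prod, Units.val_mul, Units.val_mul, Matrix.mul_assoc]
  rfl

theorem nUt_inv (hadd : AllAdd K D) (r : ℕ) (t : K) : (nUt hadd r t)⁻¹ = nUt hadd r (-t) := by
  unfold nUt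
  rw [mul_inv_rev, mul_inv_rev, xU_inv, xU_inv, inv_neg, neg_neg, mul_assoc]

/-- the element `h_r(t)` as a product -/
theorem hMat_eq (hadd : AllAdd K D) (r : ℕ) (t : K) :
    ((nUt hadd r t * nUt hadd r (-1) : GL D.Idx K) : Matrix D.Idx D.Idx K) = D.hMat K r t := by
  rw [Units.val_mul, nUt_val, nUt_val]
  unfold ChevalleyDatum.hMat ChevalleyDatum.hWord ChevalleyDatum.nMat
  rw [wordMat_append]

theorem hU_mem (hadd : AllAdd K D) (r : ℕ) (hr : r < D.nroots) (t : K) (ht : t ≠ 0) :
    nUt hadd r t * nUt hadd r (-1) ∈ D.diagonalSubgroup K :=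
  Subgroup.subset_closure ⟨r, t, hr, ht, hMat_eq hadd r t⟩

/-- `n_r(a) n_r(b) ∈ H` -/
theorem nUt_mul_mem (hadd : AllAdd K D) (r : ℕ) (hr : r < D.nroots) (a b : K) (ha : a ≠ 0)
    (hb : b ≠ 0) : nUt hadd r a * nUt hadd r b ∈ D.diagonalSubgroup K := by
  have e : nUt hadd r a * nUt hadd r b
      = (nUt hadd r a * nUt hadd r (-1)) * (nUt hadd r (-b) * nUt hadd r (-1))⁻¹ := by
    rw [mul_inv_rev, nUt_inv, nUt_inv, neg_neg, neg_neg]
    have : nUt hadd r (-1) * nUt hadd r (1 : K) = 1 := by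
      rw [← nUt_inv hadd r (1 : K), inv_mul_cancel]
    rw [mul_assoc, ← mul_assoc (nUt hadd r (-1)), this, one_mul]
  rw [e]
  exact Subgroup.mul_mem _ (hU_mem hadd r hr a ha)
    (Subgroup.inv_mem _ (hU_mem hadd r hr (-b) (neg_ne_zero.2 hb)))

section

variable (c : GraphCert D pi sg ep) (φ : K →+* K) (hadd : AllAdd K D)

include c

theorem epF_pm (r : ℕ) (hr : r < D.nroots) : epF K ep r = 1 ∨ epF K ep r = -1 := by
  unfold epF
  rcases c.ep_pm r hr with h | h <;> rw [h] <;> simp

theorem epF_ne_zero (r : ℕ) (hr : r < D.nroots) : epF K ep r ≠ 0 := by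
  rcases epF_pm (K := K) c r hr with h | h <;> rw [h] <;> simp

theorem epF_inv (r : ℕ) (hr : r < D.nroots) : (epF K ep r)⁻¹ = epF K ep r := by
  rcases epF_pm (K := K) c r hr with h | h <;> rw [h] <;> simp

theorem neg_lt' (r : ℕ) (hr : r < D.nroots) : D.neg r < D.nroots := c.neg_lt r hr

/-- the image of `n_r(t)` -/
theorem sigma_nUt (r : ℕ) (hr : r < D.nroots) (t : K) :
    sigma c φ (nUt hadd r t) = nUt hadd (sg.getD r 0) (epF K ep r * φ t) := by
  unfold nUt
  have hnr : D.neg r < D.nroots := c.neg_lt r hr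
  rw [map_mul, map_mul, sigma_xU c φ hadd r hr, sigma_xU c φ hadd (D.neg r) hnr]
  have e1 : sg.getD (D.neg r) 0 = D.neg (sg.getD r 0) := (c.neg_sg r hr).symm
  have e2 : epF K ep (D.neg r) = epF K ep r := by
    unfold epF
    have := c.neg_ep r hr
    unfold ChevalleyDatum.neg
    rw [this]
  rw [e1, e2]
  congr 2
  rw [map_neg, map_inv₀, mul_inv, epF_inv c r hr]
  ring_nf

variable (hpos : ∀ r < D.nroots, (D.nroots / 2 ≤ sg.getD r 0 ↔ D.nroots / 2 ≤ r))
  (hD : D ∈ [chevG2, chevB2, chevD4, chevF4, chevE6, chevE7, chevE8])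

include hpos hD in
theorem sg_isPos (r : ℕ) (hr : D.IsPosRoot r) : D.IsPosRoot (sg.getD r 0) := by
  rw [pos_iff_all D hD _ (c.sg_lt r hr.1), hpos r hr.1, ← pos_iff_all D hD r hr.1]
  exact hr

include hpos hD in
theorem sg_isNeg (r : ℕ) (hr : D.IsNegRoot r) : D.IsNegRoot (sg.getD r 0) := by
  apply neg_of_lt_half D hD _ (c.sg_lt r hr.1)
  have h1 : r < D.nroots / 2 := by
    obtain ⟨T, hA, htri⟩ := tri_known D hD
    have := ((htri r hr.1).2 hr).1
    rwa [hA.nroots_eq] at this
  have h3 := hpos r hr.1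
  omega

include hadd hpos hD in
/-- the twisting endomorphism preserves `U` -/
theorem sigma_pos_mem (g : GL D.Idx K) (hg : g ∈ D.posUnipotent K) :
    sigma c φ g ∈ D.posUnipotent K := by
  have hle : D.posUnipotent K ≤ (D.posUnipotent K).comap (sigma c φ) := by
    unfold ChevalleyDatum.posUnipotent
    rw [Subgroup.closure_le]
    rintro x ⟨r, t, hr, hx⟩
    have hx' : x = hadd.xU r t := Units.ext hx
    rw [SetLike.mem_coe, Subgroup.mem_comap, hx', sigma_xU c φ hadd r hr.1]
    exact Subgroup.subset_closure ⟨_, _, sg_isPos c hpos hD r hr, rfl⟩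
  exact hle hg

include hadd hpos hD in
/-- the twisting endomorphism preserves `V` -/
theorem sigma_neg_mem (g : GL D.Idx K) (hg : g ∈ D.negUnipotent K) :
    sigma c φ g ∈ D.negUnipotent K := by
  have hle : D.negUnipotent K ≤ (D.negUnipotent K).comap (sigma c φ) := by
    unfold ChevalleyDatum.negUnipotent
    rw [Subgroup.closure_le]
    rintro x ⟨r, t, hr, hx⟩
    have hx' : x = hadd.xU r t := Units.ext hx
    rw [SetLike.mem_coe, Subgroup.mem_comap, hx', sigma_xU c φ hadd r hr.1]
    exact Subgroup.subset_closure ⟨_, _, sg_isNeg c hpos hD r hr, rfl⟩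
  exact hle hg

include hadd in
/-- the twisting endomorphism preserves `H` -/
theorem sigma_diag_mem (hφ : Function.Injective φ) (g : GL D.Idx K)
    (hg : g ∈ D.diagonalSubgroup K) : sigma c φ g ∈ D.diagonalSubgroup K := by
  have hle : D.diagonalSubgroup K ≤ (D.diagonalSubgroup K).comap (sigma c φ) := by
    unfold ChevalleyDatum.diagonalSubgroup
    rw [Subgroup.closure_le]
    rintro x ⟨r, t, hr, ht, hx⟩
    have hx' : x = nUt hadd r t * nUt hadd r (-1) := Units.ext (hx.trans (hMat_eq hadd r t).symm)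
    rw [SetLike.mem_coe, Subgroup.mem_comap, hx', map_mul, sigma_nUt c φ hadd r hr,
      sigma_nUt c φ hadd r hr]
    apply nUt_mul_mem hadd _ (c.sg_lt r hr)
    · apply mul_ne_zero (epF_ne_zero c r hr)
      rw [Ne, map_eq_zero_iff φ hφ]
      exact ht
    · apply mul_ne_zero (epF_ne_zero c r hr)
      rw [map_neg, map_one]
      simp
  exact hle hg

include hadd in
/-- the twisting endomorphism preserves `N` -/
theorem sigma_mono_mem (hφ : Function.Injective φ) (g : GL D.Idx K)
    (hg : g ∈ D.monomialSubgroup K) : sigma c φ g ∈ D.monomialSubgroup K := by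
  have hle : D.monomialSubgroup K ≤ (D.monomialSubgroup K).comap (sigma c φ) := by
    unfold ChevalleyDatum.monomialSubgroup
    apply sup_le
    · intro x hx
      exact Subgroup.mem_sup_left (sigma_diag_mem c φ hadd hφ x hx)
    · rw [Subgroup.closure_le]
      rintro x ⟨r, hr, hx⟩
      have hx' : x = nUt hadd r 1 := Units.ext (hx.trans (nUt_val hadd r 1).symm)
      rw [SetLike.mem_coe, Subgroup.mem_comap, hx', sigma_nUt c φ hadd r hr, map_one, mul_one]
      have h1 : nUt hadd (sg.getD r 0) (1 : K) ∈ Subgroup.closure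
          {g : GL D.Idx K | ∃ r : ℕ, r < D.nroots ∧ (g : Matrix D.Idx D.Idx K) = D.nMat K r 1} :=
        Subgroup.subset_closure ⟨_, c.sg_lt r hr, nUt_val hadd _ 1⟩
      apply Subgroup.mem_sup_right
      rcases epF_pm (K := K) c r hr with h | h
      · rw [h]; exact h1
      · rw [h, ← nUt_inv]; exact Subgroup.inv_mem _ h1
  exact hle hg

include hadd hpos hD in
/-- the twisting endomorphism preserves `B` -/
theorem sigma_borel_mem (hφ : Function.Injective φ) (g : GL D.Idx K)
    (hg : g ∈ D.borelSubgroup K) : sigma c φ g ∈ D.borelSubgroup K := by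
  have hle : D.borelSubgroup K ≤ (D.borelSubgroup K).comap (sigma c φ) := by
    unfold ChevalleyDatum.borelSubgroup
    apply sup_le
    · intro x hx
      exact Subgroup.mem_sup_left (sigma_pos_mem c φ hadd hpos hD x hx)
    · intro x hx
      exact Subgroup.mem_sup_right (sigma_diag_mem c φ hadd hφ x hx)
  exact hle hg

include hadd hpos hD in
/-- the twisting endomorphism maps `U_n⁻` into `U_{σ n}⁻` -/
theorem sigma_uneg_mem (hφ : Function.Surjective φ) (n u : GL D.Idx K)
    (hu : u ∈ Subgroup.closure (unegSet K D n)) :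
    sigma c φ u ∈ Subgroup.closure (unegSet K D (sigma c φ n)) := by
  have hle : Subgroup.closure (unegSet K D n)
      ≤ (Subgroup.closure (unegSet K D (sigma c φ n))).comap (sigma c φ) := by
    rw [Subgroup.closure_le]
    rintro x ⟨r, t, hr, hmap, hx⟩
    have hx' : x = hadd.xU r t := Units.ext hx
    rw [SetLike.mem_coe, Subgroup.mem_comap, hx', sigma_xU c φ hadd r hr.1]
    apply Subgroup.subset_closure
    refine ⟨_, _, sg_isPos c hpos hD r hr, ?_, rfl⟩
    rw [map_root_le_iff hadd] at hmap ⊢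
    intro t'
    obtain ⟨t'', ht''⟩ := hφ (epF K ep r * t')
    have e : hadd.xU (sg.getD r 0) t' = sigma c φ (hadd.xU r t'') := by
      rw [sigma_xU c φ hadd r hr.1, ht'', ← mul_assoc]
      rcases epF_pm (K := K) c r hr.1 with h | h <;> rw [h] <;> simp
    rw [e, ← map_inv, ← map_mul, ← map_mul]
    exact sigma_neg_mem c φ hadd hpos hD _ (hmap t'')
  exact hle hu

end

end Cfsg.Agent.Lib.Helper5.Tw
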