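import Cfsg.Agent.Lib.Helper5.Tw.Sigma
import Cfsg.Agent.Lib.Helper5.Chev.ChevCard
import Cfsg.Agent.Lib.Helper5.Chev.BorelCard
import Mathlib

/-!
# Ordered products of root elements for an arbitrary good order of the roots (helper5)
-/

set_option autoImplicit false

namespace Cfsg.Agent.Lib.Helper5.Tw

open Cfsg.Lie Cfsg.Agent.Lib.Helper5.ChevPerm Cfsg.Agent.Lib.Helper5.ChevPermB
open Cfsg.Agent.Lib.Helper5.Chev
open scoped Matrix

section

variable {K : Type*} [Field K] {D : ChevalleyDatum}

/-- the generators of the subgroup of a list of roots -/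
def genUL (K : Type*) [Field K] (D : ChevalleyDatum) (L : List ℕ) : Set (GL D.Idx K) :=
  {g | ∃ r ∈ L, ∃ t : K, (g : Matrix D.Idx D.Idx K) = D.x K r t}

/-- the subgroup generated by the root subgroups of a list of roots -/
def UL (K : Type*) [Field K] (D : ChevalleyDatum) (L : List ℕ) : Subgroup (GL D.Idx K) :=
  Subgroup.closure (genUL K D L)

theorem xU_mem_UL (hadd : AllAdd K D) (L : List ℕ) (r : ℕ) (hr : r ∈ L) (t : K) :
    hadd.xU r t ∈ UL K D L :=
  Subgroup.subset_closure ⟨r, hr, t, rfl⟩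

theorem UL_mono {L L' : List ℕ} (h : ∀ r ∈ L, r ∈ L') : UL K D L ≤ UL K D L' := by
  apply Subgroup.closure_mono
  rintro g ⟨r, hr, t, hg⟩
  exact ⟨r, h r hr, t, hg⟩

/-- the word of a list of roots with parameters -/
def wordL (L : List ℕ) (t : ℕ → K) : List (ℕ × K) := L.map fun r => (r, t r)

omit [Field K] in
theorem wordL_append (L L' : List ℕ) (t : ℕ → K) : wordL (L ++ L') t = wordL L t ++ wordL L' t := by
  unfold wordL
  rw [List.map_append]

theorem wordU_append (hadd : AllAdd K D) (w w' : List (ℕ × K)) :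
    hadd.wordU (w ++ w') = hadd.wordU w * hadd.wordU w' := by
  unfold AllAdd.wordU
  rw [List.map_append, List.prod_append]

theorem wordU_wordL_mem (hadd : AllAdd K D) (L L' : List ℕ) (hsub : ∀ r ∈ L, r ∈ L') (t : ℕ → K) :
    hadd.wordU (wordL L t) ∈ UL K D L' := by
  unfold AllAdd.wordU
  apply Subgroup.list_prod_mem
  intro g hg
  rw [List.mem_map] at hg
  obtain ⟨p, hp, rfl⟩ := hg
  unfold wordL at hp
  rw [List.mem_map] at hp
  obtain ⟨r, hr, rfl⟩ := hp
  exact xU_mem_UL hadd L' r (hsub r hr) _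

omit [Field K] in
theorem wordL_congr (L : List ℕ) (t t' : ℕ → K) (h : ∀ r ∈ L, t r = t' r) :
    wordL L t = wordL L t' := by
  unfold wordL
  apply List.map_congr_left
  intro r hr
  rw [h r hr]

/-- an order of roots in which the terms of the commutator formula come later -/
def GoodL (D : ChevalleyDatum) : List ℕ → Prop
  | [] => True
  | r :: B => (r < D.nroots ∧ ∀ s ∈ B, s < D.nroots ∧ s ≠ r ∧ s ≠ D.neg r ∧
      ∀ c ∈ D.commTerms r s, c.1 ∈ B) ∧ GoodL D B

instance decGoodL (D : ChevalleyDatum) : (L : List ℕ) → Decidable (GoodL D L)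
  | [] => isTrue trivial
  | r :: B => by
    unfold GoodL
    haveI := decGoodL D B
    infer_instance

theorem GoodL.suffix {L : List ℕ} : ∀ (A : List ℕ), GoodL D (A ++ L) → GoodL D L
  | [], h => h
  | _ :: A, h => GoodL.suffix A h.2

/-- a root element normalises the subgroup of the later roots -/
theorem xU_mem_normalizer_UL (hD : D ∈ [chevG2, chevB2, chevD4, chevF4, chevE6, chevE7, chevE8])
    (hadd : AllAdd K D) (r : ℕ) (B : List ℕ) (hg : GoodL D (r :: B)) (t : K) :
    hadd.xU r t ∈ Subgroup.normalizer (UL K D B : Set (GL D.Idx K)) := by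
  obtain ⟨⟨hr, hB⟩, -⟩ := hg
  have key : ∀ (t' : K) (g : GL D.Idx K), g ∈ genUL K D B →
      (hadd.xU r t')⁻¹ * g * hadd.xU r t' ∈ UL K D B := by
    rintro t' g ⟨s, hs, u, hgv⟩
    have hg' : g = hadd.xU s u := Units.ext hgv
    obtain ⟨hslt, hne, hneg, hterms⟩ := hB s hs
    have hcm : CommOK K D r s := fun t u => comm_formula D hD r s hr hslt hne hneg t u
    rw [hg', hadd.conj_of_comm r s hcm t' u]
    apply Subgroup.mul_mem _ (xU_mem_UL hadd B s hs u)
    unfold AllAdd.wordU
    apply Subgroup.list_prod_mem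
    intro y hy
    rw [List.mem_map] at hy
    obtain ⟨pr, hpr, rfl⟩ := hy
    unfold ChevalleyDatum.commWord at hpr
    rw [List.mem_map] at hpr
    obtain ⟨c, hc', rfl⟩ := hpr
    exact xU_mem_UL hadd B c.1 (hterms c hc') _
  have hinv : (hadd.xU r t)⁻¹ = hadd.xU r (-t) := xU_inv hadd r t
  unfold UL
  apply mem_normalizer_closure
  · intro g hg
    have := key (-t) g hg
    rw [← hinv, inv_inv] at this
    exact this
  · intro g hg
    exact key t g hg

theorem UL_nil : UL K D [] = ⊥ := by
  unfold UL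
  rw [Subgroup.closure_eq_bot_iff]
  rintro g ⟨r, hr, -⟩
  exact absurd hr List.not_mem_nil

theorem UL_cons (r : ℕ) (B : List ℕ) : UL K D (r :: B) = D.rootSubgroup K r ⊔ UL K D B := by
  apply le_antisymm
  · unfold UL
    rw [Subgroup.closure_le]
    rintro g ⟨s, hs, t, hg⟩
    rcases List.mem_cons.1 hs with rfl | hs
    · apply Subgroup.mem_sup_left
      exact Subgroup.subset_closure ⟨t, hg⟩
    · apply Subgroup.mem_sup_right
      exact Subgroup.subset_closure ⟨s, hs, t, hg⟩
  · apply sup_le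
    · unfold ChevalleyDatum.rootSubgroup UL
      apply Subgroup.closure_mono
      rintro g ⟨t, hg⟩
      exact ⟨r, List.mem_cons_self, t, hg⟩
    · exact UL_mono (fun s hs => List.mem_cons_of_mem _ hs)

theorem rootSubgroup_le_normalizer_UL (hD : D ∈ [chevG2, chevB2, chevD4, chevF4, chevE6, chevE7, chevE8])
    (hadd : AllAdd K D) (r : ℕ) (B : List ℕ) (hg : GoodL D (r :: B)) :
    D.rootSubgroup K r ≤ Subgroup.normalizer (UL K D B : Set (GL D.Idx K)) := by
  unfold ChevalleyDatum.rootSubgroup
  rw [Subgroup.closure_le]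
  rintro g ⟨t, hgv⟩
  have hg' : g = hadd.xU r t := Units.ext hgv
  rw [hg']
  exact xU_mem_normalizer_UL hD hadd r B hg t

/-- every element of the subgroup of a good list is an ordered product -/
theorem exists_wordL (hD : D ∈ [chevG2, chevB2, chevD4, chevF4, chevE6, chevE7, chevE8])
    (hadd : AllAdd K D) : ∀ L : List ℕ, GoodL D L → ∀ g ∈ UL K D L,
      ∃ t : ℕ → K, g = hadd.wordU (wordL L t)
  | [], _, g, hg => by
    rw [UL_nil, Subgroup.mem_bot] at hg
    exact ⟨fun _ => 0, by rw [hg]; rfl⟩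
  | r :: B, hgood, g, hg => by
    rw [UL_cons, ← SetLike.mem_coe, Subgroup.coe_mul_of_left_le_normalizer_right _ _
      (rootSubgroup_le_normalizer_UL hD hadd r B hgood), Set.mem_mul] at hg
    obtain ⟨x, hx, g', hg', rfl⟩ := hg
    obtain ⟨a, rfl⟩ := (mem_rootSubgroup_iff hadd r x).1 hx
    obtain ⟨t', rfl⟩ := exists_wordL hD hadd B hgood.2 g' hg'
    refine ⟨Function.update t' r a, ?_⟩
    have hnot : ∀ s ∈ B, s ≠ r := fun s hs => (hgood.1.2 s hs).2.1
    have e1 : wordL (r :: B) (Function.update t' r a) = (r, a) :: wordL B t' := by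
      unfold wordL
      rw [List.map_cons, Function.update_self]
      congr 1
      apply List.map_congr_left
      intro s hs
      rw [Function.update_of_ne (hnot s hs)]
    rw [e1, wordU_cons]

theorem wordU_mem_UL (hadd : AllAdd K D) (L : List ℕ) (w : List (ℕ × K)) (h : ∀ p ∈ w, p.1 ∈ L) :
    hadd.wordU w ∈ UL K D L := by
  unfold AllAdd.wordU
  apply Subgroup.list_prod_mem
  intro g hg
  rw [List.mem_map] at hg
  obtain ⟨p, hp, rfl⟩ := hg
  exact xU_mem_UL hadd L p.1 (h p hp) _

/-- the properties of an order of the positive roots -/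
structure OrdOK (D : ChevalleyDatum) (L : List ℕ) : Prop where
  good : GoodL D L
  pos : ∀ r ∈ L, D.IsPosRoot r
  all : ∀ r < D.nroots, D.IsPosRoot r → r ∈ L
  len : L.length = D.nroots / 2

theorem UL_eq_posUnipotent {L : List ℕ} (h : OrdOK D L) : UL K D L = D.posUnipotent K := by
  unfold UL ChevalleyDatum.posUnipotent
  congr 1
  ext g
  constructor
  · rintro ⟨r, hr, t, hg⟩
    exact ⟨r, t, h.pos r hr, hg⟩
  · rintro ⟨r, t, hr, hg⟩
    exact ⟨r, h.all r hr.1 hr, t, hg⟩

omit [Field K] in
theorem map_eq_ofFn {α : Type*} (L : List ℕ) (g : ℕ → α) :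
    L.map g = List.ofFn (fun i : Fin L.length => g L[i]) := by
  apply List.ext_getElem
  · simp
  · intro i h1 h2
    simp

/-- the parameters of an ordered product over all positive roots are determined -/
theorem wordL_injective [Finite K] (hD : D ∈ [chevG2, chevB2, chevD4, chevF4, chevE6, chevE7, chevE8])
    (hadd : AllAdd K D) (L : List ℕ) (h : OrdOK D L) (t t' : ℕ → K)
    (e : hadd.wordU (wordL L t) = hadd.wordU (wordL L t')) : ∀ r ∈ L, t r = t' r := by
  classical
  have hU := UL_eq_posUnipotent (K := K) h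
  let f : (Fin L.length → K) → ↥(D.posUnipotent K) := fun a =>
    ⟨hadd.wordU (List.ofFn fun i : Fin L.length => (L[i], a i)), by
      rw [← hU]
      apply wordU_mem_UL hadd L
      intro p hp
      rw [List.mem_ofFn] at hp
      obtain ⟨i, rfl⟩ := hp
      exact List.getElem_mem _⟩
  have hw : ∀ s : ℕ → K, wordL L s = List.ofFn fun i : Fin L.length => (L[i], s L[i]) :=
    fun s => map_eq_ofFn L _
  have hsurj : Function.Surjective f := by
    intro g
    have hg : (g : GL D.Idx K) ∈ UL K D L := by rw [hU]; exact g.2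
    obtain ⟨s, hs⟩ := exists_wordL hD hadd L h.good _ hg
    refine ⟨fun i => s L[i], ?_⟩
    apply Subtype.ext
    show hadd.wordU (List.ofFn fun i : Fin L.length => (L[i], s L[i])) = g
    rw [← hw, ← hs]
  have hcard : Nat.card (Fin L.length → K) ≤ Nat.card ↥(D.posUnipotent K) := by
    rw [card_posUnipotent D hD, Nat.card_fun, Nat.card_fin, h.len]
  have hinj := (hsurj.bijective_of_nat_card_le hcard).1
  have e2 : f (fun i => t L[i]) = f (fun i => t' L[i]) := by
    apply Subtype.ext
    show hadd.wordU (List.ofFn fun i : Fin L.length => (L[i], t L[i]))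
      = hadd.wordU (List.ofFn fun i : Fin L.length => (L[i], t' L[i]))
    rw [← hw, ← hw, e]
  have e3 := hinj e2
  intro r hr
  obtain ⟨i, hi, rfl⟩ := List.mem_iff_getElem.1 hr
  exact congrFun e3 ⟨i, hi⟩

end

end Cfsg.Agent.Lib.Helper5.Tw
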