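import Cfsg.Agent.Lib.Helper5.Tw.TorusTw
import Cfsg.Agent.Lib.Helper5.Chev.Core
import Cfsg.Agent.Lib.Helper5.Chev.Longest
import Mathlib

/-!
# The intersection of the conjugates of `B ∩ Q` in a twisted group (helper5)
-/

set_option autoImplicit false
set_option linter.unusedSectionVars false

namespace Cfsg.Agent.Lib.Helper5.Tw

open Cfsg.Lie Cfsg.Agent.Lib.Helper5.ChevPerm Cfsg.Agent.Lib.Helper5.ChevPermB
open Cfsg.Agent.Lib.Helper5.Chev
open scoped Matrix

section

variable {K : Type*} [Field K] {D : ChevalleyDatum}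

/-- the conjugate of a word by an element acting by a character -/
theorem conj_char_wordU (hadd : AllAdd K D) (g : GL D.Idx K) (χ : ℕ → Kˣ)
    (hχ : ∀ s < D.nroots, ∀ u : K, g * hadd.xU s u * g⁻¹ = hadd.xU s ((χ s : K) * u))
    (w : List (ℕ × K)) (hw : ∀ p ∈ w, p.1 < D.nroots) :
    g * hadd.wordU w * g⁻¹ = hadd.wordU (w.map fun p => (p.1, (χ p.1 : K) * p.2)) := by
  induction w with
  | nil =>
    rw [List.map_nil, wordU_nil]
    group
  | cons p w ih =>
    rw [List.map_cons, wordU_cons, wordU_cons,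
      ← ih (fun p' hp' => hw p' (List.mem_cons_of_mem _ hp')),
      ← hχ p.1 (hw p List.mem_cons_self) p.2]
    group

end

namespace TwSetup

variable {K : Type*} [Field K] [Finite K] {D : ChevalleyDatum} (S : TwSetup K D)

include S

/-- the family of parameters `1` on an orbit is fixed -/
theorem one_family_mem {J : List ℕ} (hJ : J ∈ S.Ws) {rest : List (List ℕ)}
    (hok : JOK D S.Bs S.sg J rest) :
    S.hadd.wordU (wordL (J.map D.simple) fun _ => (1 : K)) ∈ S.XJ J := by
  refine ⟨wordU_wordL_mem S.hadd _ _ (fun r hr => hr) _, ?_⟩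
  show _ ∈ fixS S.c S.φ
  have hb := hok.block _ List.mem_cons_self
  rw [mem_fixS, sigma_block S.hD S.c S.φ S.hadd S.sgi S.hsgi _ hb]
  congr 1
  apply wordL_congr
  intro r hr
  have hsgi_mem : S.sgi.getD r 0 ∈ J.map D.simple := by
    have hr2 : r ∈ (J.map D.simple).rotate 1 := List.mem_rotate.2 hr
    rw [← hb.rot, List.mem_map] at hr2
    obtain ⟨r', hr', e⟩ := hr2
    rw [← e, S.hsgi r' (S.rJ_lt hok r' hr')]
    exact hr'
  unfold twP
  rw [List.mem_map] at hsgi_mem
  obtain ⟨i, hi, e⟩ := hsgi_mem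
  unfold epF
  rw [← e, S.hep i (S.hJw hJ i hi)]
  simp

/-- the parameters of an element of the subgroup of an orbit are unique -/
theorem XJ_wordL_inj {J : List ℕ} {rest : List (List ℕ)} (hok : JOK D S.Bs S.sg J rest)
    (t t' : ℕ → K)
    (h : S.hadd.wordU (wordL (J.map D.simple) t) = S.hadd.wordU (wordL (J.map D.simple) t')) :
    ∀ r ∈ J.map D.simple, t r = t' r := by
  classical
  set t1 : ℕ → K := fun r => if r ∈ J.map D.simple then t r else 0 with ht1
  set t1' : ℕ → K := fun r => if r ∈ J.map D.simple then t' r else 0 with ht1'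
  have hc : wordL (J.map D.simple) t1 = wordL (J.map D.simple) t :=
    wordL_congr _ _ _ (fun r hr => if_pos hr)
  have hc' : wordL (J.map D.simple) t1' = wordL (J.map D.simple) t' :=
    wordL_congr _ _ _ (fun r hr => if_pos hr)
  have hnd := hok.nodup
  rw [List.flatten_cons, List.nodup_append] at hnd
  have hz : S.hadd.wordU (wordL rest.flatten t1) = 1 := by
    apply wordU_wordL_zero
    intro r hr
    exact if_neg (fun h => hnd.2.2 r h r hr rfl)
  have hz' : S.hadd.wordU (wordL rest.flatten t1') = 1 := by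
    apply wordU_wordL_zero
    intro r hr
    exact if_neg (fun h => hnd.2.2 r h r hr rfl)
  have e1 : S.hadd.wordU (wordL ((J.map D.simple) :: rest).flatten t1)
      = S.hadd.wordU (wordL ((J.map D.simple) :: rest).flatten t1') := by
    rw [List.flatten_cons, wordL_append, wordL_append, wordU_append, wordU_append, hz, hz', hc,
      hc', h]
  have hinj := wordL_injective S.hD S.hadd _ hok.ord _ _ e1
  intro r hr
  have := hinj r (by rw [List.flatten_cons]; exact List.mem_append_left _ hr)
  rw [ht1, ht1'] at this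
  simp only [if_pos hr] at this
  exact this

/-- an element of the twisted group all of whose conjugates lie in `B` is trivial -/
theorem core_trivial (Js0 : List (List ℕ)) (hJs0 : ∀ J ∈ Js0, J ∈ S.Ws)
    (hw0 : w0b D S.Bs Js0.flatten = true) (Mt : Matrix (Fin D.rank) (Fin D.nroots) ℤ)
    (hC : cartanM D = cartanA D * Mt) (g : GL D.Idx K)
    (hg : ∀ y ∈ S.Q, y * g * y⁻¹ ∈ D.borelSubgroup K) : g = 1 := by
  classical
  have hadd := S.hadd
  have hL : ∀ i ∈ Js0.flatten, i < D.rank := by
    intro i hi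
    rw [List.mem_flatten] at hi
    obtain ⟨J, hJ, hiJ⟩ := hi
    exact S.hJw (hJs0 J hJ) i hiJ
  -- the longest element
  have hn0Q : S.nW Js0.flatten ∈ S.Q := S.nJs_mem Js0 hJs0
  have hn0 : S.nW Js0.flatten ∈ D.monomialSubgroup K := S.nW_mem _
  have hmap : (D.posUnipotent K).map (MulAut.conj (S.nW Js0.flatten)).toMonoidHom
      = D.negUnipotent K := by
    apply le_antisymm
    · rw [Subgroup.map_le_iff_le_comap]
      unfold ChevalleyDatum.posUnipotent
      rw [Subgroup.closure_le]
      rintro x ⟨r, t, hr, hx⟩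
      have hx' : x = S.hadd.xU r t := Units.ext hx
      subst hx'
      show (MulAut.conj (S.nW Js0.flatten)).toMonoidHom (S.hadd.xU r t) ∈ D.negUnipotent K
      obtain ⟨h1, t', h2⟩ := conj_word S.hA S.hadd S.Bs S.hB _ hL r hr.1 t
      have : (MulAut.conj (S.nW Js0.flatten)).toMonoidHom (S.hadd.xU r t)
          = S.hadd.xU (wW S.Bs Js0.flatten r) t' := by
        rw [← h2]; rfl
      rw [this]
      apply Subgroup.subset_closure
      exact ⟨_, t', (w0b_spec D S.Bs _ hw0 r hr.1).1 hr, rfl⟩
    · unfold ChevalleyDatum.negUnipotent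
      rw [Subgroup.closure_le]
      rintro x ⟨r, t, hr, hx⟩
      have hx' : x = S.hadd.xU r t := Units.ext hx
      subst hx'
      obtain ⟨h1, t', h2⟩ := conj_word' S.hA S.hadd S.Bs S.hB _ hL r hr.1 t
      rw [SetLike.mem_coe, Subgroup.mem_map]
      refine ⟨S.hadd.xU (wW' S.Bs Js0.flatten r) t', ?_, ?_⟩
      · apply Subgroup.subset_closure
        exact ⟨_, t', (w0b_spec D S.Bs _ hw0 r hr.1).2 hr, rfl⟩
      · rw [← h2]
        show S.nW Js0.flatten * _ * (S.nW Js0.flatten)⁻¹ = _
        show nWordU S.hA S.hadd Js0.flatten * _ * (nWordU S.hA S.hadd Js0.flatten)⁻¹ = _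
        group
  -- the core lies in `H`
  have stepA : ∀ g' : GL D.Idx K, (∀ y ∈ S.Q, y * g' * y⁻¹ ∈ D.borelSubgroup K) →
      g' ∈ D.diagonalSubgroup K := by
    intro g' hg'
    set n0 := S.nW Js0.flatten with hn0def
    have h1 : g' ∈ D.borelSubgroup K := by
      have := hg' 1 (Subgroup.one_mem _)
      simpa using this
    have h2 := hg' n0⁻¹ (Subgroup.inv_mem _ hn0Q)
    rw [inv_inv] at h2
    have h3 : g' ∈ D.negUnipotent K ⊔ D.diagonalSubgroup K := by
      have e : g' = (MulAut.conj n0).toMonoidHom (n0⁻¹ * g' * n0) := by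
        simp [MulAut.conj_apply, mul_assoc]
      have h4 : (MulAut.conj n0).toMonoidHom (n0⁻¹ * g' * n0) ∈
          (D.borelSubgroup K).map (MulAut.conj n0).toMonoidHom :=
        Subgroup.mem_map_of_mem _ h2
      rw [← e] at h4
      unfold ChevalleyDatum.borelSubgroup at h4
      rw [Subgroup.map_sup, hmap] at h4
      have hle : D.negUnipotent K ⊔ (D.diagonalSubgroup K).map (MulAut.conj n0).toMonoidHom ≤
          D.negUnipotent K ⊔ D.diagonalSubgroup K := by
        apply sup_le_sup_left
        rintro x ⟨h, hh, rfl⟩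
        have := (Subgroup.mem_normalizer_iff.1 (S.hNH hn0) h).1 hh
        simpa [MulAut.conj_apply] using this
      exact hle h4
    have := (borel_inf_neg_all (F := K) D S.hD).2
    rw [← this]
    exact ⟨h1, h3⟩
  have hgH := stepA g hg
  -- `g` commutes with the fixed points of `U`
  have hcomm : ∀ x ∈ S.U1, g * x * g⁻¹ = x := by
    intro x hx
    have hxQ := S.U1_le_Q hx
    have h1 : x * g * x⁻¹ ∈ D.diagonalSubgroup K := by
      apply stepA
      intro y hy
      have := hg (y * x) (Subgroup.mul_mem _ hy hxQ)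
      have e : y * x * g * (y * x)⁻¹ = y * (x * g * x⁻¹) * y⁻¹ := by group
      rw [e] at this
      exact this
    have h2 : g⁻¹ * (x * g * x⁻¹) ∈ D.posUnipotent K ⊓ D.diagonalSubgroup K := by
      refine ⟨?_, Subgroup.mul_mem _ (Subgroup.inv_mem _ hgH) h1⟩
      have h3 := (conj_mem_of_normalizer _ _ _ (S.hHU hgH) hx.1).2
      have e : g⁻¹ * (x * g * x⁻¹) = (g⁻¹ * x * g) * x⁻¹ := by group
      rw [e]
      exact Subgroup.mul_mem _ h3 (Subgroup.inv_mem _ hx.1)
    rw [(borel_semidirect_all (F := K) D S.hD).2, Subgroup.mem_bot] at h2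
    have h3 : x * g * x⁻¹ = g := by
      have : x * g * x⁻¹ = g * (g⁻¹ * (x * g * x⁻¹)) := by group
      rw [this, h2, mul_one]
    calc g * x * g⁻¹ = (x * g * x⁻¹) * x * g⁻¹ := by rw [h3]
      _ = x := by group
  obtain ⟨χ, hχ1, hχ2⟩ := diag_conj_char D S.hD g hgH
  -- the character is trivial on the fundamental roots
  have hchi : ∀ i < D.rank, (χ (D.simple i) : K) = 1 := by
    intro i hi
    have hi' : i < S.W.l := by show i < S.T.rank; rw [S.hl]; exact hi
    obtain ⟨J, hJ, hiJ⟩ := S.O.cover i hi'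
    obtain ⟨rest, hok⟩ := S.jok J hJ
    have hx := S.one_family_mem hJ hok
    have h1 := hcomm _ (S.XJ_le_U1 hok hx)
    have hw : ∀ p ∈ wordL (J.map D.simple) (fun _ => (1 : K)), p.1 < D.nroots := by
      intro p hp
      unfold wordL at hp
      rw [List.mem_map] at hp
      obtain ⟨r, hr, rfl⟩ := hp
      exact S.rJ_lt hok r hr
    rw [conj_char_wordU S.hadd g χ hχ2 _ hw] at h1
    have e : (wordL (J.map D.simple) (fun _ => (1 : K))).map
        (fun p => (p.1, (χ p.1 : K) * p.2))
        = wordL (J.map D.simple) (fun r => (χ r : K) * 1) := by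
      unfold wordL
      rw [List.map_map]
      rfl
    rw [e] at h1
    have := S.XJ_wordL_inj hok _ _ h1 (D.simple i) (List.mem_map.2 ⟨i, hiJ, rfl⟩)
    rw [mul_one] at this
    exact this
  -- the parameters
  have hgr : g ∈ (D.diagonalSubgroup K : Set (GL D.Idx K)) := hgH
  rw [range_hU S.hD] at hgr
  obtain ⟨c, rfl⟩ := hgr
  have hval : ∀ v : Fin D.nroots, ((zact (cartanM D) c v : Kˣ) : K) = (χ v.val : K) := by
    intro v
    have h1 : ((hU K D c : GL D.Idx K) : Matrix D.Idx D.Idx K) = D.charDiag K χ := hχ1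
    rw [hU_apply, diagU_val] at h1
    unfold ChevalleyDatum.charDiag at h1
    exact congrFun (Matrix.diagonal_injective h1) (Sum.inr v)
  have hs : ∀ j < D.rank, D.simple j < D.nroots := fun j hj => simple_lt' S.hA hj
  have hA1 : zact (cartanA D) c = 1 := by
    funext j
    have h2 := hval ⟨D.simple j, hs j j.2⟩
    rw [hchi j j.2] at h2
    have h3 : zact (cartanM D) c ⟨D.simple j, hs j j.2⟩ = 1 := Units.ext h2
    rw [zact_apply] at h3 ⊢
    exact h3
  have hker : c ∈ (zact (G := Kˣ) (cartanM D)).ker := by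
    rw [ker_cartanM_eq Mt hC hs, MonoidHom.mem_ker]
    exact hA1
  rw [MonoidHom.mem_ker] at hker
  rw [hU_apply, hker, diagU_one]

end TwSetup

end Cfsg.Agent.Lib.Helper5.Tw
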