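import Cfsg.Agent.Lib.Helper5.Tw.CountTw
import Cfsg.Agent.Lib.Helper5.Tw.TorusTw
import Cfsg.Agent.Lib.Helper5.Tw.CoreTw
import Cfsg.Agent.Lib.Helper5.AutBN.ChevFacts2
import Cfsg.Agent.Lib.Helper5.AutBN.Core
import Cfsg.Agent.Lib.Helper5.St.DFacts
import Mathlib

/-!
# The opposite unipotent subgroup of a twisted group (helper5)

In the general setting `TwSetup`: the subgroup `V¹` of the fixed points of `V`, its relation with
`U¹` through the longest element, and the characterisation of the conjugates of `U¹` opposite to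
`B¹`.
-/

set_option autoImplicit false
set_option linter.unusedSectionVars false

namespace Cfsg.Agent.Lib.Helper5.Tw

open Cfsg.Lie Cfsg.Agent.Lib.Helper5.ChevPerm Cfsg.Agent.Lib.Helper5.ChevPermB
open Cfsg.Agent.Lib.Helper5.Chev Cfsg.Agent.Lib.Helper5.AutBN
open scoped Matrix

namespace TwSetup

variable {K : Type*} [Field K] [Finite K] {D : ChevalleyDatum} (S : TwSetup K D)

/-- the fixed points of `V` -/
noncomputable def V1 : Subgroup (GL D.Idx K) := D.negUnipotent K ⊓ fixS S.c S.φ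

include S

theorem cj_fixS {g : GL D.Idx K} (hg : g ∈ fixS S.c S.φ) :
    cj g (fixS S.c S.φ) = fixS S.c S.φ :=
  cj_of_mem_normalizer (Subgroup.le_normalizer hg)

theorem cj_Q {g : GL D.Idx K} (hg : g ∈ S.Q) : cj g S.Q = S.Q :=
  cj_of_mem_normalizer (Subgroup.le_normalizer hg)

/-- the conjugate by a word of the subgroup generated by a set of root subgroups -/
theorem cj_roots_le (g : GL D.Idx K) (P Q : ℕ → Prop) (f : ℕ → ℕ)
    (h : ∀ r, P r → ∀ t : K, ∃ t' : K, g * S.hadd.xU r t * g⁻¹ = S.hadd.xU (f r) t' ∧ Q (f r)) :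
    cj g (Subgroup.closure {x : GL D.Idx K | ∃ (r : ℕ) (t : K), P r ∧
        (x : Matrix D.Idx D.Idx K) = D.x K r t})
      ≤ Subgroup.closure {x : GL D.Idx K | ∃ (r : ℕ) (t : K), Q r ∧
        (x : Matrix D.Idx D.Idx K) = D.x K r t} := by
  unfold cj
  rw [Subgroup.map_le_iff_le_comap, Subgroup.closure_le]
  rintro x ⟨r, t, hr, hx⟩
  have hx' : x = S.hadd.xU r t := Units.ext hx
  subst hx'
  obtain ⟨t', h2, h3⟩ := h r hr t
  rw [SetLike.mem_coe, Subgroup.mem_comap]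
  have : (MulAut.conj g).toMonoidHom (S.hadd.xU r t) = S.hadd.xU (f r) t' := by
    rw [← h2]
    rfl
  rw [this]
  exact Subgroup.subset_closure ⟨_, t', h3, rfl⟩

section longest

variable (Js0 : List (List ℕ)) (hJs0 : ∀ J ∈ Js0, J ∈ S.Ws)
  (hw0 : w0b D S.Bs Js0.flatten = true) (hw0r : w0b D S.Bs Js0.flatten.reverse = true)

include hJs0 in
theorem hL0 : ∀ i ∈ Js0.flatten, i < D.rank := by
  intro i hi
  rw [List.mem_flatten] at hi
  obtain ⟨J, hJ, hiJ⟩ := hi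
  exact S.hJw (hJs0 J hJ) i hiJ

include hJs0 hw0 in
/-- the longest element conjugates `U` to `V` -/
theorem cj_n0_pos : cj (S.nW Js0.flatten) (D.posUnipotent K) = D.negUnipotent K := by
  have hL := S.hL0 Js0 hJs0
  apply le_antisymm
  · apply S.cj_roots_le (S.nW Js0.flatten) D.IsPosRoot D.IsNegRoot (wW S.Bs Js0.flatten)
    intro r hr t
    obtain ⟨-, t', h2⟩ := conj_word S.hA S.hadd S.Bs S.hB _ hL r hr.1 t
    exact ⟨t', h2, (w0b_spec D S.Bs _ hw0 r hr.1).1 hr⟩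
  · have h1 : cj (S.nW Js0.flatten)⁻¹ (D.negUnipotent K) ≤ D.posUnipotent K := by
      apply S.cj_roots_le (S.nW Js0.flatten)⁻¹ D.IsNegRoot D.IsPosRoot (wW' S.Bs Js0.flatten)
      intro r hr t
      obtain ⟨-, t', h2⟩ := conj_word' S.hA S.hadd S.Bs S.hB _ hL r hr.1 t
      refine ⟨t', ?_, (w0b_spec D S.Bs _ hw0 r hr.1).2 hr⟩
      rw [inv_inv]
      exact h2
    have h2 := cj_mono (S.nW Js0.flatten) h1
    rwa [cj_cj_inv] at h2

include hJs0 hw0r in
/-- the longest element conjugates `V` to `U` -/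
theorem cj_n0_neg : cj (S.nW Js0.flatten) (D.negUnipotent K) = D.posUnipotent K := by
  have hL := S.hL0 Js0 hJs0
  have hLr : ∀ i ∈ Js0.flatten.reverse, i < D.rank := fun i hi => hL i (List.mem_reverse.1 hi)
  apply le_antisymm
  · apply S.cj_roots_le (S.nW Js0.flatten) D.IsNegRoot D.IsPosRoot (wW S.Bs Js0.flatten)
    intro r hr t
    obtain ⟨-, t', h2⟩ := conj_word S.hA S.hadd S.Bs S.hB _ hL r hr.1 t
    refine ⟨t', h2, ?_⟩
    have := (w0b_spec D S.Bs _ hw0r r hr.1).2 hr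
    rwa [wW'_eq_reverse, List.reverse_reverse] at this
  · have h1 : cj (S.nW Js0.flatten)⁻¹ (D.posUnipotent K) ≤ D.negUnipotent K := by
      apply S.cj_roots_le (S.nW Js0.flatten)⁻¹ D.IsPosRoot D.IsNegRoot (wW' S.Bs Js0.flatten)
      intro r hr t
      obtain ⟨-, t', h2⟩ := conj_word' S.hA S.hadd S.Bs S.hB _ hL r hr.1 t
      refine ⟨t', ?_, ?_⟩
      · rw [inv_inv]
        exact h2
      · have := (w0b_spec D S.Bs _ hw0r r hr.1).1 hr
        rwa [← wW'_eq_reverse] at this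
    have h2 := cj_mono (S.nW Js0.flatten) h1
    rwa [cj_cj_inv] at h2

include hJs0 hw0 in
theorem cj_n0_U1 : cj (S.nW Js0.flatten) S.U1 = S.V1 := by
  unfold U1 V1
  rw [cj_inf, S.cj_n0_pos Js0 hJs0 hw0, S.cj_fixS (S.hQfix (S.nJs_mem Js0 hJs0))]

include hJs0 hw0r in
theorem cj_n0_V1 : cj (S.nW Js0.flatten) S.V1 = S.U1 := by
  unfold U1 V1
  rw [cj_inf, S.cj_n0_neg Js0 hJs0 hw0r, S.cj_fixS (S.hQfix (S.nJs_mem Js0 hJs0))]

include hJs0 hw0 in
theorem V1_le_Q : S.V1 ≤ S.Q := by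
  rw [← S.cj_n0_U1 Js0 hJs0 hw0, ← S.cj_Q (S.nJs_mem Js0 hJs0)]
  exact cj_mono _ S.U1_le_Q

end longest

theorem B1_inf_V1 : S.B1 ⊓ S.V1 = ⊥ := by
  rw [eq_bot_iff, ← (borel_inf_neg_all (F := K) D S.hD).1]
  exact inf_le_inf inf_le_left inf_le_left

theorem B1_le_normalizer_U1 : S.B1 ≤ Subgroup.normalizer (S.U1 : Set (GL D.Idx K)) := by
  intro b hb
  have hbn := borel_le_normalizer_all D S.hD hb.1
  have hbf : b ∈ fixS S.c S.φ := S.hQfix hb.2
  rw [Subgroup.mem_normalizer_iff] at hbn ⊢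
  intro x
  constructor
  · rintro ⟨h1, h2⟩
    exact ⟨(hbn x).1 h1, Subgroup.mul_mem _ (Subgroup.mul_mem _ hbf h2) (Subgroup.inv_mem _ hbf)⟩
  · rintro ⟨h1, h2⟩
    refine ⟨(hbn x).2 h1, ?_⟩
    have : x = b⁻¹ * (b * x * b⁻¹) * b := by group
    rw [this]
    exact Subgroup.mul_mem _ (Subgroup.mul_mem _ (Subgroup.inv_mem _ hbf) h2) hbf

omit S in
theorem cj_of_mem {G : Type*} [Group G] {g : G} {H : Subgroup G} (hg : g ∈ H) : cj g H = H :=
  cj_of_mem_normalizer (Subgroup.le_normalizer hg)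

theorem cj_U1_of_mem_B1 {b : GL D.Idx K} (hb : b ∈ S.B1) : cj b S.U1 = S.U1 :=
  cj_of_mem_normalizer (S.B1_le_normalizer_U1 hb)

/-- if the conjugate of `U¹` by `n_L h` meets `B¹` trivially then `L` maps every fundamental root
to a negative root -/
theorem simple_neg_of_inf (L : List ℕ) (hL : ∀ i ∈ L, i < D.rank) (hf : Fixw S.W S.pi L)
    (h : GL D.Idx K) (hh : h ∈ D.diagonalSubgroup K) (hnQ : S.nW L * h ∈ S.Q)
    (hinf : cj (S.nW L * h) S.U1 ⊓ S.B1 = ⊥) :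
    ∀ i < D.rank, wW S.Bs L (D.simple i) < D.nroots / 2 := by
  intro i hi
  by_contra hcon
  rw [not_lt] at hcon
  have hi' : i < S.W.l := by
    show i < S.T.rank
    rw [S.hl]
    exact hi
  obtain ⟨J, hJ, hiJ⟩ := S.O.cover i hi'
  obtain ⟨rest, hok⟩ := S.jok J hJ
  have hLr : ∀ j ∈ L.reverse, j < D.rank := fun j hj => hL j (List.mem_reverse.1 hj)
  have hLw : S.W.IsWord L := (S.isWord_iff L).2 hL
  have hfr : Fixw S.W S.pi L.reverse := hf.reverse S.G S.hV hLw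
  have hpos : ∀ r ∈ J.map D.simple, D.nroots / 2 ≤ wW S.Bs L r := by
    rcases S.orbit_dichotomy hJ L.reverse hLr hfr with h1 | h1
    · intro r hr
      have := h1 r hr
      rwa [wW'_eq_reverse, List.reverse_reverse] at this
    · exfalso
      have := h1 (D.simple i) (List.mem_map.2 ⟨i, hiJ, rfl⟩)
      rw [wW'_eq_reverse, List.reverse_reverse] at this
      omega
  obtain ⟨x, hx, hx1⟩ := S.exists_XJ_ne_one hJ hok
  have hxU : x ∈ S.U1 := S.XJ_le_U1 hok hx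
  have hRlt := S.rJ_lt hok
  have hg1 : S.nW L * h * x * (S.nW L * h)⁻¹ ∈ cj (S.nW L * h) S.U1 := by
    rw [mem_cj]
    have : (S.nW L * h)⁻¹ * (S.nW L * h * x * (S.nW L * h)⁻¹) * (S.nW L * h) = x := by group
    rw [this]
    exact hxU
  have hg2 : S.nW L * h * x * (S.nW L * h)⁻¹ ∈ D.posUnipotent K := by
    have h1 : h * x * h⁻¹ ∈ UL K D (J.map D.simple) := by
      have := S.diag_conj_UL h⁻¹ (Subgroup.inv_mem _ hh) _ hRlt x hx.1
      rwa [inv_inv] at this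
    have h2 := conj_UL S.hA S.hadd S.Bs S.hB L hL _ hRlt _ h1
    have h3 : nWordU S.hA S.hadd L * (h * x * h⁻¹) * (nWordU S.hA S.hadd L)⁻¹
        ∈ D.posUnipotent K := by
      refine UL_le_pos_of _ ?_ h2
      intro r hr
      rw [List.mem_map] at hr
      obtain ⟨r', hr', rfl⟩ := hr
      rw [pos_iff_all D S.hD _ (wW_lt S.hA S.Bs S.hB L hL r' (hRlt r' hr'))]
      exact hpos r' hr'
    have e : S.nW L * h * x * (S.nW L * h)⁻¹
        = nWordU S.hA S.hadd L * (h * x * h⁻¹) * (nWordU S.hA S.hadd L)⁻¹ := by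
      show nWordU S.hA S.hadd L * h * x * (nWordU S.hA S.hadd L * h)⁻¹ = _
      group
    rw [e]
    exact h3
  have hg3 : S.nW L * h * x * (S.nW L * h)⁻¹ ∈ S.B1 :=
    ⟨S.hUB hg2, Subgroup.mul_mem _ (Subgroup.mul_mem _ hnQ (S.U1_le_Q hxU))
      (Subgroup.inv_mem _ hnQ)⟩
  have hbot : S.nW L * h * x * (S.nW L * h)⁻¹ ∈ cj (S.nW L * h) S.U1 ⊓ S.B1 := ⟨hg1, hg3⟩
  rw [hinf, Subgroup.mem_bot] at hbot
  apply hx1
  have : x = (S.nW L * h)⁻¹ * (S.nW L * h * x * (S.nW L * h)⁻¹) * (S.nW L * h) := by group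
  rw [this, hbot]
  group

section longest2

variable (Js0 : List (List ℕ)) (hJs0 : ∀ J ∈ Js0, J ∈ S.Ws)
  (hw0 : w0b D S.Bs Js0.flatten = true)

include hJs0 hw0 in
/-- an element of `N¹` which conjugates `U¹` to a subgroup meeting `B¹` trivially conjugates
`U¹` to `V¹` -/
theorem cj_eq_V1_of_inf (n : GL D.Idx K) (hn : n ∈ S.N1) (hinf : cj n S.U1 ⊓ S.B1 = ⊥) :
    cj n S.U1 = S.V1 := by
  obtain ⟨L, hL, hf, h, hh, rfl⟩ := S.mono1_word n hn
  have hneg := S.simple_neg_of_inf L hL hf h hh hn.2 hinf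
  have hLA := S.hL0 Js0 hJs0
  have hLw : S.W.IsWord L := (S.isWord_iff L).2 hL
  have hAw : S.W.IsWord Js0.flatten := (S.isWord_iff _).2 hLA
  have hv : S.W.IsWord (Js0.flatten.reverse ++ L) := hAw.reverse.append S.W hLw
  have hid := S.hV.act_eq_of_no_desc S.hR S.hm hv (by
    intro i hi
    have hi' : i < D.rank := by
      rw [← S.hl]
      exact hi
    rw [WD.act_append]
    show S.T.nroots / 2 ≤ (wdOf S.T S.Bs S.mLL).act Js0.flatten.reverse
      ((wdOf S.T S.Bs S.mLL).act L (S.T.simple i))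
    rw [act_eq_wW, act_eq_wW, ← FD.simple_eq' S.hA i hi', S.hn, ← wW'_eq_reverse]
    have hlt := wW_lt S.hA S.Bs S.hB L hL _ (simple_lt' S.hA hi')
    have hnegr : D.IsNegRoot (wW S.Bs L (D.simple i)) :=
      neg_of_lt_half D S.hD _ hlt (hneg i hi')
    have := (w0b_spec D S.Bs _ hw0 _ hlt).2 hnegr
    exact (pos_iff_all D S.hD _ (wW'_lt S.hA S.Bs S.hB _ hLA _ hlt)).1 this)
  have hact : ∀ r < S.W.n, S.W.act Js0.flatten r = S.W.act L r := by
    intro r hr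
    have h1 := hid r hr
    rw [WD.act_append] at h1
    have h2 : S.W.act Js0.flatten (S.W.act Js0.flatten.reverse (S.W.act L r))
        = S.W.act Js0.flatten r := by rw [h1]
    rw [S.hV.act_reverse' hAw (S.hV.act_lt hLw hr)] at h2
    exact h2.symm
  have hmem := nWordU_inv_mul_mem_of_act_eq S.hD S.hA S.hadd S.Bs S.mLL S.hB S.h1 S.h2
    Js0.flatten L hAw hLw hact
  have hn0Q : S.nW Js0.flatten ∈ S.Q := S.nJs_mem Js0 hJs0
  have hh' : (S.nW Js0.flatten)⁻¹ * (S.nW L * h) ∈ S.B1 := by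
    refine ⟨S.hHB ?_, Subgroup.mul_mem _ (Subgroup.inv_mem _ hn0Q) hn.2⟩
    have e : (S.nW Js0.flatten)⁻¹ * (S.nW L * h) = (S.nW Js0.flatten)⁻¹ * S.nW L * h := by group
    rw [e]
    exact Subgroup.mul_mem _ hmem hh
  have e : S.nW L * h = S.nW Js0.flatten * ((S.nW Js0.flatten)⁻¹ * (S.nW L * h)) := by group
  rw [e, ← cj_mul, S.cj_U1_of_mem_B1 hh', S.cj_n0_U1 Js0 hJs0 hw0]

include hJs0 hw0 in
/-- a conjugate of `U¹` meeting `B¹` trivially is a conjugate of `V¹` by an element of `B¹` -/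
theorem exists_B1_conj (g : GL D.Idx K) (hg : g ∈ S.Q) (hinf : cj g S.U1 ⊓ S.B1 = ⊥) :
    ∃ b ∈ S.B1, cj g S.U1 = cj b S.V1 := by
  obtain ⟨u1, hu1, n, hn, u, hu, rfl⟩ := S.Q_decomp g hg
  have hu1B : u1 ∈ S.B1 := S.U1_le_B1 hu1
  have e1 : cj (u1 * n * u) S.U1 = cj u1 (cj n S.U1) := by
    rw [← cj_mul, S.cj_U1_of_mem_B1 (S.U1_le_B1 hu), ← cj_mul]
  rw [e1] at hinf ⊢
  have h2 : cj n S.U1 ⊓ S.B1 = ⊥ := by
    have := congrArg (cj u1⁻¹) hinf
    rwa [cj_inf, cj_inv_cj, cj_bot, cj_of_mem (Subgroup.inv_mem _ hu1B)] at this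
  exact ⟨u1, hu1B, by rw [S.cj_eq_V1_of_inf Js0 hJs0 hw0 n hn h2]⟩

end longest2

/-! ### the opposite subgroup of an orbit -/

/-- the opposite subgroup of an orbit -/
noncomputable def XmJ (J : List ℕ) : Subgroup (GL D.Idx K) := cj (S.nW J) (S.XJ J)

omit S in
theorem mem_normalizer_of_cj_eq {G : Type*} [Group G] {g : G} {H : Subgroup G} (h : cj g H = H) :
    g ∈ Subgroup.normalizer (H : Set G) := by
  rw [Subgroup.mem_normalizer_iff]
  intro x
  constructor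
  · intro hx
    rw [← h, mem_cj]
    have : g⁻¹ * (g * x * g⁻¹) * g = x := by group
    rw [this]
    exact hx
  · intro hx
    rw [← h, mem_cj] at hx
    have : g⁻¹ * (g * x * g⁻¹) * g = x := by group
    rwa [this] at hx

theorem XJ_le_Q {J : List ℕ} {rest : List (List ℕ)} (hok : JOK D S.Bs S.sg J rest) :
    S.XJ J ≤ S.Q := fun _ hx => S.U1_le_Q (S.XJ_le_U1 hok hx)

theorem XmJ_le_Q {J : List ℕ} (hJ : J ∈ S.Ws) {rest : List (List ℕ)}
    (hok : JOK D S.Bs S.sg J rest) : S.XmJ J ≤ S.Q := by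
  unfold XmJ
  rw [← S.cj_Q (S.hnQ J hJ)]
  exact cj_mono _ (S.XJ_le_Q hok)

theorem XmJ_le_UL {J : List ℕ} (hJ : J ∈ S.Ws) {rest : List (List ℕ)}
    (hok : JOK D S.Bs S.sg J rest) : S.XmJ J ≤ UL K D ((J.map D.simple).map D.neg) := by
  intro y hy
  unfold XmJ at hy
  rw [mem_cj] at hy
  have h1 := conj_UL S.hA S.hadd S.Bs S.hB J (S.hJw hJ) _ (S.rJ_lt hok) _ hy.1
  have e : nWordU S.hA S.hadd J * ((S.nW J)⁻¹ * y * S.nW J) * (nWordU S.hA S.hadd J)⁻¹ = y := by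
    show S.nW J * ((S.nW J)⁻¹ * y * S.nW J) * (S.nW J)⁻¹ = y
    group
  rw [e] at h1
  have e2 : (J.map D.simple).map (wW S.Bs J) = (J.map D.simple).map D.neg := by
    apply List.map_congr_left
    intro r hr
    exact (hok.negJ r hr).1
  rwa [e2] at h1

theorem negJ_isNeg {J : List ℕ} {rest : List (List ℕ)} (hok : JOK D S.Bs S.sg J rest) :
    ∀ r ∈ (J.map D.simple).map D.neg, D.IsNegRoot r := by
  intro r hr
  rw [List.mem_map] at hr
  obtain ⟨r', hr', rfl⟩ := hr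
  have hr'lt := S.rJ_lt hok r' hr'
  apply neg_of_lt_half D S.hD _ (S.c.neg_lt r' hr'lt)
  show D.neg r' < D.nroots / 2
  rw [FD.neg_eq' S.hA r' hr'lt, ← S.hn]
  exact (S.hV.neg_sign r' (by show r' < S.T.nroots; rw [S.hn]; exact hr'lt)).2 (by
    show S.T.nroots / 2 ≤ r'
    rw [S.hn]
    exact (pos_iff_all D S.hD r' hr'lt).1 (hok.ord.pos r' (by
      rw [List.flatten_cons]
      exact List.mem_append_left _ hr')))

theorem XmJ_le_V1 {J : List ℕ} (hJ : J ∈ S.Ws) {rest : List (List ℕ)}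
    (hok : JOK D S.Bs S.sg J rest) : S.XmJ J ≤ S.V1 := by
  intro y hy
  refine ⟨?_, S.hQfix (S.XmJ_le_Q hJ hok hy)⟩
  have h1 := S.XmJ_le_UL hJ hok hy
  have hle : UL K D ((J.map D.simple).map D.neg) ≤ D.negUnipotent K := by
    apply Subgroup.closure_mono
    rintro g ⟨r, hr, t, hg⟩
    exact ⟨r, t, S.negJ_isNeg hok r hr, hg⟩
  exact hle h1

/-- an element of `Q` in the subgroup of the opposite roots of an orbit lies in the opposite
subgroup -/
theorem mem_XmJ_of {J : List ℕ} (hJ : J ∈ S.Ws) {rest : List (List ℕ)}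
    (hok : JOK D S.Bs S.sg J rest) (y : GL D.Idx K)
    (hy1 : y ∈ UL K D ((J.map D.simple).map D.neg)) (hy2 : y ∈ fixS S.c S.φ) : y ∈ S.XmJ J := by
  have hJw := S.hJw hJ
  have hRlt := S.rJ_lt hok
  unfold XmJ
  rw [mem_cj]
  have hlt : ∀ r ∈ (J.map D.simple).map D.neg, r < D.nroots := by
    intro r hr
    exact (S.negJ_isNeg hok r hr).1
  have h1 := conj_UL_inv S.hA S.hadd S.Bs S.hB J hJw _ hlt _ hy1
  have hnQ : S.nW J ∈ fixS S.c S.φ := S.hQfix (S.hnQ J hJ)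
  refine ⟨UL_mono ?_ h1, Subgroup.mul_mem _ (Subgroup.mul_mem _
    (Subgroup.inv_mem _ hnQ) hy2) hnQ⟩
  intro r' hr'
  rw [List.mem_map] at hr'
  obtain ⟨r'', hr'', rfl⟩ := hr'
  rw [List.mem_map] at hr''
  obtain ⟨r, hr, rfl⟩ := hr''
  rw [wW'_neg S.hA S.Bs S.hB J hJw r (hRlt r hr), (hok.negJ r hr).2,
    Cfsg.Agent.Lib.Helper5.St.neg_neg_all D S.hD r (hRlt r hr)]
  exact hr

theorem card_XmJ (J : List ℕ) : Nat.card (S.XmJ J) = Nat.card (S.XJ J) := card_cj _ _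

/-- `H¹` normalises the subgroup of an orbit -/
theorem cj_H1_XJ {J : List ℕ} {rest : List (List ℕ)} (hok : JOK D S.Bs S.sg J rest)
    {h : GL D.Idx K} (hh : h ∈ S.H1) : cj h (S.XJ J) = S.XJ J := by
  have key : ∀ h' ∈ S.H1, cj h' (S.XJ J) ≤ S.XJ J := by
    intro h' hh' x hx
    rw [mem_cj] at hx
    have h1 := S.diag_conj_UL h'⁻¹ (Subgroup.inv_mem _ hh'.1) _ (S.rJ_lt hok) _ hx.1
    have hf : h' ∈ fixS S.c S.φ := S.hQfix hh'.2
    have e : h'⁻¹⁻¹ * (h'⁻¹ * x * h') * h'⁻¹ = x := by group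
    rw [e] at h1
    refine ⟨h1, ?_⟩
    have e2 : x = h' * (h'⁻¹ * x * h') * h'⁻¹ := by group
    rw [e2]
    exact Subgroup.mul_mem _ (Subgroup.mul_mem _ hf hx.2) (Subgroup.inv_mem _ hf)
  apply le_antisymm (key h hh)
  have := cj_mono h (key h⁻¹ (Subgroup.inv_mem _ hh))
  rwa [cj_cj_inv] at this

/-- `H¹` normalises the opposite subgroup of an orbit -/
theorem cj_H1_XmJ {J : List ℕ} (hJ : J ∈ S.Ws) {rest : List (List ℕ)}
    (hok : JOK D S.Bs S.sg J rest) {h : GL D.Idx K} (hh : h ∈ S.H1) :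
    cj h (S.XmJ J) = S.XmJ J := by
  unfold XmJ
  have h1 := (S.N1_conj_H1 _ (S.nJ_mem_N1 hJ) h hh).2
  have e : h * S.nW J = S.nW J * ((S.nW J)⁻¹ * h * S.nW J) := by group
  rw [cj_mul, e, ← cj_mul, S.cj_H1_XJ hok h1]

/-- the subgroup of an orbit meets its opposite subgroup trivially -/
theorem XJ_inf_XmJ {J : List ℕ} (hJ : J ∈ S.Ws) {rest : List (List ℕ)}
    (hok : JOK D S.Bs S.sg J rest) : S.XJ J ⊓ S.XmJ J = ⊥ := by
  rw [eq_bot_iff, ← S.B1_inf_V1]
  exact inf_le_inf ((S.XJ_le_U1 hok).trans S.U1_le_B1) (S.XmJ_le_V1 hJ hok)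

/-- `n_J` does not normalise the subgroup of the orbit -/
theorem nJ_not_normalizes {J : List ℕ} (hJ : J ∈ S.Ws) {rest : List (List ℕ)}
    (hok : JOK D S.Bs S.sg J rest) : S.XmJ J ≠ S.XJ J := by
  intro h
  obtain ⟨x, hx, hx1⟩ := S.exists_XJ_ne_one hJ hok
  have : x ∈ S.XJ J ⊓ S.XmJ J := ⟨hx, by rw [h]; exact hx⟩
  rw [S.XJ_inf_XmJ hJ hok, Subgroup.mem_bot] at this
  exact hx1 this

/-- an element of the opposite subgroup normalising the subgroup of the orbit is trivial -/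
theorem XmJ_inf_normalizer {J : List ℕ} (hJ : J ∈ S.Ws) {rest : List (List ℕ)}
    (hok : JOK D S.Bs S.sg J rest) (y : GL D.Idx K) (hy : y ∈ S.XmJ J)
    (hyn : y ∈ Subgroup.normalizer (S.XJ J : Set (GL D.Idx K))) : y = 1 := by
  by_contra hy1
  have hy' := hy
  unfold XmJ at hy'
  rw [mem_cj] at hy'
  have hx1 : (S.nW J)⁻¹ * y * S.nW J ≠ 1 := by
    intro h
    apply hy1
    have : y = S.nW J * ((S.nW J)⁻¹ * y * S.nW J) * (S.nW J)⁻¹ := by group
    rw [this, h]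
    group
  obtain ⟨a, ha, h, hh, e⟩ := S.rank_one hJ hok _ hy' hx1
  have e' : y = a * (h * S.nW J) * a := by
    rw [← e]
    group
  have haN : a ∈ Subgroup.normalizer (S.XJ J : Set (GL D.Idx K)) := Subgroup.le_normalizer ha
  have hhN : h ∈ Subgroup.normalizer (S.XJ J : Set (GL D.Idx K)) :=
    mem_normalizer_of_cj_eq (S.cj_H1_XJ hok hh)
  have hnN : S.nW J ∈ Subgroup.normalizer (S.XJ J : Set (GL D.Idx K)) := by
    have : S.nW J = h⁻¹ * (a⁻¹ * y * a⁻¹) := by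
      rw [e']
      group
    rw [this]
    exact Subgroup.mul_mem _ (Subgroup.inv_mem _ hhN) (Subgroup.mul_mem _ (Subgroup.mul_mem _
      (Subgroup.inv_mem _ haN) hyn) (Subgroup.inv_mem _ haN))
  exact S.nJ_not_normalizes hJ hok (cj_of_mem_normalizer hnN)

/-- uniqueness of the middle factor of an element `x y x` swapping the two subgroups -/
theorem swap_unique {J : List ℕ} (hJ : J ∈ S.Ws) {rest : List (List ℕ)}
    (hok : JOK D S.Bs S.sg J rest) (x y y' : GL D.Idx K) (hx : x ∈ S.XJ J)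
    (hy : y ∈ S.XmJ J) (hy' : y' ∈ S.XmJ J) (h : cj (x * y * x) (S.XJ J) = S.XmJ J)
    (h' : cj (x * y' * x) (S.XJ J) = S.XmJ J) : y = y' := by
  have h1 : cj ((x * y * x)⁻¹ * (x * y' * x)) (S.XJ J) = S.XJ J := by
    rw [← cj_mul, h', ← h, cj_inv_cj]
  have h2 := mem_normalizer_of_cj_eq h1
  have hxN : x ∈ Subgroup.normalizer (S.XJ J : Set (GL D.Idx K)) := Subgroup.le_normalizer hx
  have h3 : y⁻¹ * y' ∈ Subgroup.normalizer (S.XJ J : Set (GL D.Idx K)) := by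
    have : y⁻¹ * y' = x * ((x * y * x)⁻¹ * (x * y' * x)) * x⁻¹ := by group
    rw [this]
    exact Subgroup.mul_mem _ (Subgroup.mul_mem _ hxN h2) (Subgroup.inv_mem _ hxN)
  have h4 := S.XmJ_inf_normalizer hJ hok _ (Subgroup.mul_mem _ (Subgroup.inv_mem _ hy) hy') h3
  exact inv_mul_eq_one.1 h4

/-- the two subgroups of an orbit do not commute -/
theorem exists_not_comm {J : List ℕ} (hJ : J ∈ S.Ws) {rest : List (List ℕ)}
    (hok : JOK D S.Bs S.sg J rest) : ∃ x ∈ S.XJ J, ∃ y ∈ S.XmJ J, x * y ≠ y * x := by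
  by_contra hcon
  push Not at hcon
  obtain ⟨x, hx, hx1⟩ := S.exists_XJ_ne_one hJ hok
  have hy : S.nW J * x * (S.nW J)⁻¹ ∈ S.XmJ J := by
    unfold XmJ
    rw [mem_cj]
    have : (S.nW J)⁻¹ * (S.nW J * x * (S.nW J)⁻¹) * S.nW J = x := by group
    rw [this]
    exact hx
  have hyn : S.nW J * x * (S.nW J)⁻¹ ∈ Subgroup.normalizer (S.XJ J : Set (GL D.Idx K)) := by
    rw [Subgroup.mem_normalizer_iff]
    intro z
    have hc : ∀ z ∈ S.XJ J, S.nW J * x * (S.nW J)⁻¹ * z = z * (S.nW J * x * (S.nW J)⁻¹) :=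
      fun z hz => (hcon z hz _ hy).symm
    constructor
    · intro hz
      rw [hc z hz, mul_inv_cancel_right]
      exact hz
    · intro hw
      have h5 := hc _ hw
      have e : z = S.nW J * x * (S.nW J)⁻¹ * z * (S.nW J * x * (S.nW J)⁻¹)⁻¹ := by
        calc z = (S.nW J * x * (S.nW J)⁻¹)⁻¹ * ((S.nW J * x * (S.nW J)⁻¹ * z *
              (S.nW J * x * (S.nW J)⁻¹)⁻¹) * (S.nW J * x * (S.nW J)⁻¹)) := by group
          _ = (S.nW J * x * (S.nW J)⁻¹)⁻¹ * (S.nW J * x * (S.nW J)⁻¹ *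
              (S.nW J * x * (S.nW J)⁻¹ * z * (S.nW J * x * (S.nW J)⁻¹)⁻¹)) := by rw [← h5]
          _ = _ := by group
      rw [e]
      exact hw
  have h1 := S.XmJ_inf_normalizer hJ hok _ hy hyn
  apply hx1
  have : x = (S.nW J)⁻¹ * (S.nW J * x * (S.nW J)⁻¹) * S.nW J := by group
  rw [this, h1]
  group

/-- subgroups generated by commuting root subgroups commute -/
theorem UL_commute (R R' : List ℕ)
    (h : ∀ r ∈ R, ∀ r' ∈ R', ∀ t u : K, S.hadd.xU r t * S.hadd.xU r' u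
      = S.hadd.xU r' u * S.hadd.xU r t) :
    ∀ x ∈ UL K D R, ∀ y ∈ UL K D R', x * y = y * x := by
  have h1 : ∀ r ∈ R, ∀ t : K, UL K D R' ≤ Subgroup.centralizer {S.hadd.xU r t} := by
    intro r hr t
    unfold UL
    rw [Subgroup.closure_le]
    rintro g ⟨r', hr', u, hg⟩
    have hg' : g = S.hadd.xU r' u := Units.ext hg
    rw [hg', SetLike.mem_coe, Subgroup.mem_centralizer_iff]
    intro z hz
    rw [Set.mem_singleton_iff] at hz
    rw [hz]
    exact h r hr r' hr' t u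
  intro x hx y hy
  have h2 : UL K D R ≤ Subgroup.centralizer {y} := by
    unfold UL
    rw [Subgroup.closure_le]
    rintro g ⟨r, hr, t, hg⟩
    have hg' : g = S.hadd.xU r t := Units.ext hg
    rw [hg', SetLike.mem_coe, Subgroup.mem_centralizer_iff]
    intro z hz
    rw [Set.mem_singleton_iff] at hz
    rw [hz]
    have := Subgroup.mem_centralizer_iff.1 (h1 r hr t hy) _ (Set.mem_singleton _)
    exact this.symm
  have := Subgroup.mem_centralizer_iff.1 (h2 hx) _ (Set.mem_singleton _)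
  exact this.symm

/-- the subgroup of an orbit commutes with the opposite subgroup of a disjoint orbit -/
theorem XJ_comm_XmJ {J J' : List ℕ} (hJ : J ∈ S.Ws) (hJ' : J' ∈ S.Ws) {rest rest' : List (List ℕ)}
    (hok : JOK D S.Bs S.sg J rest) (hok' : JOK D S.Bs S.sg J' rest')
    (hdisj : ∀ i ∈ J, i ∉ J') (x : GL D.Idx K) (hx : x ∈ S.XJ J) (y : GL D.Idx K)
    (hy : y ∈ S.XmJ J') : x * y = y * x := by
  apply S.UL_commute (J.map D.simple) ((J'.map D.simple).map D.neg) _ x hx.1 y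
    (S.XmJ_le_UL hJ' hok' hy)
  intro r hr r' hr' t u
  rw [List.mem_map] at hr hr'
  obtain ⟨i, hi, rfl⟩ := hr
  obtain ⟨r'', hr'', rfl⟩ := hr'
  rw [List.mem_map] at hr''
  obtain ⟨j, hj, rfl⟩ := hr''
  have hij : i ≠ j := by
    rintro rfl
    exact hdisj i hi hj
  exact comm_simple_neg D S.hD S.hadd i j (S.hJw hJ i hi) (S.hJw hJ' j hj) hij t u

section longest3

variable (Js0 : List (List ℕ)) (hJs0 : ∀ J ∈ Js0, J ∈ S.Ws)

include hJs0 in
/-- the longest element conjugates the opposite subgroup of an orbit to the subgroup of the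
orbit, when the opposition involution fixes the orbit -/
theorem cj_n0_XmJ {J : List ℕ} (hJ : J ∈ S.Ws) {rest : List (List ℕ)}
    (hok : JOK D S.Bs S.sg J rest)
    (hoppJ : ∀ r ∈ J.map D.simple, wW S.Bs Js0.flatten (D.neg r) ∈ J.map D.simple) :
    cj (S.nW Js0.flatten) (S.XmJ J) = S.XJ J := by
  have hL := S.hL0 Js0 hJs0
  have hn0Q : S.nW Js0.flatten ∈ S.Q := S.nJs_mem Js0 hJs0
  have hle : cj (S.nW Js0.flatten) (S.XmJ J) ≤ S.XJ J := by
    intro z hz
    rw [mem_cj] at hz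
    have h1 := S.XmJ_le_UL hJ hok hz
    have hlt : ∀ r ∈ (J.map D.simple).map D.neg, r < D.nroots :=
      fun r hr => (S.negJ_isNeg hok r hr).1
    have h2 := conj_UL S.hA S.hadd S.Bs S.hB _ hL _ hlt _ h1
    have e : nWordU S.hA S.hadd Js0.flatten * ((S.nW Js0.flatten)⁻¹ * z * S.nW Js0.flatten) *
        (nWordU S.hA S.hadd Js0.flatten)⁻¹ = z := by
      show S.nW Js0.flatten * ((S.nW Js0.flatten)⁻¹ * z * S.nW Js0.flatten) *
        (S.nW Js0.flatten)⁻¹ = z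
      group
    rw [e] at h2
    refine ⟨UL_mono ?_ h2, ?_⟩
    · intro r hr
      rw [List.mem_map] at hr
      obtain ⟨r', hr', rfl⟩ := hr
      rw [List.mem_map] at hr'
      obtain ⟨r'', hr'', rfl⟩ := hr'
      exact hoppJ r'' hr''
    · have hzQ := S.XmJ_le_Q hJ hok hz
      have : z = S.nW Js0.flatten * ((S.nW Js0.flatten)⁻¹ * z * S.nW Js0.flatten) *
          (S.nW Js0.flatten)⁻¹ := by group
      rw [this]
      exact S.hQfix (Subgroup.mul_mem _ (Subgroup.mul_mem _ hn0Q hzQ) (Subgroup.inv_mem _ hn0Q))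
  apply Subgroup.eq_of_le_of_card_ge hle
  rw [card_cj, S.card_XmJ]

end longest3

/-- the rank one identity in the twisted group: for a fixed family `t` of non-zero parameters on
an orbit, `x y x = h n_J` with `x` in the subgroup of the orbit, `y` in the opposite subgroup and
`h ∈ H¹` -/
theorem swap_exists {J : List ℕ} (hJ : J ∈ S.Ws) {rest : List (List ℕ)}
    (hok : JOK D S.Bs S.sg J rest) (hneg : NegOK D S.sg S.sgi J) (t : ℕ → K)
    (ht0 : ∀ r ∈ J.map D.simple, t r ≠ 0)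
    (htfix : ∀ r ∈ J.map D.simple, twP S.φ S.ep S.sgi t r = t r) :
    posW S.hadd (J.map D.simple) (fun r => -(t r)⁻¹) ∈ S.XJ J ∧
    negW S.hadd (J.map D.simple) (fun r => -(t r)⁻¹) ∈ S.XmJ J ∧
    hPr S.hadd (J.map D.simple) (fun r => -(t r)⁻¹) ∈ S.H1 ∧
    (posW S.hadd (J.map D.simple) (fun r => -(t r)⁻¹))⁻¹ *
      negW S.hadd (J.map D.simple) (fun r => -(t r)⁻¹) *
        (posW S.hadd (J.map D.simple) (fun r => -(t r)⁻¹))⁻¹
      = hPr S.hadd (J.map D.simple) (fun r => -(t r)⁻¹) * S.nW J := by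
  have hJw := S.hJw hJ
  have hRlt := S.rJ_lt hok
  have hb := hok.block _ List.mem_cons_self
  have horth : (J.map D.simple).Pairwise fun r r' => SOrth2 S.hadd r r' :=
    hok.orth.imp fun h => h.sOrth2 S.hD S.hadd
  have e3 : nOne S.hadd (J.map D.simple) = S.nW J := nOne_eq S.hA S.hadd J hJw
  have hH := S.hJ_mem hJ hok hneg t ht0 htfix
  rw [← hPr_eq S.hadd (J.map D.simple) t] at hH
  have hs0 : ∀ r ∈ J.map D.simple, (fun r => -(t r)⁻¹) r ≠ 0 :=
    fun r hr => neg_ne_zero.2 (inv_ne_zero (ht0 r hr))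
  have e1 := negW_eq S.hadd (J.map D.simple) (fun r => -(t r)⁻¹) horth hs0
  have e2 := nPr_eq S.hadd (J.map D.simple) (fun r => -(t r)⁻¹) horth
  obtain ⟨hnb, hnn, hsm, hsn⟩ := hneg
  refine ⟨?_, ?_, hH, ?_⟩
  · refine ⟨posW_mem S.hadd _ _, ?_⟩
    show _ ∈ fixS S.c S.φ
    rw [posW_eq_wordU, mem_fixS, sigma_block S.hD S.c S.φ S.hadd S.sgi S.hsgi _ hb]
    congr 1
    apply wordL_congr
    intro r hr
    have := htfix r hr
    unfold twP at this ⊢
    simp only [inv_neg, inv_inv, map_neg, mul_neg, neg_inj]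
    exact this
  · apply S.mem_XmJ_of hJ hok _ (negW_mem_UL S.hadd _ _)
    rw [negW_eq_wordU S.hadd _ _ hnn, mem_fixS,
      sigma_block S.hD S.c S.φ S.hadd S.sgi S.hsgi _ hnb]
    congr 1
    apply wordL_congr
    intro r' hr'
    rw [List.mem_map] at hr'
    obtain ⟨r, hr, rfl⟩ := hr'
    have h1 := htfix r hr
    have hsm' := hsm r hr
    have hsl : S.sgi.getD r 0 < D.nroots := hRlt _ hsm'
    unfold twP at h1 ⊢
    rw [hsn r hr]
    beta_reduce
    rw [hnn _ hsm', hnn r hr]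
    have hep : epF K S.ep (D.neg (S.sgi.getD r 0)) = epF K S.ep (S.sgi.getD r 0) := by
      unfold epF
      have := S.c.neg_ep _ hsl
      show ((S.ep.getD (D.negIdx.getD (S.sgi.getD r 0) 0) 1 : ℤ) : K) = _
      rw [this]
    rw [hep]
    simp only [map_neg, map_inv₀, mul_neg, neg_inj]
    rw [← h1, mul_inv, epF_inv S.c _ hsl]
  · rw [e1, e2, e3]
    group

/-- an element `h n_J` with `h ∈ H¹` swaps the two subgroups of the orbit -/
theorem cj_H1_nJ {J : List ℕ} (hJ : J ∈ S.Ws) {rest : List (List ℕ)}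
    (hok : JOK D S.Bs S.sg J rest) {h : GL D.Idx K} (hh : h ∈ S.H1) :
    cj (h * S.nW J) (S.XJ J) = S.XmJ J := by
  rw [← cj_mul]
  exact S.cj_H1_XmJ hJ hok hh

end TwSetup

end Cfsg.Agent.Lib.Helper5.Tw
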