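import Cfsg.Agent.Lib.Helper5.Tw.BNTw
import Mathlib

/-!
# The (B, N)-pair of a twisted group (helper5)
-/

set_option autoImplicit false
set_option linter.unusedSectionVars false

namespace Cfsg.Agent.Lib.Helper5.Tw

open Cfsg.Lie Cfsg.Agent.Lib.Helper5.ChevPerm Cfsg.Agent.Lib.Helper5.ChevPermB
open Cfsg.Agent.Lib.Helper5.Chev
open scoped Matrix

namespace TwSetup

variable {K : Type*} [Field K] [Finite K] {D : ChevalleyDatum} (S : TwSetup K D)

include S

theorem B1_le_Q : S.B1 ≤ S.Q := inf_le_right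

theorem N1_le_Q : S.N1 ≤ S.Q := inf_le_right

theorem B1_inf_N1 : S.B1 ⊓ S.N1 = S.H1 := by
  have hBN := (borel_inf_monomial_all (F := K) D S.hD).2
  ext g
  constructor
  · rintro ⟨⟨h1, h2⟩, ⟨h3, -⟩⟩
    refine ⟨?_, h2⟩
    rw [← hBN]
    exact ⟨h1, h3⟩
  · intro hg
    exact ⟨S.H1_le_B1 hg, S.H1_le_N1 hg⟩

/-- the canonical form in `Q` -/
theorem Q_decomp (g : GL D.Idx K) (hg : g ∈ S.Q) :
    ∃ u1 ∈ S.U1, ∃ n ∈ S.N1, ∃ u ∈ S.U1, g = u1 * n * u := by
  obtain ⟨u1, hu1, n, hn, u, hu, rfl, e1, e2, e3⟩ := bruhat_fix S.hD S.c S.φ S.hφ S.hpos g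
    (S.hQG hg) (S.hQfix hg)
  have h1 : u1 ∈ S.U1 := ⟨hu1, e1⟩
  have h3 : u ∈ S.U1 := ⟨uneg_le_pos D n hu, e3⟩
  refine ⟨u1, h1, n, ⟨hn, ?_⟩, u, h3, rfl⟩
  have : n = u1⁻¹ * (u1 * n * u) * u⁻¹ := by group
  rw [this]
  exact Subgroup.mul_mem _ (Subgroup.mul_mem _ (Subgroup.inv_mem _ (S.U1_le_Q h1)) hg)
    (Subgroup.inv_mem _ (S.U1_le_Q h3))

/-- the positivity dichotomy for the image of an orbit under a fixed element -/
theorem orbit_dichotomy {J : List ℕ} (hJ : J ∈ S.Ws) (L : List ℕ) (hL : ∀ i ∈ L, i < D.rank)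
    (hf : Fixw S.W S.pi L) :
    (∀ r ∈ J.map D.simple, D.nroots / 2 ≤ wW' S.Bs L r) ∨
      (∀ r ∈ J.map D.simple, wW' S.Bs L r < D.nroots / 2) := by
  have hLw : S.W.IsWord L := (S.isWord_iff L).2 hL
  have hfr : Fixw S.W S.pi L.reverse := hf.reverse S.G S.hV hLw
  have hact : ∀ i, wW' S.Bs L (D.simple i) = S.W.act L.reverse (D.simple i) := by
    intro i
    rw [wW'_eq_reverse]
    exact (act_eq_wW S.T S.Bs S.mLL L.reverse _).symm
  by_cases hex : ∃ i ∈ J, wW' S.Bs L (D.simple i) < D.nroots / 2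
  · right
    obtain ⟨i, hi, hd⟩ := hex
    have hil := S.hJw hJ i hi
    have hd' : S.W.act L.reverse (S.W.p i) < S.W.h := by
      show S.W.act L.reverse (S.T.simple i) < S.T.nroots / 2
      rw [← FD.simple_eq' S.hA i hil, ← hact, S.hn]
      exact hd
    have hall := desc_orbit S.hA S.Bs S.mLL S.hB S.h1 S.h2 S.G S.O hLw.reverse hfr hJ hi hd'
    intro r hr
    rw [List.mem_map] at hr
    obtain ⟨j, hj, rfl⟩ := hr
    have hjl := S.hJw hJ j hj
    have := hall j hj
    rw [hact]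
    have e : (wdOf S.T S.Bs S.mLL).p j = D.simple j := (FD.simple_eq' S.hA j hjl).symm
    rw [e] at this
    have e2 : (wdOf S.T S.Bs S.mLL).h = D.nroots / 2 := by
      show S.T.nroots / 2 = _
      rw [S.hn]
    rw [e2] at this
    exact this
  · left
    push Not at hex
    intro r hr
    rw [List.mem_map] at hr
    obtain ⟨j, hj, rfl⟩ := hr
    exact hex j hj

/-- the double coset condition -/
theorem dc_union {J : List ℕ} (hJ : J ∈ S.Ws) (n : GL D.Idx K) (hn : n ∈ S.N1)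
    (b : GL D.Idx K) (hb : b ∈ S.B1) :
    S.nW J * b * n ∈ dc S.B1 (S.nW J * n) ∪ dc S.B1 n := by
  obtain ⟨rest, hok⟩ := S.jok J hJ
  obtain ⟨L, hL, hf, h1, hh1, rfl⟩ := S.mono1_word n hn
  rcases S.orbit_dichotomy hJ L hL hf with hasc | hdesc
  · left
    exact S.dc_ascent hJ hok L hL h1 hh1 hn.2 hasc b hb
  · exact S.dc_descent hJ hok L hL h1 hh1 hn.2 hdesc b hb

/-- a non-trivial fixed element of the subgroup of an orbit -/
theorem exists_XJ_ne_one {J : List ℕ} (hJ : J ∈ S.Ws) {rest : List (List ℕ)}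
    (hok : JOK D S.Bs S.sg J rest) : ∃ x ∈ S.XJ J, x ≠ 1 := by
  classical
  set t : ℕ → K := fun r => if r ∈ J.map D.simple then 1 else 0 with ht
  have hmem : S.hadd.wordU (wordL (J.map D.simple) t) ∈ S.XJ J := by
    refine ⟨wordU_wordL_mem S.hadd _ _ (fun r hr => hr) _, ?_⟩
    show _ ∈ fixS S.c S.φ
    rw [mem_fixS, sigma_block S.hD S.c S.φ S.hadd S.sgi S.hsgi _ (hok.block _ List.mem_cons_self)]
    congr 1
    apply wordL_congr
    intro r hr
    -- `sgi r` is a root of the orbit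
    have hb := hok.block _ List.mem_cons_self
    have hrot := hb.rot
    have hsgi_mem : S.sgi.getD r 0 ∈ J.map D.simple := by
      -- `r = sg r'` with `r'` in the block
      have hr2 : r ∈ (J.map D.simple).rotate 1 := List.mem_rotate.2 hr
      rw [← hrot, List.mem_map] at hr2
      obtain ⟨r', hr', e⟩ := hr2
      rw [← e, S.hsgi r' (S.rJ_lt hok r' hr')]
      exact hr'
    unfold twP
    rw [ht]
    simp only [if_pos hsgi_mem, if_pos hr, map_one, mul_one]
    rw [List.mem_map] at hsgi_mem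
    obtain ⟨i, hi, e⟩ := hsgi_mem
    unfold epF
    rw [← e, S.hep i (S.hJw hJ i hi)]
    simp
  refine ⟨_, hmem, ?_⟩
  intro h1
  -- compare with the trivial word
  have hz : S.hadd.wordU (wordL rest.flatten t) = 1 := by
    apply wordU_wordL_zero
    intro r hr
    rw [ht]
    have hnd := hok.nodup
    rw [List.flatten_cons, List.nodup_append] at hnd
    simp only
    rw [if_neg]
    intro h
    exact hnd.2.2 r h r hr rfl
  have e1 : S.hadd.wordU (wordL ((J.map D.simple) :: rest).flatten t)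
      = S.hadd.wordU (wordL ((J.map D.simple) :: rest).flatten (fun _ => (0 : K))) := by
    rw [List.flatten_cons, wordL_append, wordU_append, hz, h1, mul_one]
    symm
    apply wordU_wordL_zero
    intro r _
    rfl
  have hinj := wordL_injective S.hD S.hadd _ hok.ord _ _ e1
  obtain ⟨i, hi⟩ := List.exists_mem_of_ne_nil J (S.Jne J hJ)
  have hr : D.simple i ∈ J.map D.simple := List.mem_map.2 ⟨i, hi, rfl⟩
  have := hinj (D.simple i) (by rw [List.flatten_cons]; exact List.mem_append_left _ hr)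
  rw [ht] at this
  simp only [if_pos hr] at this
  exact one_ne_zero this

/-- the conjugate of a non-trivial element of the subgroup of an orbit by `n_J` is not in `B` -/
theorem nJ_conj_not_mem {J : List ℕ} (hJ : J ∈ S.Ws) {rest : List (List ℕ)}
    (hok : JOK D S.Bs S.sg J rest) (x : GL D.Idx K) (hx : x ∈ S.XJ J) (hx1 : x ≠ 1) :
    S.nW J * x * (S.nW J)⁻¹ ∉ D.borelSubgroup K := by
  intro hB
  have hJw := S.hJw hJ
  have hV : S.nW J * x * (S.nW J)⁻¹ ∈ D.negUnipotent K := by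
    have := conj_UL S.hA S.hadd S.Bs S.hB J hJw _ (S.rJ_lt hok) x hx.1
    have hle : UL K D ((J.map D.simple).map (wW S.Bs J)) ≤ D.negUnipotent K := by
      apply Subgroup.closure_mono
      rintro g ⟨r, hr, t, hg⟩
      rw [List.mem_map] at hr
      obtain ⟨r', hr', rfl⟩ := hr
      refine ⟨_, t, ?_, hg⟩
      have hr'lt := S.rJ_lt hok r' hr'
      rw [(hok.negJ r' hr').1]
      apply neg_of_lt_half D S.hD _ (S.c.neg_lt r' hr'lt)
      show D.neg r' < D.nroots / 2
      rw [FD.neg_eq' S.hA r' hr'lt, ← S.hn]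
      exact (S.hV.neg_sign r' (by show r' < S.T.nroots; rw [S.hn]; exact hr'lt)).2 (by
        show S.T.nroots / 2 ≤ r'
        rw [S.hn]
        exact (pos_iff_all D S.hD r' hr'lt).1 (hok.ord.pos r' (by
          rw [List.flatten_cons]
          exact List.mem_append_left _ hr')))
    exact hle this
  have hbot : S.nW J * x * (S.nW J)⁻¹ ∈ D.borelSubgroup K ⊓ D.negUnipotent K := ⟨hB, hV⟩
  rw [(borel_inf_neg_all D S.hD).1, Subgroup.mem_bot] at hbot
  apply hx1
  have : x = (S.nW J)⁻¹ * (S.nW J * x * (S.nW J)⁻¹) * S.nW J := by group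
  rw [this, hbot]
  group

/-- the (B, N)-pair of the twisted group -/
theorem bnPair : ∃ P : Cfsg.BNPair ↥S.Q,
    P.B = S.B1.subgroupOf S.Q ∧ P.N = S.N1.subgroupOf S.Q ∧
    P.S = {s : ↥S.Q | ∃ J ∈ S.Ws, (s : GL D.Idx K) = S.nW J} := by
  refine ⟨{ B := S.B1.subgroupOf S.Q
            N := S.N1.subgroupOf S.Q
            S := {s : ↥S.Q | ∃ J ∈ S.Ws, (s : GL D.Idx K) = S.nW J}
            sup_eq_top := ?_
            conj_mem := ?_
            subset := ?_
            sq_mem := ?_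
            inj := ?_
            closure_sup := ?_
            mul_mem_union := ?_
            conj_ne := ?_ }, rfl, rfl, rfl⟩
  · -- sup_eq_top
    rw [← Subgroup.subgroupOf_sup S.B1_le_Q S.N1_le_Q, Subgroup.subgroupOf_eq_top]
    intro g hg
    obtain ⟨u1, hu1, n, hn, u, hu, rfl⟩ := S.Q_decomp g hg
    exact Subgroup.mul_mem _ (Subgroup.mul_mem _ (Subgroup.mem_sup_left (S.U1_le_B1 hu1))
      (Subgroup.mem_sup_right hn)) (Subgroup.mem_sup_left (S.U1_le_B1 hu))
  · -- conj_mem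
    rintro n hn t ⟨ht1, ht2⟩
    have ht1' : t ∈ S.B1.subgroupOf S.Q := ht1
    have ht2' : t ∈ S.N1.subgroupOf S.Q := ht2
    rw [Subgroup.mem_subgroupOf] at hn ht1' ht2' ⊢
    have htH : (t : GL D.Idx K) ∈ S.H1 := by
      rw [← S.B1_inf_N1]
      exact ⟨ht1', ht2'⟩
    have := (S.N1_conj_H1 _ hn _ htH).1
    exact S.H1_le_B1 (by simpa using this)
  · -- subset
    rintro s ⟨J, hJ, hs⟩
    rw [SetLike.mem_coe, Subgroup.mem_subgroupOf, hs]
    exact S.nJ_mem_N1 hJ
  · -- sq_mem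
    rintro s ⟨J, hJ, hs⟩
    rw [Subgroup.mem_subgroupOf]
    show (s : GL D.Idx K) * (s : GL D.Idx K) ∈ S.B1
    rw [hs]
    exact S.H1_le_B1 (S.nJ_sq hJ)
  · -- inj
    rintro s ⟨J, hJ, hs⟩ s' ⟨J', hJ', hs'⟩ hmem
    rw [Subgroup.mem_subgroupOf] at hmem
    have hmem' : (s : GL D.Idx K)⁻¹ * (s' : GL D.Idx K) ∈ S.B1 := hmem
    rw [hs, hs'] at hmem'
    have hH : (S.nW J)⁻¹ * S.nW J' ∈ S.H1 := by
      rw [← S.B1_inf_N1]
      exact ⟨hmem', Subgroup.mul_mem _ (Subgroup.inv_mem _ (S.nJ_mem_N1 hJ)) (S.nJ_mem_N1 hJ')⟩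
    have hact := act_eq_of_inv_mul_mem S.hD S.hA S.hadd S.Bs S.mLL S.hB S.h1 S.h2 S.hH J J'
      (S.O.word J hJ) (S.O.word J' hJ') hH.1
    have hJJ : J = J' := by
      apply S.winj J hJ J' hJ'
      intro k hk
      rw [← act_eq_wW S.T S.Bs S.mLL, ← act_eq_wW S.T S.Bs S.mLL]
      apply hact
      show D.simple k < S.T.nroots
      rw [S.hn]
      exact simple_lt' S.hA hk
    apply Subtype.ext
    rw [hs, hs', hJJ]
  · -- closure_sup
    apply le_antisymm
    · apply sup_le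
      · rw [Subgroup.closure_le]
        rintro s ⟨J, hJ, hs⟩
        rw [SetLike.mem_coe, Subgroup.mem_subgroupOf, hs]
        exact S.nJ_mem_N1 hJ
      · exact inf_le_right
    · intro n hn
      rw [Subgroup.mem_subgroupOf] at hn
      obtain ⟨Js, hJs, h, hh, e⟩ := S.mono1_decomp _ hn
      have hQ1 := S.nJs_mem Js hJs
      have hcl : (⟨S.nW Js.flatten, hQ1⟩ : ↥S.Q) ∈ Subgroup.closure
          {s : ↥S.Q | ∃ J ∈ S.Ws, (s : GL D.Idx K) = S.nW J} := by
        clear e hn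
        induction Js with
        | nil =>
          have : (⟨S.nW ([] : List (List ℕ)).flatten, hQ1⟩ : ↥S.Q) = 1 := by
            apply Subtype.ext
            show nWordU S.hA S.hadd [] = 1
            simp [nWordU]
          rw [this]
          exact Subgroup.one_mem _
        | cons J Js ih =>
          have hJ := hJs J List.mem_cons_self
          have hJs' : ∀ J' ∈ Js, J' ∈ S.Ws := fun J' hJ' => hJs J' (List.mem_cons_of_mem _ hJ')
          have h2 := S.nJs_mem Js hJs'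
          have : (⟨S.nW (J :: Js).flatten, hQ1⟩ : ↥S.Q)
              = ⟨S.nW J, S.hnQ J hJ⟩ * ⟨S.nW Js.flatten, h2⟩ := by
            apply Subtype.ext
            show S.nW (J :: Js).flatten = S.nW J * S.nW Js.flatten
            rw [List.flatten_cons, S.nW_append]
          rw [this]
          exact Subgroup.mul_mem _ (Subgroup.subset_closure ⟨J, hJ, rfl⟩) (ih hJs' h2)
      have hn' : n = ⟨S.nW Js.flatten, hQ1⟩ * ⟨h, hh.2⟩ := Subtype.ext e
      rw [hn']
      apply Subgroup.mul_mem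
      · exact Subgroup.mem_sup_left hcl
      · apply Subgroup.mem_sup_right
        constructor
        · show _ ∈ S.B1.subgroupOf S.Q
          rw [Subgroup.mem_subgroupOf]
          exact S.H1_le_B1 hh
        · show _ ∈ S.N1.subgroupOf S.Q
          rw [Subgroup.mem_subgroupOf]
          exact S.H1_le_N1 hh
  · -- mul_mem_union
    rintro s ⟨J, hJ, hs⟩ n hn b hb
    rw [Subgroup.mem_subgroupOf] at hn hb
    have key := S.dc_union hJ _ hn _ hb
    rw [← hs] at key
    rcases key with h | h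
    · left
      rw [mem_dc] at h
      obtain ⟨b1, hb1, b2, hb2, e⟩ := h
      rw [DoubleCoset.mem_doubleCoset]
      refine ⟨⟨b1, S.B1_le_Q hb1⟩, ?_, ⟨b2, S.B1_le_Q hb2⟩, ?_, ?_⟩
      · rw [SetLike.mem_coe, Subgroup.mem_subgroupOf]
        exact hb1
      · rw [SetLike.mem_coe, Subgroup.mem_subgroupOf]
        exact hb2
      · apply Subtype.ext
        exact e
    · right
      rw [mem_dc] at h
      obtain ⟨b1, hb1, b2, hb2, e⟩ := h
      rw [DoubleCoset.mem_doubleCoset]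
      refine ⟨⟨b1, S.B1_le_Q hb1⟩, ?_, ⟨b2, S.B1_le_Q hb2⟩, ?_, ?_⟩
      · rw [SetLike.mem_coe, Subgroup.mem_subgroupOf]
        exact hb1
      · rw [SetLike.mem_coe, Subgroup.mem_subgroupOf]
        exact hb2
      · apply Subtype.ext
        exact e
  · -- conj_ne
    rintro s ⟨J, hJ, hs⟩ heq
    obtain ⟨rest, hok⟩ := S.jok J hJ
    obtain ⟨x, hx, hx1⟩ := S.exists_XJ_ne_one hJ hok
    have hxB : x ∈ S.B1 := S.U1_le_B1 (S.XJ_le_U1 hok hx)
    have hmem : s * ⟨x, S.B1_le_Q hxB⟩ * s ∈ ((S.B1.subgroupOf S.Q : Subgroup ↥S.Q) : Set ↥S.Q) := by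
      rw [← heq]
      refine ⟨⟨x, S.B1_le_Q hxB⟩, ?_, rfl⟩
      rw [SetLike.mem_coe, Subgroup.mem_subgroupOf]
      exact hxB
    rw [SetLike.mem_coe, Subgroup.mem_subgroupOf] at hmem
    have hmem' : (s : GL D.Idx K) * x * (s : GL D.Idx K) ∈ S.B1 := hmem
    rw [hs] at hmem'
    apply S.nJ_conj_not_mem hJ hok x hx hx1
    have hsq := S.H1_le_B1 (S.nJ_sq hJ)
    have : S.nW J * x * (S.nW J)⁻¹ = (S.nW J * x * S.nW J) * (S.nW J * S.nW J)⁻¹ := by group
    rw [this]
    exact (Subgroup.mul_mem _ hmem' (Subgroup.inv_mem _ hsq)).1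

end TwSetup

end Cfsg.Agent.Lib.Helper5.Tw
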