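import Cfsg.Agent.Lib.Helper5.Tw.AutTwA
import Cfsg.Agent.Lib.Helper5.Tw.AutTwB
import Cfsg.Agent.Lib.Helper5.Tw.BNPairTw
import Cfsg.Agent.Lib.Helper5.AutBN.Chev
import Mathlib

/-!
# The normal form of an automorphism of a twisted group (helper5)

In the general setting `TwSetup`: every automorphism of the twisted group `Q` is, up to an inner
automorphism, an automorphism which fixes `U¹`, `V¹`, `B¹` and permutes the subgroups of the
orbits and their opposites.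
-/

set_option autoImplicit false
set_option linter.unusedSectionVars false

namespace Cfsg.Agent.Lib.Helper5.Tw

open Cfsg.Lie Cfsg.Agent.Lib.Helper5.ChevPerm Cfsg.Agent.Lib.Helper5.ChevPermB
open Cfsg.Agent.Lib.Helper5.Chev Cfsg.Agent.Lib.Helper5.AutBN
open scoped Matrix

namespace TwSetup

variable {K : Type*} [Field K] [Finite K] {D : ChevalleyDatum} (S : TwSetup K D)

omit S in
theorem card_subgroupOf_of_le {G : Type*} [Group G] {H Q : Subgroup G} (h : H ≤ Q) :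
    Nat.card (H.subgroupOf Q) = Nat.card H :=
  Nat.card_congr (Subgroup.subgroupOfEquivOfLe h).toEquiv

include S

/-- the double coset of `n_J` in the twisted group -/
theorem card_D_nJ (P : Cfsg.BNPair ↥S.Q) (hPB : P.B = S.B1.subgroupOf S.Q) {J : List ℕ}
    (hJ : J ∈ S.Ws) :
    Nat.card (Cfsg.Agent.Lib.Helper5.BN.D P (⟨S.nW J, S.hnQ J hJ⟩ : ↥S.Q))
      = Nat.card (dc S.B1 (S.nW J)) := by
  apply Nat.card_congr
  refine Equiv.ofBijective (fun y => (⟨(y.1 : GL D.Idx K), ?_⟩ : ↥(dc S.B1 (S.nW J)))) ⟨?_, ?_⟩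
  · have := y.2
    rw [Cfsg.Agent.Lib.Helper5.BN.mem_D] at this
    obtain ⟨b, hb, b', hb', e⟩ := this
    rw [hPB, Subgroup.mem_subgroupOf] at hb hb'
    rw [mem_dc]
    exact ⟨_, hb, _, hb', by rw [e]; rfl⟩
  · intro y y' h
    apply Subtype.ext
    apply Subtype.ext
    have h' := congrArg Subtype.val h
    exact h'
  · rintro ⟨z, hz⟩
    have hz' := hz
    rw [mem_dc] at hz'
    obtain ⟨b, hb, b', hb', e⟩ := hz'
    have hzQ : z ∈ S.Q := by
      rw [e]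
      exact Subgroup.mul_mem _ (Subgroup.mul_mem _ (S.B1_le_Q hb) (S.hnQ J hJ)) (S.B1_le_Q hb')
    refine ⟨⟨⟨z, hzQ⟩, ?_⟩, rfl⟩
    rw [Cfsg.Agent.Lib.Helper5.BN.mem_D]
    refine ⟨⟨b, S.B1_le_Q hb⟩, ?_, ⟨b', S.B1_le_Q hb'⟩, ?_, ?_⟩
    · rw [hPB, Subgroup.mem_subgroupOf]
      exact hb
    · rw [hPB, Subgroup.mem_subgroupOf]
      exact hb'
    · apply Subtype.ext
      exact e

/-- the normaliser of `U¹` in the twisted group is `B¹` -/
theorem normalizer_U1 :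
    Subgroup.normalizer ((S.U1.subgroupOf S.Q : Subgroup ↥S.Q) : Set ↥S.Q)
      = S.B1.subgroupOf S.Q := by
  classical
  obtain ⟨P, hPB, hPN, hPS⟩ := S.bnPair
  rw [← hPB]
  apply le_antisymm
  · have hBM : P.B ≤ Subgroup.normalizer ((S.U1.subgroupOf S.Q : Subgroup ↥S.Q) : Set ↥S.Q) := by
      intro y hy
      rw [hPB, Subgroup.mem_subgroupOf] at hy
      have hyn := S.B1_le_normalizer_U1 hy
      rw [Subgroup.mem_normalizer_iff] at hyn ⊢
      intro h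
      rw [Subgroup.mem_subgroupOf, Subgroup.mem_subgroupOf]
      exact hyn h
    have hM := Cfsg.Agent.Lib.Helper5.BN.eq_parabolic_of_le P _ hBM
    have hempty : {t : ↥S.Q | t ∈ P.S ∧
        t ∈ Subgroup.normalizer ((S.U1.subgroupOf S.Q : Subgroup ↥S.Q) : Set ↥S.Q)} = ∅ := by
      rw [Set.eq_empty_iff_forall_notMem]
      rintro t ⟨htS, htN⟩
      rw [hPS] at htS
      obtain ⟨J, hJ, ht⟩ := htS
      obtain ⟨rest, hok⟩ := S.jok J hJ
      obtain ⟨x, hx, hx1⟩ := S.exists_XJ_ne_one hJ hok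
      apply S.nJ_conj_not_mem hJ hok x hx hx1
      have hxU : x ∈ S.U1 := S.XJ_le_U1 hok hx
      rw [Subgroup.mem_normalizer_iff] at htN
      have h1 := (htN ⟨x, S.U1_le_Q hxU⟩).1 (by rw [Subgroup.mem_subgroupOf]; exact hxU)
      rw [Subgroup.mem_subgroupOf] at h1
      have h2 : (t : GL D.Idx K) * x * (t : GL D.Idx K)⁻¹ ∈ S.U1 := h1
      rw [ht] at h2
      exact S.U1_le_B h2
    rw [hempty] at hM
    rw [hM]
    unfold Cfsg.BNPair.parabolic
    rw [Subgroup.closure_empty, sup_bot_eq]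
  · intro y hy
    rw [hPB, Subgroup.mem_subgroupOf] at hy
    have hyn := S.B1_le_normalizer_U1 hy
    rw [Subgroup.mem_normalizer_iff] at hyn ⊢
    intro h
    rw [Subgroup.mem_subgroupOf, Subgroup.mem_subgroupOf]
    exact hyn h

/-- `H¹` normalises `V¹` -/
theorem cj_H1_V1 {h : GL D.Idx K} (hh : h ∈ S.H1) : cj h S.V1 = S.V1 := by
  have key : ∀ h' ∈ S.H1, cj h' S.V1 ≤ S.V1 := by
    intro h' hh'
    unfold V1
    rw [cj_inf, S.cj_fixS (S.hQfix hh'.2)]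
    refine inf_le_inf ?_ le_rfl
    apply S.cj_roots_le h' D.IsNegRoot D.IsNegRoot id
    intro r hr t
    obtain ⟨t', e⟩ := conj_diag_x S.hD S.hadd h' hh'.1 r hr.1 t
    exact ⟨t', e, hr⟩
  apply le_antisymm (key h hh)
  have := cj_mono h (key h⁻¹ (Subgroup.inv_mem _ hh))
  rwa [cj_cj_inv] at this

/-- an element of the twisted group normalising `U¹` lies in `B¹` -/
theorem mem_B1_of_cj_U1 (x : GL D.Idx K) (hx : x ∈ S.Q) (hU : cj x S.U1 = S.U1) : x ∈ S.B1 := by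
  have h1 : (⟨x, hx⟩ : ↥S.Q) ∈
      Subgroup.normalizer ((S.U1.subgroupOf S.Q : Subgroup ↥S.Q) : Set ↥S.Q) := by
    apply mem_normalizer_of_cj_eq
    rw [cj_subgroupOf, hU]
  rw [S.normalizer_U1, Subgroup.mem_subgroupOf] at h1
  exact h1

section torus

variable (Js0 : List (List ℕ)) (hJs0 : ∀ J ∈ Js0, J ∈ S.Ws)
  (hw0 : w0b D S.Bs Js0.flatten = true) (hw0r : w0b D S.Bs Js0.flatten.reverse = true)

include hJs0 hw0 hw0r in
/-- an element of the twisted group normalising `U¹` and `V¹` lies in `H¹` -/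
theorem mem_H1_of_normalizes (x : GL D.Idx K) (hx : x ∈ S.Q) (hU : cj x S.U1 = S.U1)
    (hV : cj x S.V1 = S.V1) : x ∈ S.H1 := by
  have hxB := S.mem_B1_of_cj_U1 x hx hU
  obtain ⟨u, hu, h, hh, rfl⟩ := S.borel1_decomp x hxB
  have hh' : h ∈ S.H1 := hh
  have huV : cj u S.V1 = S.V1 := by
    rw [← cj_mul, S.cj_H1_V1 hh'] at hV
    exact hV
  have hn0Q : S.nW Js0.flatten ∈ S.Q := S.nJs_mem Js0 hJs0
  have e1 : cj (S.nW Js0.flatten)⁻¹ S.U1 = S.V1 := by
    rw [← S.cj_n0_V1 Js0 hJs0 hw0r, cj_inv_cj]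
  have e2 : cj (S.nW Js0.flatten)⁻¹ S.V1 = S.U1 := by
    rw [← S.cj_n0_U1 Js0 hJs0 hw0, cj_inv_cj]
  have hvV : (S.nW Js0.flatten)⁻¹ * u * S.nW Js0.flatten ∈ S.V1 := by
    rw [← e1, mem_cj]
    have : (S.nW Js0.flatten)⁻¹⁻¹ * ((S.nW Js0.flatten)⁻¹ * u * S.nW Js0.flatten) *
        (S.nW Js0.flatten)⁻¹ = u := by group
    rw [this]
    exact hu
  have hvQ : (S.nW Js0.flatten)⁻¹ * u * S.nW Js0.flatten ∈ S.Q :=
    Subgroup.mul_mem _ (Subgroup.mul_mem _ (Subgroup.inv_mem _ hn0Q) (S.U1_le_Q hu)) hn0Q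
  have hvU : cj ((S.nW Js0.flatten)⁻¹ * u * S.nW Js0.flatten) S.U1 = S.U1 := by
    rw [← cj_mul, ← cj_mul, S.cj_n0_U1 Js0 hJs0 hw0, huV, e2]
  have hvB := S.mem_B1_of_cj_U1 _ hvQ hvU
  have hv1 : (S.nW Js0.flatten)⁻¹ * u * S.nW Js0.flatten ∈ S.B1 ⊓ S.V1 := ⟨hvB, hvV⟩
  rw [S.B1_inf_V1, Subgroup.mem_bot] at hv1
  have hu1 : u = 1 := by
    have : u = S.nW Js0.flatten * ((S.nW Js0.flatten)⁻¹ * u * S.nW Js0.flatten) *
        (S.nW Js0.flatten)⁻¹ := by group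
    rw [this, hv1]
    group
  rw [hu1, one_mul]
  exact hh'

end torus

section main

variable (Js0 : List (List ℕ)) (hJs0 : ∀ J ∈ Js0, J ∈ S.Ws)
  (hw0 : w0b D S.Bs Js0.flatten = true) (hw0r : w0b D S.Bs Js0.flatten.reverse = true)
  (hoppJ : ∀ J ∈ S.Ws, ∀ r ∈ J.map D.simple, wW S.Bs Js0.flatten (D.neg r) ∈ J.map D.simple)
  (hdisj : ∀ J ∈ S.Ws, ∀ J' ∈ S.Ws, J ≠ J' → ∀ i ∈ J, i ∉ J')
  (hidx : ¬ ringChar K ∣ (S.U1.subgroupOf S.Q).index)

include hJs0 hw0 hw0r hoppJ hdisj hidx in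
/-- the normal form of an automorphism of the twisted group -/
theorem exists_aut_normal_form (θ : ↥S.Q ≃* ↥S.Q) :
    ∃ (x : ↥S.Q) (ρ : Equiv.Perm {J : List ℕ // J ∈ S.Ws}),
      (S.U1.subgroupOf S.Q).map (θ.trans (MulAut.conj x⁻¹)).toMonoidHom
        = S.U1.subgroupOf S.Q ∧
      (S.V1.subgroupOf S.Q).map (θ.trans (MulAut.conj x⁻¹)).toMonoidHom
        = S.V1.subgroupOf S.Q ∧
      (S.B1.subgroupOf S.Q).map (θ.trans (MulAut.conj x⁻¹)).toMonoidHom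
        = S.B1.subgroupOf S.Q ∧
      (∀ J : {J : List ℕ // J ∈ S.Ws}, ((S.XJ J.1).subgroupOf S.Q).map
          (θ.trans (MulAut.conj x⁻¹)).toMonoidHom = (S.XJ (ρ J).1).subgroupOf S.Q) ∧
      (∀ J : {J : List ℕ // J ∈ S.Ws}, ((S.XmJ J.1).subgroupOf S.Q).map
          (θ.trans (MulAut.conj x⁻¹)).toMonoidHom = (S.XmJ (ρ J).1).subgroupOf S.Q) := by
  classical
  cases nonempty_fintype K
  obtain ⟨P, hPB, hPN, hPS⟩ := S.bnPair
  have : Fact (ringChar K).Prime := ⟨CharP.char_is_prime K _⟩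
  have : CharP K (ringChar K) := ringChar.charP K
  have : Finite ↥S.Q := inferInstance
  have hn0Q : S.nW Js0.flatten ∈ S.Q := S.nJs_mem Js0 hJs0
  -- the generators
  let s : {J : List ℕ // J ∈ S.Ws} → ↥S.Q := fun J => ⟨S.nW J.1, S.hnQ J.1 J.2⟩
  have hsS : ∀ J, s J ∈ P.S := by
    intro J
    rw [hPS]
    exact ⟨J.1, J.2, rfl⟩
  have hinj : Function.Injective s := by
    intro J J' h
    have hmem : (s J)⁻¹ * s J' ∈ P.B := by
      rw [h, inv_mul_cancel]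
      exact Subgroup.one_mem _
    exact Subtype.ext (congrArg Subtype.val (show (⟨J.1, J.2⟩ : {J : List ℕ // J ∈ S.Ws}) = ⟨J'.1, J'.2⟩ from by
      have h1 : S.nW J.1 = S.nW J'.1 := congrArg Subtype.val h
      have hH : (S.nW J.1)⁻¹ * S.nW J'.1 ∈ D.diagonalSubgroup K := by
        rw [h1, inv_mul_cancel]
        exact Subgroup.one_mem _
      have hact := act_eq_of_inv_mul_mem S.hD S.hA S.hadd S.Bs S.mLL S.hB S.h1 S.h2 S.hH J.1 J'.1
        (S.O.word J.1 J.2) (S.O.word J'.1 J'.2) hH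
      have hJJ : J.1 = J'.1 := by
        apply S.winj J.1 J.2 J'.1 J'.2
        intro k hk
        rw [← act_eq_wW S.T S.Bs S.mLL, ← act_eq_wW S.T S.Bs S.mLL]
        apply hact
        show D.simple k < S.T.nroots
        rw [S.hn]
        exact simple_lt' S.hA hk
      exact Subtype.ext hJJ))
  have hS : Set.range s = P.S := by
    rw [hPS]
    ext t
    constructor
    · rintro ⟨J, rfl⟩
      exact ⟨J.1, J.2, rfl⟩
    · rintro ⟨J, hJ, ht⟩
      exact ⟨⟨J, hJ⟩, Subtype.ext ht.symm⟩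
  -- the normaliser of `U¹`
  have hnorm : Subgroup.normalizer ((S.U1.subgroupOf S.Q : Subgroup ↥S.Q) : Set ↥S.Q) = P.B := by
    rw [hPB]
    exact S.normalizer_U1
  have hbot : P.B ⊓ S.V1.subgroupOf S.Q = ⊥ := by
    rw [hPB, ← inf_subgroupOf', S.B1_inf_V1, Subgroup.bot_subgroupOf]
  -- the opposite subgroups
  have hXm : ∀ J : {J : List ℕ // J ∈ S.Ws},
      (S.XmJ J.1).subgroupOf S.Q = P.parabolic {s J} ⊓ S.V1.subgroupOf S.Q := by
    intro J
    obtain ⟨rest, hok⟩ := S.jok J.1 J.2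
    symm
    apply AutTw.parabolic_inf_eq P (hsS J) _ _ hbot
    · intro y hy
      rw [Subgroup.mem_subgroupOf] at hy
      refine ⟨?_, ?_⟩
      · have hy' := hy
        unfold XmJ at hy'
        rw [mem_cj] at hy'
        have hxB : (S.nW J.1)⁻¹ * (y : GL D.Idx K) * S.nW J.1 ∈ S.B1 :=
          S.U1_le_B1 (S.XJ_le_U1 hok hy')
        have e : y = s J * ⟨(S.nW J.1)⁻¹ * (y : GL D.Idx K) * S.nW J.1, S.B1_le_Q hxB⟩ * (s J)⁻¹ := by
          apply Subtype.ext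
          show (y : GL D.Idx K) = S.nW J.1 * ((S.nW J.1)⁻¹ * (y : GL D.Idx K) * S.nW J.1) * (S.nW J.1)⁻¹
          group
        rw [e]
        have hsP : s J ∈ P.parabolic {s J} := by
          have : Subgroup.closure {s J} ≤ P.parabolic {s J} := le_sup_right
          exact this (Subgroup.subset_closure rfl)
        have hBP : P.B ≤ P.parabolic {s J} := le_sup_left
        refine Subgroup.mul_mem _ (Subgroup.mul_mem _ hsP (hBP ?_)) (Subgroup.inv_mem _ hsP)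
        rw [hPB, Subgroup.mem_subgroupOf]
        exact hxB
      · show y ∈ S.V1.subgroupOf S.Q
        rw [Subgroup.mem_subgroupOf]
        exact S.XmJ_le_V1 J.2 hok hy
    · rw [S.card_D_nJ P hPB J.2, S.card_dc_nJ J.2 hok, hPB,
        card_subgroupOf_of_le (S.XmJ_le_Q J.2 hok), card_subgroupOf_of_le S.B1_le_Q, S.card_XmJ]
    · rw [card_subgroupOf_of_le (S.XmJ_le_Q J.2 hok), S.card_XmJ]
      obtain ⟨x, hx, hx1⟩ := S.exists_XJ_ne_one J.2 hok
      have : Nontrivial ↥(S.XJ J.1) := ⟨⟨⟨x, hx⟩, 1, fun h => hx1 (congrArg Subtype.val h)⟩⟩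
      exact Finite.one_lt_card
  obtain ⟨x, ρ, h1, h2, h3, -, h5, h6⟩ := exists_normal_form P (ringChar K) s
    (S.U1.subgroupOf S.Q) (S.V1.subgroupOf S.Q) (⟨S.nW Js0.flatten, hn0Q⟩ : ↥S.Q)
    (fun J => (S.XJ J.1).subgroupOf S.Q) (fun J => (S.XmJ J.1).subgroupOf S.Q)
    hinj hS
    (((Unip.isPGroup_posUnipotent D S.hD (ringChar K)).to_le inf_le_left).comap_subtype)
    hidx hnorm
    (by rw [cj_subgroupOf, S.cj_n0_U1 Js0 hJs0 hw0])
    (by rw [cj_subgroupOf, S.cj_n0_V1 Js0 hJs0 hw0r]) hbot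
    (by
      intro g hg
      rw [hPB] at hg ⊢
      have hg' : cj (⟨(g : GL D.Idx K), g.2⟩ : ↥S.Q) (S.U1.subgroupOf S.Q) ⊓
          S.B1.subgroupOf S.Q = ⊥ := hg
      rw [cj_subgroupOf, ← inf_subgroupOf'] at hg'
      have h7 := eq_bot_of_subgroupOf_eq_bot (inf_le_right.trans S.B1_le_Q) hg'
      obtain ⟨b, hb, e⟩ := S.exists_B1_conj Js0 hJs0 hw0 _ g.2 h7
      refine ⟨⟨b, S.B1_le_Q hb⟩, ?_, ?_⟩
      · rw [Subgroup.mem_subgroupOf]
        exact hb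
      · have : cj g (S.U1.subgroupOf S.Q)
            = cj (⟨(g : GL D.Idx K), g.2⟩ : ↥S.Q) (S.U1.subgroupOf S.Q) := rfl
        rw [this, cj_subgroupOf, cj_subgroupOf, e])
    hXm
    (by
      intro J
      obtain ⟨rest, hok⟩ := S.jok J.1 J.2
      refine ⟨J, ?_⟩
      show cj _ ((S.XmJ J.1).subgroupOf S.Q) = _
      rw [cj_subgroupOf, S.cj_n0_XmJ Js0 hJs0 J.2 hok (hoppJ J.1 J.2)])
    (by
      intro J
      obtain ⟨rest, hok⟩ := S.jok J.1 J.2
      refine ⟨J, ?_⟩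
      show cj _ ((S.XmJ J.1).subgroupOf S.Q) = _
      rw [cj_subgroupOf, S.cj_n0_XmJ Js0 hJs0 J.2 hok (hoppJ J.1 J.2)])
    (by
      intro J J' hJJ y hy z hz
      obtain ⟨rest, hok⟩ := S.jok J.1 J.2
      obtain ⟨rest', hok'⟩ := S.jok J'.1 J'.2
      have hy' : (y : GL D.Idx K) ∈ S.XJ J.1 := hy
      have hz' : (z : GL D.Idx K) ∈ S.XmJ J'.1 := hz
      apply Subtype.ext
      rw [Subgroup.coe_mul, Subgroup.coe_mul]
      exact S.XJ_comm_XmJ J.2 J'.2 hok hok'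
        (hdisj J.1 J.2 J'.1 J'.2 (fun e => hJJ (Subtype.ext e))) _ hy' _ hz')
    (by
      intro J
      obtain ⟨rest, hok⟩ := S.jok J.1 J.2
      obtain ⟨x, hx, y, hy, hxy⟩ := S.exists_not_comm J.2 hok
      refine ⟨⟨x, S.XJ_le_Q hok hx⟩, ?_, ⟨y, S.XmJ_le_Q J.2 hok hy⟩, ?_, ?_⟩
      · show x ∈ S.XJ J.1
        exact hx
      · show y ∈ S.XmJ J.1
        exact hy
      · intro h
        exact hxy (congrArg Subtype.val h))
    θ
  rw [hPB] at h3
  exact ⟨x, ρ, h1, h2, h3, h5, h6⟩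

end main

end TwSetup

end Cfsg.Agent.Lib.Helper5.Tw
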