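import Cfsg.Agent.Lib.Helper5.Tw.RankOneTw
import Cfsg.Agent.Lib.Helper5.Chev.BNAxiom
import Mathlib

/-!
# The double coset condition in a twisted group (helper5)
-/

set_option autoImplicit false
set_option linter.unusedSectionVars false

namespace Cfsg.Agent.Lib.Helper5.Tw

open Cfsg.Lie Cfsg.Agent.Lib.Helper5.ChevPerm Cfsg.Agent.Lib.Helper5.ChevPermB
open Cfsg.Agent.Lib.Helper5.Chev
open scoped Matrix

section

variable {W : WD} {piL piiL sgL sgiL : List ℕ}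

theorem mapW_reverse (piL : List ℕ) (u : List ℕ) : mapW piL u.reverse = (mapW piL u).reverse :=
  List.map_reverse

/-- the inverse of a fixed element is fixed -/
theorem Fixw.reverse (G : GraphW W piL piiL sgL sgiL) (hV : W.Valid) {u : List ℕ}
    (hu : W.IsWord u) (hf : Fixw W piL u) : Fixw W piL u.reverse := by
  intro r hr
  have hr' := hV.act_lt hu.reverse hr
  have e1 : W.act u (W.act u.reverse r) = r := hV.act_reverse' hu hr
  have e2 := hf _ hr'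
  rw [e1] at e2
  rw [mapW_reverse]
  conv_lhs => rw [← e2]
  exact hV.act_reverse (mapW_isWord G hu) hr'

end

section

variable {K : Type*} [Field K] {D : ChevalleyDatum}

theorem UL_le_pos_of (L : List ℕ) (hL : ∀ r ∈ L, D.IsPosRoot r) :
    UL K D L ≤ D.posUnipotent K := by
  apply Subgroup.closure_mono
  rintro g ⟨r, hr, t, hg⟩
  exact ⟨r, t, hL r hr, hg⟩

end

namespace TwSetup

variable {K : Type*} [Field K] [Finite K] {D : ChevalleyDatum} (S : TwSetup K D)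

/-- `B ∩ Q` -/
noncomputable def B1 : Subgroup (GL D.Idx K) := D.borelSubgroup K ⊓ S.Q

/-- `N ∩ Q` -/
noncomputable def N1 : Subgroup (GL D.Idx K) := D.monomialSubgroup K ⊓ S.Q

/-- `H ∩ Q` -/
noncomputable def H1 : Subgroup (GL D.Idx K) := D.diagonalSubgroup K ⊓ S.Q

include S

theorem U1_le_B1 : S.U1 ≤ S.B1 := fun _ hg => ⟨S.U1_le_B hg, S.U1_le_Q hg⟩

theorem H1_le_B1 : S.H1 ≤ S.B1 := fun _ hg => ⟨S.hHB hg.1, hg.2⟩

theorem H1_le_N1 : S.H1 ≤ S.N1 := fun _ hg => ⟨S.hHN hg.1, hg.2⟩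

theorem nJ_mem_N1 {J : List ℕ} (hJ : J ∈ S.Ws) : S.nW J ∈ S.N1 := ⟨S.nW_mem J, S.hnQ J hJ⟩

theorem hJw {J : List ℕ} (hJ : J ∈ S.Ws) : ∀ i ∈ J, i < D.rank :=
  fun i hi => (S.isWord_iff J).1 (S.O.word J hJ) i hi

/-- elements of `N ∩ Q` normalise `H ∩ Q` -/
theorem N1_conj_H1 (n : GL D.Idx K) (hn : n ∈ S.N1) (h : GL D.Idx K) (hh : h ∈ S.H1) :
    n * h * n⁻¹ ∈ S.H1 ∧ n⁻¹ * h * n ∈ S.H1 := by
  have h1 := conj_mem_of_normalizer _ _ _ (S.hNH hn.1) hh.1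
  exact ⟨⟨h1.1, Subgroup.mul_mem _ (Subgroup.mul_mem _ hn.2 hh.2) (Subgroup.inv_mem _ hn.2)⟩,
    ⟨h1.2, Subgroup.mul_mem _ (Subgroup.mul_mem _ (Subgroup.inv_mem _ hn.2) hh.2) hn.2⟩⟩

/-- the square of `n_J` lies in `H ∩ Q` -/
theorem nJ_sq {J : List ℕ} (hJ : J ∈ S.Ws) : S.nW J * S.nW J ∈ S.H1 := by
  have hJw := S.hJw hJ
  have hJW : S.W.IsWord J := S.O.word J hJ
  refine ⟨?_, Subgroup.mul_mem _ (S.hnQ J hJ) (S.hnQ J hJ)⟩
  rw [← S.nW_append]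
  apply nWordU_mem_diagonal S.hD S.hA S.hadd S.Bs S.mLL S.hB S.h1 S.h2 (J ++ J)
  · intro i hi
    rw [List.mem_append] at hi
    rcases hi with hi | hi <;> exact hJw i hi
  · intro i hi
    have hrev := S.hV.act_eq_of_simple S.hR S.hm hJW.reverse hJW (S.O.rev J hJ)
    have hp : D.simple i < D.nroots := simple_lt' S.hA hi
    have hp' : D.simple i < S.W.n := by show D.simple i < S.T.nroots; rw [S.hn]; exact hp
    have e : wW S.Bs (J ++ J) (D.simple i) = D.simple i := by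
      rw [← act_eq_wW S.T S.Bs S.mLL]
      show S.W.act (J ++ J) (D.simple i) = D.simple i
      rw [WD.act_append, ← hrev _ (S.hV.act_lt hJW hp'), S.hV.act_reverse hJW hp']
    rw [e]
    exact (pos_iff_all D S.hD _ hp).1 (pos_simple_all D S.hD i hi)

/-- conjugation by the inverse of `n_L h` of the subgroup of a list of roots mapped to positive
roots -/
theorem conj_inv_pos (L : List ℕ) (hL : ∀ i ∈ L, i < D.rank) (h1 : GL D.Idx K)
    (hh1 : h1 ∈ D.diagonalSubgroup K) (R : List ℕ) (hR : ∀ r ∈ R, r < D.nroots)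
    (hpos : ∀ r ∈ R, D.nroots / 2 ≤ wW' S.Bs L r) (x : GL D.Idx K) (hx : x ∈ UL K D R) :
    (S.nW L * h1)⁻¹ * x * (S.nW L * h1) ∈ D.posUnipotent K := by
  have h2 := conj_UL_inv S.hA S.hadd S.Bs S.hB L hL R hR x hx
  have h3 : (nWordU S.hA S.hadd L)⁻¹ * x * nWordU S.hA S.hadd L ∈ D.posUnipotent K := by
    refine UL_le_pos_of _ ?_ h2
    intro r hr
    rw [List.mem_map] at hr
    obtain ⟨r', hr', rfl⟩ := hr
    rw [pos_iff_all D S.hD _ (wW'_lt S.hA S.Bs S.hB L hL r' (hR r' hr'))]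
    exact hpos r' hr'
  have h4 := (conj_mem_of_normalizer _ _ _ (S.hHU hh1) h3).2
  have : (S.nW L * h1)⁻¹ * x * (S.nW L * h1)
      = h1⁻¹ * ((nWordU S.hA S.hadd L)⁻¹ * x * nWordU S.hA S.hadd L) * h1 := by
    show (nWordU S.hA S.hadd L * h1)⁻¹ * x * (nWordU S.hA S.hadd L * h1) = _
    group
  rw [this]
  exact h4

/-- the diagonal subgroup normalises the subgroup of a list of roots -/
theorem diag_conj_UL (h0 : GL D.Idx K) (hh0 : h0 ∈ D.diagonalSubgroup K) (R : List ℕ)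
    (hR : ∀ r ∈ R, r < D.nroots) (x : GL D.Idx K) (hx : x ∈ UL K D R) :
    h0⁻¹ * x * h0 ∈ UL K D R := by
  have hle : UL K D R ≤ (UL K D R).comap (MulAut.conj h0⁻¹).toMonoidHom := by
    unfold UL
    rw [Subgroup.closure_le]
    rintro g ⟨r, hr, t, hg⟩
    have hg' : g = S.hadd.xU r t := Units.ext hg
    obtain ⟨t', e⟩ := conj_diag_x S.hD S.hadd h0⁻¹ (Subgroup.inv_mem _ hh0) r (hR r hr) t
    rw [SetLike.mem_coe, Subgroup.mem_comap]
    show h0⁻¹ * g * h0⁻¹⁻¹ ∈ _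
    rw [hg', e]
    exact xU_mem_UL S.hadd _ r hr _
  have := hle hx
  rw [Subgroup.mem_comap] at this
  have e : (MulAut.conj h0⁻¹).toMonoidHom x = h0⁻¹ * x * h0 := by
    show h0⁻¹ * x * h0⁻¹⁻¹ = _
    rw [inv_inv]
  rwa [e] at this

/-- the double coset condition at an ascent -/
theorem dc_ascent {J : List ℕ} (hJ : J ∈ S.Ws) {rest : List (List ℕ)}
    (hok : JOK D S.Bs S.sg J rest) (L : List ℕ) (hL : ∀ i ∈ L, i < D.rank) (h1 : GL D.Idx K)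
    (hh1 : h1 ∈ D.diagonalSubgroup K) (hnQ : S.nW L * h1 ∈ S.Q)
    (hasc : ∀ r ∈ J.map D.simple, D.nroots / 2 ≤ wW' S.Bs L r)
    (b : GL D.Idx K) (hb : b ∈ S.B1) :
    S.nW J * b * (S.nW L * h1) ∈ dc S.B1 (S.nW J * (S.nW L * h1)) := by
  set n := S.nW L * h1 with hn
  have hnN : n ∈ S.N1 := ⟨Subgroup.mul_mem _ (S.nW_mem L) (S.hHN hh1), hnQ⟩
  have hJN := S.nJ_mem_N1 hJ
  obtain ⟨u, hu, h0, hh0, rfl⟩ := S.borel1_decomp b hb
  obtain ⟨y, hy, x, hx, rfl⟩ := S.U1_split' hok u hu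
  -- the three conjugates
  have hc1 : S.nW J * y * (S.nW J)⁻¹ ∈ S.B1 :=
    S.U1_le_B1 (S.YJ_le_U1 hok (S.nJ_conj_YJ hJ hok y hy).1)
  have hc2 : S.nW J * h0 * (S.nW J)⁻¹ ∈ S.B1 := S.H1_le_B1 (S.N1_conj_H1 _ hJN h0 hh0).1
  have hxh : h0⁻¹ * x * h0 ∈ UL K D (J.map D.simple) :=
    S.diag_conj_UL h0 hh0.1 _ (S.rJ_lt hok) x hx.1
  have hc3 : n⁻¹ * (h0⁻¹ * x * h0) * n ∈ S.B1 := by
    refine ⟨S.hUB (S.conj_inv_pos L hL h1 hh1 _ (S.rJ_lt hok) hasc _ hxh), ?_⟩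
    have hxQ : x ∈ S.Q := S.U1_le_Q (S.XJ_le_U1 hok hx)
    exact Subgroup.mul_mem _ (Subgroup.mul_mem _ (Subgroup.inv_mem _ hnQ)
      (Subgroup.mul_mem _ (Subgroup.mul_mem _ (Subgroup.inv_mem _ hh0.2) hxQ) hh0.2)) hnQ
  rw [mem_dc]
  refine ⟨S.nW J * y * (S.nW J)⁻¹ * (S.nW J * h0 * (S.nW J)⁻¹), Subgroup.mul_mem _ hc1 hc2,
    n⁻¹ * (h0⁻¹ * x * h0) * n, hc3, ?_⟩
  group

/-- the double coset condition at a descent -/
theorem dc_descent {J : List ℕ} (hJ : J ∈ S.Ws) {rest : List (List ℕ)}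
    (hok : JOK D S.Bs S.sg J rest) (L : List ℕ) (hL : ∀ i ∈ L, i < D.rank) (h1 : GL D.Idx K)
    (hh1 : h1 ∈ D.diagonalSubgroup K) (hnQ : S.nW L * h1 ∈ S.Q)
    (hdesc : ∀ r ∈ J.map D.simple, wW' S.Bs L r < D.nroots / 2)
    (b : GL D.Idx K) (hb : b ∈ S.B1) :
    S.nW J * b * (S.nW L * h1) ∈ dc S.B1 (S.nW J * (S.nW L * h1)) ∪ dc S.B1 (S.nW L * h1) := by
  set n := S.nW L * h1 with hn
  have hnN : n ∈ S.N1 := ⟨Subgroup.mul_mem _ (S.nW_mem L) (S.hHN hh1), hnQ⟩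
  have hJN := S.nJ_mem_N1 hJ
  have hJQ : S.nW J ∈ S.Q := S.hnQ J hJ
  have hJw := S.hJw hJ
  obtain ⟨u, hu, h0, hh0, rfl⟩ := S.borel1_decomp b hb
  obtain ⟨y, hy, x, hx, rfl⟩ := S.U1_split' hok u hu
  have hc1 : S.nW J * y * (S.nW J)⁻¹ ∈ S.B1 :=
    S.U1_le_B1 (S.YJ_le_U1 hok (S.nJ_conj_YJ hJ hok y hy).1)
  have hc2 : S.nW J * h0 * (S.nW J)⁻¹ ∈ S.B1 := S.H1_le_B1 (S.N1_conj_H1 _ hJN h0 hh0).1
  by_cases hx1 : x = 1
  · left
    subst hx1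
    rw [mem_dc]
    refine ⟨S.nW J * y * (S.nW J)⁻¹ * (S.nW J * h0 * (S.nW J)⁻¹), Subgroup.mul_mem _ hc1 hc2,
      1, Subgroup.one_mem _, ?_⟩
    group
  · right
    obtain ⟨a, ha, h, hh, e⟩ := S.rank_one hJ hok x hx hx1
    have haQ : a ∈ S.Q := S.U1_le_Q (S.XJ_le_U1 hok ha)
    -- the conjugate of `a`
    have hz : (S.nW J)⁻¹ * a * S.nW J ∈ UL K D ((J.map D.simple).map D.neg) := by
      have := conj_UL_inv S.hA S.hadd S.Bs S.hB J hJw _ (S.rJ_lt hok) a ha.1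
      refine UL_mono ?_ this
      intro r hr
      rw [List.mem_map] at hr ⊢
      obtain ⟨r', hr', rfl⟩ := hr
      exact ⟨r', hr', ((hok.negJ r' hr').2).symm⟩
    have hnegR : ∀ r ∈ (J.map D.simple).map D.neg, r < D.nroots := by
      intro r hr
      rw [List.mem_map] at hr
      obtain ⟨r', hr', rfl⟩ := hr
      exact S.c.neg_lt r' (S.rJ_lt hok r' hr')
    have hz2 : h0⁻¹ * ((S.nW J)⁻¹ * a * S.nW J) * h0 ∈ UL K D ((J.map D.simple).map D.neg) :=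
      S.diag_conj_UL h0 hh0.1 _ hnegR _ hz
    have hu3 : n⁻¹ * (h0⁻¹ * ((S.nW J)⁻¹ * a * S.nW J) * h0) * n ∈ S.B1 := by
      refine ⟨S.hUB (S.conj_inv_pos L hL h1 hh1 _ hnegR ?_ _ hz2), ?_⟩
      · intro r hr
        rw [List.mem_map] at hr
        obtain ⟨r', hr', rfl⟩ := hr
        have hr'lt := S.rJ_lt hok r' hr'
        rw [wW'_neg S.hA S.Bs S.hB L hL r' hr'lt]
        exact neg_ge_half_all D S.hD _ (wW'_lt S.hA S.Bs S.hB L hL r' hr'lt) (hdesc r' hr')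
      · exact Subgroup.mul_mem _ (Subgroup.mul_mem _ (Subgroup.inv_mem _ hnQ)
          (Subgroup.mul_mem _ (Subgroup.mul_mem _ (Subgroup.inv_mem _ hh0.2)
            (Subgroup.mul_mem _ (Subgroup.mul_mem _ (Subgroup.inv_mem _ hJQ) haQ) hJQ)) hh0.2))
          hnQ
    have hsq := S.nJ_sq hJ
    rw [mem_dc]
    refine ⟨S.nW J * y * (S.nW J)⁻¹ * a * h * (S.nW J * S.nW J) * h0, ?_,
      n⁻¹ * (h0⁻¹ * ((S.nW J)⁻¹ * a * S.nW J) * h0) * n, hu3, ?_⟩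
    · exact Subgroup.mul_mem _ (Subgroup.mul_mem _ (Subgroup.mul_mem _ (Subgroup.mul_mem _ hc1
        (S.U1_le_B1 (S.XJ_le_U1 hok ha))) (S.H1_le_B1 hh)) (S.H1_le_B1 hsq)) (S.H1_le_B1 hh0)
    · have e' : S.nW J * x = a * (h * S.nW J) * a * S.nW J := by
        rw [← e]
        group
      calc S.nW J * (y * x * h0) * n
          = S.nW J * y * (S.nW J)⁻¹ * (S.nW J * x) * h0 * n := by group
        _ = S.nW J * y * (S.nW J)⁻¹ * (a * (h * S.nW J) * a * S.nW J) * h0 * n := by rw [e']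
        _ = _ := by group

end TwSetup

end Cfsg.Agent.Lib.Helper5.Tw
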