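import Mathlib

set_option autoImplicit false

namespace Cfsg.Agent.Lib.Helper5.Tw

/-- the number of solutions of `a ^ q = a` in a field with `q ^ m` elements -/
theorem card_pow_fix {K : Type*} [Field K] [Fintype K] (q m : ℕ) (hq : 1 < q)
    (hK : Fintype.card K = q ^ m) : Nat.card {a : K // a ^ q = a} = q := by
  classical
  have hcyc : IsCyclic Kˣ := inferInstance
  have hcardU : Nat.card Kˣ = q ^ m - 1 := by
    rw [Nat.card_units, Nat.card_eq_fintype_card, hK]
  have hker := IsCyclic.card_powMonoidHom_ker Kˣ (q - 1)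
  have hdvd : q - 1 ∣ q ^ m - 1 := by
    have := Nat.sub_dvd_pow_sub_pow q 1 m
    rwa [one_pow] at this
  rw [hcardU, Nat.gcd_eq_right hdvd] at hker
  have hset : {a : K | a ^ q = a}
      = insert 0 (Units.val '' ((powMonoidHom (q - 1) : Kˣ →* Kˣ).ker : Set Kˣ)) := by
    ext a
    simp only [Set.mem_ofPred_eq, Set.mem_insert_iff, Set.mem_image, SetLike.mem_coe,
      MonoidHom.mem_ker, powMonoidHom_apply]
    constructor
    · intro h
      by_cases ha : a = 0
      · exact Or.inl ha
      · right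
        refine ⟨Units.mk0 a ha, ?_, rfl⟩
        apply Units.ext
        rw [Units.val_pow_eq_pow_val, Units.val_mk0, Units.val_one]
        have h1 : a ^ (q - 1) * a = 1 * a := by
          rw [← pow_succ, Nat.sub_add_cancel (by omega), h, one_mul]
        exact mul_right_cancel₀ ha h1
    · rintro (rfl | ⟨u, hu, rfl⟩)
      · exact zero_pow (by omega)
      · have h1 : (u : K) ^ (q - 1) = 1 := by
          rw [← Units.val_pow_eq_pow_val, hu, Units.val_one]
        calc (u : K) ^ q = (u : K) ^ (q - 1) * u := by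
              rw [← pow_succ, Nat.sub_add_cancel (by omega)]
          _ = u := by rw [h1, one_mul]
  have h0 : (0 : K) ∉ Units.val '' ((powMonoidHom (q - 1) : Kˣ →* Kˣ).ker : Set Kˣ) := by
    rintro ⟨u, -, hu⟩
    exact u.ne_zero hu
  show Nat.card ↥{a : K | a ^ q = a} = q
  rw [Nat.card_coe_set_eq, hset, Set.ncard_insert_of_notMem h0 (Set.toFinite _),
    Set.ncard_image_of_injective _ Units.val_injective, ← Nat.card_coe_set_eq]
  have : Nat.card ↥((powMonoidHom (q - 1) : Kˣ →* Kˣ).ker : Set Kˣ) = q - 1 := hker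
  rw [this]
  omega

/-- the power map `t ↦ t ^ q` of a finite field with `q ^ m` elements as a ring endomorphism -/
theorem exists_frob {K : Type*} [Field K] [Fintype K] {q m : ℕ} (hq : IsPrimePow q)
    (hK : Fintype.card K = q ^ m) :
    ∃ φ : K →+* K, (∀ t, φ t = t ^ q) ∧ (∀ t, φ^[m] t = t) := by
  obtain ⟨p, k, hp, hk, rfl⟩ := (isPrimePow_nat_iff q).1 hq
  have : CharP K (ringChar K) := ringChar.charP K
  obtain ⟨n, hp', hn⟩ := FiniteField.card K (ringChar K)
  have hdvd : ringChar K ∣ (p ^ k) ^ m := by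
    rw [← hK, hn]
    exact dvd_pow_self _ n.ne_zero
  have heq : ringChar K = p :=
    (Nat.prime_dvd_prime_iff_eq hp' hp).1 (hp'.dvd_of_dvd_pow (hp'.dvd_of_dvd_pow hdvd))
  have : Fact p.Prime := ⟨hp⟩
  have : CharP K p := heq ▸ ringChar.charP K
  refine ⟨iterateFrobenius K p k, fun t => iterateFrobenius_def _ _ _, ?_⟩
  have hpow : ∀ (j : ℕ) (t : K), (iterateFrobenius K p k)^[j] t = t ^ ((p ^ k) ^ j) := by
    intro j
    induction j with
    | zero => intro t; simp
    | succ j ih =>
      intro t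
      rw [Function.iterate_succ_apply', ih, iterateFrobenius_def, ← pow_mul, ← pow_succ]
  intro t
  rw [hpow, ← hK, FiniteField.pow_card]

end Cfsg.Agent.Lib.Helper5.Tw
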