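import Cfsg.Agent.Lib.Helper5.Tw.Reach
import Cfsg.Agent.Lib.Helper5.Tw.FieldFix
import Cfsg.Agent.Lib.Helper5.Chev.HsD4
import Cfsg.Prelude.Def_LieTwisted
import Mathlib

/-!
# The triality twisted group: data, and the order of `U¹` (helper5)
-/

set_option autoImplicit false
set_option maxRecDepth 100000

namespace Cfsg.Agent.Lib.Helper5.Tw

open Cfsg.Lie Cfsg.Agent.Lib.Helper5.ChevPerm Cfsg.Agent.Lib.Helper5.ChevPermB
open Cfsg.Agent.Lib.Helper5.Chev
open scoped Matrix

section general

variable {K : Type*} [Field K] {D : ChevalleyDatum} {T : FD}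

theorem rearr2 {G : Type*} [Group G] (a b A B : G) (haA : Commute a A) (haB : Commute a B)
    (hbA : Commute b A) : a * b * a * (A * B * A) = (a * A) * (b * B) * (a * A) := by
  calc a * b * a * (A * B * A) = a * b * (a * A) * B * A := by group
    _ = a * b * (A * a) * B * A := by rw [haA.eq]
    _ = a * (b * A) * (a * B) * A := by group
    _ = a * (A * b) * (B * a) * A := by rw [hbA.eq, haB.eq]
    _ = (a * A) * (b * B) * (a * A) := by group

theorem nUi_eq (hA : T.Agrees D) (hadd : AllAdd K D) {i : ℕ} (hi : i < D.rank) :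
    nUi hA hadd i = hadd.xU (D.simple i) 1 * hadd.xU (D.neg (D.simple i)) (-1) *
      hadd.xU (D.simple i) 1 := by
  apply Units.ext
  rw [nUi_val hA hadd hi, nMat_eq_prod, Units.val_mul, Units.val_mul, inv_one, Matrix.mul_assoc]
  rfl

end general

namespace D4

def pi : List ℕ := [2, 1, 3, 0]
def sg : List ℕ := [0, 1, 6, 2, 7, 10, 3, 8, 4, 9, 11, 5, 18, 12, 14, 19, 15, 20, 13, 16, 21, 17, 22, 23]
def ep : List ℤ := [1, 1, -1, 1, -1, 1, -1, 1, -1, 1, 1, 1, 1, 1, 1, -1, 1, -1, 1, -1, 1, -1, 1, 1]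
def sgi : List ℕ := [0, 1, 3, 6, 8, 11, 2, 4, 7, 9, 5, 10, 13, 18, 14, 16, 19, 21, 12, 15, 17, 20, 22, 23]

theorem cert : GraphCert chevD4 pi sg ep := cert_of_certb _ _ _ _ (by decide +kernel)

theorem hsgi : ∀ r < chevD4.nroots, sgi.getD (sg.getD r 0) 0 = r := by decide +kernel

/-- the order of the positive roots with the block of `p₁, p₃, p₄` first -/
def bsA : List (List ℕ) := [[18, 13, 12], [14], [19, 16, 15], [21, 17, 20], [22], [23]]
/-- the order of the positive roots with the block of `p₂` first -/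
def bsB : List (List ℕ) := [[14], [18, 13, 12], [19, 16, 15], [21, 17, 20], [22], [23]]

theorem blockA : ∀ b ∈ bsA, BlockOK chevD4 sg b := by decide +kernel
theorem blockB : ∀ b ∈ bsB, BlockOK chevD4 sg b := by decide +kernel
theorem blockN : BlockOK chevD4 sg [5, 10, 11] := by decide +kernel
theorem ordA : OrdOK chevD4 bsA.flatten :=
  ⟨by decide +kernel, by decide +kernel, by decide +kernel, by decide +kernel⟩
theorem ordB : OrdOK chevD4 bsB.flatten :=
  ⟨by decide +kernel, by decide +kernel, by decide +kernel, by decide +kernel⟩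
theorem shapeA : ∀ b ∈ bsA, shapeOK ep sgi 3 b := by decide +kernel
theorem nodupA : bsA.flatten.Nodup := by decide +kernel
theorem nodupB : bsB.flatten.Nodup := by decide +kernel

def Js : List (List ℕ) := [[18, 13, 12], [14]]
def Ws : List (List ℕ) := [[0, 2, 3], [1]]
def rcert : List (ℕ × List ℕ) := [(0, []), (1, []), (0, [1]), (0, [0, 1]), (1, [0]), (1, [1, 0])]

theorem reachA : reachOK BsD4.Bs Js Ws bsA rcert := by decide +kernel


section main

variable {K : Type*} [Field K]

theorem hadd' : AllAdd K chevD4 := allAdd_all chevD4 (by simp)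

theorem hD4 : chevD4 ∈ [chevG2, chevB2, chevD4, chevF4, chevE6, chevE7, chevE8] := by simp

/-- the generator attached to a block of three roots -/
theorem gen3_mem (q : ℕ) (g : GL chevD4.Idx K) (rs : ℕ × ℕ × ℕ)
    (hrs : rs ∈ [(d4p1, d4p3, d4p4), (d4m1, d4m3, d4m4)]) (t : K)
    (hg : (g : Matrix chevD4.Idx chevD4.Idx K)
      = chevD4.wordMat K [(rs.1, t), (rs.2.1, t ^ q), (rs.2.2, t ^ (q ^ 2))]) :
    g ∈ twistedD4 K q := by
  apply Subgroup.subset_closure
  exact ⟨_, Or.inr ⟨t, rs, hrs, rfl⟩, hg⟩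

theorem gen1_mem (q : ℕ) (g : GL chevD4.Idx K) (r : ℕ) (hr : r ∈ [d4p2, d4m2]) (t : K)
    (ht : t ^ q = t) (hg : (g : Matrix chevD4.Idx chevD4.Idx K) = chevD4.wordMat K [(r, t)]) :
    g ∈ twistedD4 K q := by
  apply Subgroup.subset_closure
  exact ⟨_, Or.inl ⟨t, ht, r, hr, rfl⟩, hg⟩

variable (φ : K →+* K) (q : ℕ) (hφ : ∀ t, φ t = t ^ q) (hφ3 : ∀ t, φ (φ (φ t)) = t)

include hφ hφ3 in
/-- the generators of the twisted group are fixed -/
theorem twisted_le_fix : twistedD4 K q ≤ fixS cert φ := by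
  have hadd := hadd' (K := K)
  unfold twistedD4 ChevalleyDatum.genSubgroup
  rw [Subgroup.closure_le]
  rintro g ⟨w, hw, hg⟩
  rw [SetLike.mem_coe, mem_fixS]
  rcases hw with ⟨t, ht, r, hr, rfl⟩ | ⟨t, rs, hrs, rfl⟩
  · have hg' : g = hadd.xU r t := by
      apply Units.ext
      rw [hg]
      simp [ChevalleyDatum.wordMat, AllAdd.xU_val]
    simp only [List.mem_cons, List.not_mem_nil, or_false] at hr
    rcases hr with rfl | rfl
    · rw [hg', sigma_xU cert φ hadd _ (by decide)]
      have e1 : sg.getD d4p2 0 = d4p2 := by decide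
      have e2 : epF K ep d4p2 = 1 := by simp [epF, ep, d4p2]
      rw [e1, e2, one_mul, hφ, ht]
    · rw [hg', sigma_xU cert φ hadd _ (by decide)]
      have e1 : sg.getD d4m2 0 = d4m2 := by decide
      have e2 : epF K ep d4m2 = 1 := by simp [epF, ep, d4m2]
      rw [e1, e2, one_mul, hφ, ht]
  · simp only [List.mem_cons, List.not_mem_nil, or_false] at hrs
    rcases hrs with rfl | rfl
    · have hg' : g = hadd.wordU (wordL [18, 13, 12]
          (fun r => if r = 18 then t else if r = 13 then φ t else φ (φ t))) := by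
        apply Units.ext
        rw [hg, hadd.wordU_val]
        simp [wordL, d4p1, d4p3, d4p4, hφ, ← pow_mul, sq]
      rw [hg', sigma_block hD4 cert φ hadd sgi hsgi _ (blockA _ (by simp [bsA]))]
      congr 1
      apply wordL_congr
      intro r hr
      simp only [List.mem_cons, List.not_mem_nil, or_false] at hr
      rcases hr with rfl | rfl | rfl <;> simp [twP, sgi, epF, ep, hφ3]
    · have hg' : g = hadd.wordU (wordL [5, 10, 11]
          (fun r => if r = 5 then t else if r = 10 then φ t else φ (φ t))) := by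
        apply Units.ext
        rw [hg, hadd.wordU_val]
        simp [wordL, d4m1, d4m3, d4m4, hφ, ← pow_mul, sq]
      rw [hg', sigma_block hD4 cert φ hadd sgi hsgi _ blockN]
      congr 1
      apply wordL_congr
      intro r hr
      simp only [List.mem_cons, List.not_mem_nil, or_false] at hr
      rcases hr with rfl | rfl | rfl <;> simp [twP, sgi, epF, ep, hφ3]


include hφ in
theorem fixJ0 [Finite K] : UL K chevD4 [18, 13, 12] ⊓ fixS cert φ ≤ twistedD4 K q := by
  have hadd := hadd' (K := K)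
  intro g hg
  obtain ⟨t, rfl, ht⟩ := fix_first_block hD4 cert φ hadd sgi hsgi [18, 13, 12]
    [[14], [19, 16, 15], [21, 17, 20], [22], [23]] blockA ordA nodupA g hg
  have h13 : t 13 = φ (t 18) := by
    have := ht 13 (by simp)
    simp [twP, sgi, epF, ep] at this
    exact this.symm
  have h12 : t 12 = φ (t 13) := by
    have := ht 12 (by simp)
    simp [twP, sgi, epF, ep] at this
    exact this.symm
  apply gen3_mem q _ (d4p1, d4p3, d4p4) (by simp) (t 18)
  rw [hadd.wordU_val]
  simp [wordL, d4p1, d4p3, d4p4, h12, h13, hφ, ← pow_mul, sq]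

include hφ in
theorem fixJ1 [Finite K] : UL K chevD4 [14] ⊓ fixS cert φ ≤ twistedD4 K q := by
  have hadd := hadd' (K := K)
  intro g hg
  obtain ⟨t, rfl, ht⟩ := fix_first_block hD4 cert φ hadd sgi hsgi [14]
    [[18, 13, 12], [19, 16, 15], [21, 17, 20], [22], [23]] blockB ordB nodupB g hg
  have h14 : φ (t 14) = t 14 := by
    have := ht 14 (by simp)
    simp [twP, sgi, epF, ep] at this
    exact this
  apply gen1_mem q _ d4p2 (by simp) (t 14) (by rw [← hφ, h14])
  rw [hadd.wordU_val]
  simp [wordL, d4p2]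

include hφ in
theorem neg_one_pow : (-1 : K) ^ q = -1 := by
  rw [← hφ, map_neg, map_one]

include hφ in
theorem nW1_mem : nWordU DataD4.agrees (hadd' (K := K)) [1] ∈ twistedD4 K q := by
  have hadd := hadd' (K := K)
  have e : nWordU DataD4.agrees hadd [1] = nUi DataD4.agrees hadd 1 := by simp [nWordU]
  rw [e, nUi_eq DataD4.agrees hadd (by decide : 1 < chevD4.rank)]
  have e1 : chevD4.simple 1 = 14 := by decide
  have e2 : chevD4.neg 14 = 9 := by decide
  rw [e1, e2]
  have h1 : hadd.xU 14 (1 : K) ∈ twistedD4 K q :=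
    gen1_mem q _ d4p2 (by simp) 1 (one_pow _) (by simp [ChevalleyDatum.wordMat, AllAdd.xU_val, d4p2])
  have h2 : hadd.xU 9 (-1 : K) ∈ twistedD4 K q :=
    gen1_mem q _ d4m2 (by simp) (-1) (neg_one_pow φ q hφ)
      (by simp [ChevalleyDatum.wordMat, AllAdd.xU_val, d4m2])
  exact Subgroup.mul_mem _ (Subgroup.mul_mem _ h1 h2) h1

include hφ in
theorem nW0_mem : nWordU DataD4.agrees (hadd' (K := K)) [0, 2, 3] ∈ twistedD4 K q := by
  have hadd := hadd' (K := K)
  have e : nWordU DataD4.agrees hadd [0, 2, 3] = nUi DataD4.agrees hadd 0 *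
      (nUi DataD4.agrees hadd 2 * nUi DataD4.agrees hadd 3) := by simp [nWordU]
  rw [e, nUi_eq DataD4.agrees hadd (by decide : 0 < chevD4.rank),
    nUi_eq DataD4.agrees hadd (by decide : 2 < chevD4.rank),
    nUi_eq DataD4.agrees hadd (by decide : 3 < chevD4.rank)]
  have e0 : chevD4.simple 0 = 18 := by decide
  have e2 : chevD4.simple 2 = 13 := by decide
  have e3 : chevD4.simple 3 = 12 := by decide
  have f0 : chevD4.neg 18 = 5 := by decide
  have f2 : chevD4.neg 13 = 10 := by decide
  have f3 : chevD4.neg 12 = 11 := by decide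
  rw [e0, e2, e3, f0, f2, f3]
  have cm : ∀ (r s : ℕ), r < chevD4.nroots → s < chevD4.nroots → s ≠ r → s ≠ chevD4.neg r →
      chevD4.commTerms r s = [] → ∀ t u : K, Commute (hadd.xU r t) (hadd.xU s u) :=
    fun r s h1 h2 h3 h4 h5 t u => xU_commute hD4 hadd r s h1 h2 h3 h4 h5 t u
  have c1 := cm 13 12 (by decide) (by decide) (by decide) (by decide) (by decide) 1 1
  have c2 := cm 13 11 (by decide) (by decide) (by decide) (by decide) (by decide) 1 (-1)
  have c3 := cm 10 12 (by decide) (by decide) (by decide) (by decide) (by decide) (-1) 1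
  rw [rearr2 _ _ _ _ c1 c2 c3]
  have d1 := cm 18 13 (by decide) (by decide) (by decide) (by decide) (by decide) 1 1
  have d2 := cm 18 12 (by decide) (by decide) (by decide) (by decide) (by decide) 1 1
  have d3 := cm 18 10 (by decide) (by decide) (by decide) (by decide) (by decide) 1 (-1)
  have d4 := cm 18 11 (by decide) (by decide) (by decide) (by decide) (by decide) 1 (-1)
  have d5 := cm 5 13 (by decide) (by decide) (by decide) (by decide) (by decide) (-1) 1
  have d6 := cm 5 12 (by decide) (by decide) (by decide) (by decide) (by decide) (-1) 1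
  rw [rearr2 _ _ _ _ (d1.mul_right d2) (d3.mul_right d4) (d5.mul_right d6)]
  have h1 : hadd.xU 18 (1 : K) * (hadd.xU 13 1 * hadd.xU 12 1) ∈ twistedD4 K q := by
    apply gen3_mem q _ (d4p1, d4p3, d4p4) (by simp) 1
    simp [ChevalleyDatum.wordMat, AllAdd.xU_val, d4p1, d4p3, d4p4]
  have h2 : hadd.xU 5 (-1 : K) * (hadd.xU 10 (-1) * hadd.xU 11 (-1)) ∈ twistedD4 K q := by
    apply gen3_mem q _ (d4m1, d4m3, d4m4) (by simp) (-1)
    have hn := neg_one_pow φ q hφ
    have hn2 : (-1 : K) ^ (q ^ 2) = -1 := by rw [sq, pow_mul, hn, hn]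
    simp [ChevalleyDatum.wordMat, AllAdd.xU_val, d4m1, d4m3, d4m4, hn, hn2]
  exact Subgroup.mul_mem _ (Subgroup.mul_mem _ h1 h2) h1

end main

/-- `|U ∩ ³D₄(q)| = q ^ 12` -/
theorem card_U1 {K : Type*} [Field K] [Fintype K] {q : ℕ} (hq : IsPrimePow q)
    (hK : Fintype.card K = q ^ 3) :
    Nat.card ↥(chevD4.posUnipotent K ⊓ twistedD4 K q) = q ^ 12 := by
  obtain ⟨φ, hφ, hφ3⟩ := exists_frob hq hK
  have hφ3' : ∀ t, φ (φ (φ t)) = t := fun t => hφ3 t
  have hadd := hadd' (K := K)
  have hle := twisted_le_fix φ q hφ hφ3'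
  have hfix : chevD4.posUnipotent K ⊓ fixS cert φ ≤ twistedD4 K q := by
    apply fix_le_of_reach hD4 DataD4.agrees hadd BsD4.Bs HsD4.reflBs' cert φ sgi hsgi bsA blockA ordA
      _ hle Js Ws rcert reachA
    · intro J hJ
      simp only [Js, List.mem_cons, List.not_mem_nil, or_false] at hJ
      rcases hJ with rfl | rfl
      · exact ⟨by decide, fixJ0 φ q hφ⟩
      · exact ⟨by decide, fixJ1 φ q hφ⟩
    · intro W hW
      simp only [Ws, List.mem_cons, List.not_mem_nil, or_false] at hW
      rcases hW with rfl | rfl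
      · exact ⟨by decide, nW0_mem φ q hφ⟩
      · exact ⟨by decide, nW1_mem φ q hφ⟩
  have heq : chevD4.posUnipotent K ⊓ twistedD4 K q = chevD4.posUnipotent K ⊓ fixS cert φ :=
    le_antisymm (inf_le_inf_left _ hle) (le_inf inf_le_left hfix)
  have hqfix : Nat.card {a : K // φ a = a} = q := by
    rw [← card_pow_fix q 3 hq.one_lt hK]
    exact Nat.card_congr (Equiv.subtypeEquivRight (fun a => by rw [hφ]))
  rw [heq, card_fix_eq hD4 cert φ hadd sgi hsgi bsA blockA ordA,
    card_sol_blocks φ sgi 3 q hφ3 hqfix bsA shapeA nodupA, Nat.card_eq_fintype_card, hK]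
  simp only [bsA, List.map_cons, List.map_nil, List.prod_cons, List.prod_nil, List.length_cons,
    List.length_nil]
  norm_num
  ring

end D4

end Cfsg.Agent.Lib.Helper5.Tw
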