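import Cfsg.Agent.Lib.Helper5.Tw.WeylFixChain
import Cfsg.Agent.Lib.Helper5.Chev.CxD4
import Mathlib

/-!
# The fixed elements of the Weyl group along a chain of parabolic subgroups: type D4 (helper5)
-/

set_option autoImplicit false
set_option maxRecDepth 100000

namespace Cfsg.Agent.Lib.Helper5.Tw.WfD4

open Cfsg.Lie Cfsg.Agent.Lib.Helper5.Chev Cfsg.Agent.Lib.Helper5.Tw

def piL : List ℕ := [2, 1, 3, 0]
def piiL : List ℕ := [3, 1, 0, 2]
def sgL : List ℕ := [0, 1, 6, 2, 7, 10, 3, 8, 4, 9, 11, 5, 18, 12, 14, 19, 15, 20, 13, 16, 21, 17, 22, 23]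
def sgiL : List ℕ := [0, 1, 3, 6, 8, 11, 2, 4, 7, 9, 5, 10, 13, 18, 14, 16, 19, 21, 12, 15, 17, 20, 22, 23]
def Ws : List (List ℕ) := [[0, 2, 3], [1]]

/-- the subset of level 1 -/
def K1 : List ℕ := [1]
/-- the representatives of level 1 -/
def certs1 : List PcEntry := [
  ([], [18, 14, 13, 12], [(false, 1)]),
  ([1], [19, 9, 16, 15], [(false, 0)])]

/-- the subset of level 2 -/
def K2 : List ℕ := [0, 1, 2, 3]
/-- the representatives of level 2 -/
def certs2 : List PcEntry := [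
  ([], [18, 14, 13, 12], [(false, 1), (true, 1), (false, 2), (false, 3)]),
  ([0], [5, 19, 13, 12], [(false, 0), (false, 4), (false, 5), (false, 6)]),
  ([2], [18, 16, 10, 12], [(false, 5), (false, 7), (false, 0), (false, 8)]),
  ([3], [18, 15, 13, 11], [(false, 6), (false, 9), (false, 8), (false, 0)]),
  ([1, 0], [4, 18, 16, 15], [(true, 1), (false, 1), (false, 10), (false, 11)]),
  ([2, 0], [5, 21, 10, 12], [(false, 2), (false, 12), (false, 1), (false, 13)]),
  ([3, 0], [5, 20, 13, 11], [(false, 3), (false, 14), (false, 13), (false, 1)]),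
  ([1, 2], [19, 13, 7, 15], [(false, 15), (false, 2), (true, 1), (false, 16)]),
  ([3, 2], [18, 17, 10, 11], [(false, 13), (false, 17), (false, 3), (false, 2)]),
  ([1, 3], [19, 12, 16, 8], [(false, 18), (false, 3), (false, 19), (true, 1)]),
  ([2, 1, 0], [2, 18, 14, 17], [(true, 1), (false, 20), (false, 4), (false, 21)]),
  ([3, 1, 0], [3, 18, 17, 14], [(true, 1), (false, 22), (false, 21), (false, 4)]),
  ([1, 2, 0], [4, 21, 7, 15], [(false, 23), (false, 5), (false, 20), (false, 24)]),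
  ([3, 2, 0], [5, 22, 10, 11], [(false, 8), (false, 25), (false, 6), (false, 5)]),
  ([1, 3, 0], [4, 20, 16, 8], [(false, 26), (false, 6), (false, 27), (false, 22)]),
  ([0, 1, 2], [14, 13, 2, 20], [(false, 7), (false, 23), (true, 1), (false, 28)]),
  ([3, 1, 2], [20, 13, 6, 14], [(false, 28), (false, 29), (true, 1), (false, 7)]),
  ([1, 3, 2], [19, 17, 7, 8], [(false, 30), (false, 8), (false, 31), (false, 29)]),
  ([0, 1, 3], [14, 12, 21, 3], [(false, 9), (false, 26), (false, 32), (true, 1)]),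
  ([2, 1, 3], [21, 12, 14, 6], [(false, 32), (false, 31), (false, 9), (true, 1)]),
  ([1, 2, 1, 0], [2, 19, 9, 17], [(false, 33), (false, 10), (false, 12), (false, 34)]),
  ([3, 2, 1, 0], [1, 18, 15, 16], [(true, 1), (false, 35), (false, 11), (false, 10)]),
  ([1, 3, 1, 0], [3, 19, 17, 9], [(false, 36), (false, 11), (false, 37), (false, 14)]),
  ([0, 1, 2, 0], [9, 16, 2, 20], [(false, 12), (false, 15), (false, 33), (false, 38)]),
  ([3, 1, 2, 0], [3, 22, 6, 14], [(false, 38), (false, 39), (false, 34), (false, 12)]),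
  ([1, 3, 2, 0], [4, 23, 7, 8], [(false, 40), (false, 13), (false, 41), (false, 39)]),
  ([0, 1, 3, 0], [9, 15, 21, 3], [(false, 14), (false, 18), (false, 42), (false, 36)]),
  ([2, 1, 3, 0], [2, 22, 14, 6], [(false, 42), (false, 41), (false, 14), (false, 37)]),
  ([3, 0, 1, 2], [15, 13, 1, 19], [(false, 16), (false, 43), (true, 1), (false, 15)]),
  ([1, 3, 1, 2], [20, 16, 6, 9], [(false, 44), (false, 16), (false, 45), (false, 17)]),
  ([0, 1, 3, 2], [14, 22, 2, 3], [(false, 17), (false, 40), (false, 46), (false, 44)]),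
  ([2, 1, 3, 2], [21, 15, 9, 6], [(false, 46), (false, 19), (false, 17), (false, 45)]),
  ([2, 0, 1, 3], [16, 12, 19, 1], [(false, 19), (false, 47), (false, 18), (true, 1)]),
  ([0, 1, 2, 1, 0], [7, 14, 4, 22], [(false, 20), (true, 1), (false, 23), (false, 48)]),
  ([3, 1, 2, 1, 0], [1, 20, 8, 16], [(false, 48), (false, 49), (false, 24), (false, 20)]),
  ([1, 3, 2, 1, 0], [0, 19, 12, 13], [(false, 50), (false, 21), (false, 51), (false, 49)]),
  ([0, 1, 3, 1, 0], [8, 14, 22, 4], [(false, 22), (true, 1), (false, 52), (false, 26)]),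
  ([2, 1, 3, 1, 0], [1, 21, 15, 7], [(false, 52), (false, 51), (false, 22), (false, 27)]),
  ([3, 0, 1, 2, 0], [8, 17, 1, 19], [(false, 24), (false, 53), (false, 48), (false, 23)]),
  ([1, 3, 1, 2, 0], [3, 23, 6, 9], [(false, 54), (false, 24), (false, 55), (false, 25)]),
  ([0, 1, 3, 2, 0], [9, 23, 2, 3], [(false, 25), (false, 30), (false, 56), (false, 54)]),
  ([2, 1, 3, 2, 0], [2, 23, 9, 6], [(false, 56), (false, 27), (false, 25), (false, 55)]),
  ([2, 0, 1, 3, 0], [7, 17, 19, 1], [(false, 27), (false, 57), (false, 26), (false, 52)]),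
  ([1, 3, 0, 1, 2], [12, 16, 0, 18], [(false, 58), (false, 28), (false, 59), (false, 53)]),
  ([0, 1, 3, 1, 2], [15, 21, 1, 4], [(false, 29), (false, 58), (false, 60), (false, 30)]),
  ([2, 1, 3, 1, 2], [22, 14, 8, 7], [(false, 60), (true, 1), (false, 29), (false, 31)]),
  ([2, 0, 1, 3, 2], [16, 20, 4, 1], [(false, 31), (false, 61), (false, 30), (false, 60)]),
  ([1, 2, 0, 1, 3], [13, 15, 18, 0], [(false, 61), (false, 32), (false, 57), (false, 62)]),
  ([3, 0, 1, 2, 1, 0], [6, 15, 3, 21], [(false, 34), (false, 63), (false, 38), (false, 33)]),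
  ([1, 3, 1, 2, 1, 0], [0, 20, 11, 13], [(false, 64), (false, 34), (false, 65), (false, 35)]),
  ([0, 1, 3, 2, 1, 0], [0, 14, 12, 13], [(false, 35), (true, 1), (false, 66), (false, 64)]),
  ([2, 1, 3, 2, 1, 0], [0, 21, 12, 10], [(false, 66), (false, 37), (false, 35), (false, 65)]),
  ([2, 0, 1, 3, 1, 0], [6, 16, 20, 2], [(false, 37), (false, 67), (false, 36), (false, 42)]),
  ([1, 3, 0, 1, 2, 0], [11, 17, 0, 18], [(false, 68), (false, 38), (false, 69), (false, 43)]),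
  ([0, 1, 3, 1, 2, 0], [8, 23, 1, 4], [(false, 39), (false, 68), (false, 70), (false, 40)]),
  ([2, 1, 3, 1, 2, 0], [1, 23, 8, 7], [(false, 70), (false, 65), (false, 39), (false, 41)]),
  ([2, 0, 1, 3, 2, 0], [7, 23, 4, 1], [(false, 41), (false, 71), (false, 40), (false, 70)]),
  ([1, 2, 0, 1, 3, 0], [10, 17, 18, 0], [(false, 71), (false, 42), (false, 47), (false, 72)]),
  ([0, 1, 3, 0, 1, 2], [12, 21, 0, 5], [(false, 43), (false, 44), (false, 73), (false, 68)]),
  ([2, 1, 3, 0, 1, 2], [12, 14, 0, 18], [(false, 73), (true, 1), (false, 43), (false, 69)]),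
  ([2, 0, 1, 3, 1, 2], [17, 19, 3, 2], [(false, 45), (false, 74), (false, 44), (false, 46)]),
  ([1, 2, 0, 1, 3, 2], [13, 20, 5, 0], [(false, 47), (false, 46), (false, 71), (false, 75)]),
  ([3, 1, 2, 0, 1, 3], [13, 14, 18, 0], [(false, 75), (true, 1), (false, 72), (false, 47)]),
  ([1, 3, 0, 1, 2, 1, 0], [6, 12, 3, 21], [(false, 76), (false, 48), (false, 77), (true, 1)]),
  ([0, 1, 3, 1, 2, 1, 0], [0, 15, 11, 13], [(false, 49), (false, 76), (false, 78), (false, 50)]),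
  ([2, 1, 3, 1, 2, 1, 0], [0, 22, 11, 10], [(false, 78), (false, 55), (false, 49), (false, 51)]),
  ([2, 0, 1, 3, 2, 1, 0], [0, 16, 12, 10], [(false, 51), (false, 79), (false, 50), (false, 78)]),
  ([1, 2, 0, 1, 3, 1, 0], [6, 13, 20, 2], [(false, 79), (false, 52), (true, 1), (false, 80)]),
  ([0, 1, 3, 0, 1, 2, 0], [11, 22, 0, 5], [(false, 53), (false, 54), (false, 81), (false, 58)]),
  ([2, 1, 3, 0, 1, 2, 0], [11, 15, 0, 18], [(false, 81), (false, 77), (false, 53), (false, 59)]),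
  ([2, 0, 1, 3, 1, 2, 0], [6, 23, 3, 2], [(false, 55), (false, 82), (false, 54), (false, 56)]),
  ([1, 2, 0, 1, 3, 2, 0], [10, 22, 5, 0], [(false, 57), (false, 56), (false, 61), (false, 83)]),
  ([3, 1, 2, 0, 1, 3, 0], [10, 16, 18, 0], [(false, 83), (false, 80), (false, 62), (false, 57)]),
  ([2, 0, 1, 3, 0, 1, 2], [12, 19, 0, 5], [(false, 59), (false, 84), (false, 58), (false, 81)]),
  ([1, 2, 0, 1, 3, 1, 2], [17, 18, 3, 2], [(true, 1), (false, 60), (false, 84), (false, 85)]),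
  ([3, 1, 2, 0, 1, 3, 2], [13, 19, 5, 0], [(false, 62), (false, 85), (false, 83), (false, 61)]),
  ([0, 1, 3, 0, 1, 2, 1, 0], [1, 12, 8, 16], [(false, 63), (false, 64), (false, 86), (true, 1)]),
  ([2, 1, 3, 0, 1, 2, 1, 0], [8, 12, 1, 19], [(false, 86), (false, 69), (false, 63), (true, 1)]),
  ([2, 0, 1, 3, 1, 2, 1, 0], [0, 17, 11, 10], [(false, 65), (false, 87), (false, 64), (false, 66)]),
  ([1, 2, 0, 1, 3, 2, 1, 0], [1, 13, 15, 7], [(false, 67), (false, 66), (true, 1), (false, 88)]),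
  ([3, 1, 2, 0, 1, 3, 1, 0], [7, 13, 19, 1], [(false, 88), (false, 72), (true, 1), (false, 67)]),
  ([2, 0, 1, 3, 0, 1, 2, 0], [11, 20, 0, 5], [(false, 69), (false, 89), (false, 68), (false, 73)]),
  ([1, 2, 0, 1, 3, 1, 2, 0], [6, 22, 3, 2], [(false, 87), (false, 70), (false, 89), (false, 90)]),
  ([3, 1, 2, 0, 1, 3, 2, 0], [10, 21, 5, 0], [(false, 72), (false, 90), (false, 75), (false, 71)]),
  ([1, 2, 0, 1, 3, 0, 1, 2], [15, 18, 1, 4], [(true, 1), (false, 73), (false, 74), (false, 91)]),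
  ([3, 1, 2, 0, 1, 3, 1, 2], [16, 18, 4, 1], [(true, 1), (false, 75), (false, 91), (false, 74)]),
  ([2, 0, 1, 3, 0, 1, 2, 1, 0], [3, 12, 6, 14], [(false, 77), (false, 92), (false, 76), (true, 1)]),
  ([1, 2, 0, 1, 3, 1, 2, 1, 0], [1, 17, 8, 7], [(false, 82), (false, 78), (false, 92), (false, 93)]),
  ([3, 1, 2, 0, 1, 3, 2, 1, 0], [2, 13, 14, 6], [(false, 80), (false, 93), (true, 1), (false, 79)]),
  ([1, 2, 0, 1, 3, 0, 1, 2, 0], [8, 20, 1, 4], [(false, 92), (false, 81), (false, 82), (false, 94)]),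
  ([3, 1, 2, 0, 1, 3, 1, 2, 0], [7, 21, 4, 1], [(false, 93), (false, 83), (false, 94), (false, 82)]),
  ([3, 1, 2, 0, 1, 3, 0, 1, 2], [14, 18, 2, 3], [(true, 1), (false, 94), (false, 85), (false, 84)]),
  ([1, 2, 0, 1, 3, 0, 1, 2, 1, 0], [3, 15, 6, 9], [(false, 89), (false, 86), (false, 87), (false, 95)]),
  ([3, 1, 2, 0, 1, 3, 1, 2, 1, 0], [2, 16, 9, 6], [(false, 90), (false, 88), (false, 95), (false, 87)]),
  ([3, 1, 2, 0, 1, 3, 0, 1, 2, 0], [9, 19, 2, 3], [(false, 95), (false, 91), (false, 90), (false, 89)]),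
  ([3, 1, 2, 0, 1, 3, 0, 1, 2, 1, 0], [4, 14, 7, 8], [(false, 94), (true, 1), (false, 93), (false, 92)])]

/-- the chain -/
def ch : PcChainData := [(K1, certs1), (K2, certs2)]

theorem ok : chainOK (wdOf DataD4.fd BsD4.Bs CxD4.mLL) [] ch = true := by decide +kernel

theorem hall : ∀ i < DataD4.fd.rank, i ∈ lastK [] ch := by decide

theorem stable : chainStable piL piiL ch := by decide +kernel

theorem graphW : GraphW (wdOf DataD4.fd BsD4.Bs CxD4.mLL) piL piiL sgL sgiL := by decide +kernel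

theorem orbOK : OrbOK (wdOf DataD4.fd BsD4.Bs CxD4.mLL) piL Ws := by decide +kernel

theorem hpoly : mulZ [1, -1, 0, -1, 1] (chainZF (wdOf DataD4.fd BsD4.Bs CxD4.mLL) piL ch) = [1, 0, -1, 0, 1, 0, -2, 0, 2, 0, -2, 0, 1, 0, -1, 0, 1] := by
  decide +kernel

end Cfsg.Agent.Lib.Helper5.Tw.WfD4
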