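import Cfsg.Agent.Lib.Helper5.Tw.BNPairTw
import Cfsg.Agent.Lib.Helper5.Tw.WfD4
import Cfsg.Agent.Lib.Helper5.Tw.D4
import Mathlib

/-!
# The twisted group `³D₄(q)` as an instance of the general setting (helper5)
-/

set_option autoImplicit false
set_option maxRecDepth 100000
set_option linter.unusedSectionVars false

namespace Cfsg.Agent.Lib.Helper5.Tw

open Cfsg.Lie Cfsg.Agent.Lib.Helper5.ChevPerm Cfsg.Agent.Lib.Helper5.ChevPermB
open Cfsg.Agent.Lib.Helper5.Chev
open scoped Matrix

namespace D4

theorem jokA : JOK chevD4 BsD4.Bs sg [0, 2, 3] [[14], [19, 16, 15], [21, 17, 20], [22], [23]] :=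
  ⟨by decide +kernel,
   ⟨by decide +kernel, by decide +kernel, by decide +kernel, by decide +kernel⟩,
   by decide +kernel, by decide +kernel, by decide +kernel, by decide +kernel⟩

theorem jokB : JOK chevD4 BsD4.Bs sg [1] [[18, 13, 12], [19, 16, 15], [21, 17, 20], [22], [23]] :=
  ⟨by decide +kernel,
   ⟨by decide +kernel, by decide +kernel, by decide +kernel, by decide +kernel⟩,
   by decide +kernel, by decide +kernel, by decide +kernel, by decide +kernel⟩

section main

variable {K : Type*} [Field K] [Finite K]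
variable (φ : K →+* K) (q : ℕ) (hφ : ∀ t, φ t = t ^ q) (hφ3 : ∀ t, φ (φ (φ t)) = t)

include hφ hφ3 in
theorem fix_le : chevD4.posUnipotent K ⊓ fixS cert φ ≤ twistedD4 K q := by
  have hadd := hadd' (K := K)
  have hle := twisted_le_fix φ q hφ hφ3
  apply fix_le_of_reach hD4 DataD4.agrees hadd BsD4.Bs HsD4.reflBs' cert φ sgi hsgi bsA blockA ordA
    _ hle Js Ws rcert reachA
  · intro J hJ
    simp only [Js, List.mem_cons, List.not_mem_nil, or_false] at hJ
    rcases hJ with rfl | rfl
    · exact ⟨by decide, fixJ0 φ q hφ⟩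
    · exact ⟨by decide, fixJ1 φ q hφ⟩
  · intro W hW
    simp only [Ws, List.mem_cons, List.not_mem_nil, or_false] at hW
    rcases hW with rfl | rfl
    · exact ⟨by decide, nW0_mem φ q hφ⟩
    · exact ⟨by decide, nW1_mem φ q hφ⟩

theorem twisted_le_group : twistedD4 K q ≤ chevD4.group K := by
  unfold twistedD4 ChevalleyDatum.genSubgroup
  rw [Subgroup.closure_le]
  rintro g ⟨w, -, hg⟩
  exact (hadd' (K := K)).mem_group_of_word g w hg

theorem phi_bij : Function.Bijective φ := by
  have hinj : Function.Injective φ := φ.injective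
  exact ⟨hinj, Finite.surjective_of_injective hinj⟩

/-- the setting of `³D₄(q)` -/
noncomputable def setup : TwSetup K chevD4 where
  hD := hD4
  T := DataD4.fd
  hA := DataD4.agrees
  Bs := BsD4.Bs
  mLL := CxD4.mLL
  hB := HsD4.reflBs'
  h1 := (cox_of_check _ _ _ CxD4.cox).1
  h2 := (cox_of_check _ _ _ CxD4.cox).2
  gH := _
  baseH := _
  fuel := _
  hr := HsD4.rbH
  hbase := HsD4.base_simple
  pi := pi
  pii := WfD4.piiL
  sg := sg
  sgi := sgi
  ep := ep
  c := cert
  G := WfD4.graphW
  Ws := Ws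
  O := WfD4.orbOK
  hep := by decide +kernel
  jok := by
    intro J hJ
    simp only [Ws, List.mem_cons, List.not_mem_nil, or_false] at hJ
    rcases hJ with rfl | rfl
    · exact ⟨_, jokA⟩
    · exact ⟨_, jokB⟩
  Jne := by decide
  winj := by decide +kernel
  φ := φ
  hφ := phi_bij φ
  Q := twistedD4 K q
  hQG := twisted_le_group q
  hQfix := twisted_le_fix φ q hφ hφ3
  hUQ := fix_le φ q hφ hφ3
  hnQ := by
    intro J hJ
    simp only [Ws, List.mem_cons, List.not_mem_nil, or_false] at hJ
    rcases hJ with rfl | rfl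
    · exact nW0_mem φ q hφ
    · exact nW1_mem φ q hφ

end main

end D4

end Cfsg.Agent.Lib.Helper5.Tw
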