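import Cfsg.Agent.Lib.Helper5.Tw.E6Data
import Mathlib

/-!
# The twisted group of type `E₆`: the order of `U¹` (helper5)
-/

set_option autoImplicit false
set_option maxRecDepth 100000

namespace Cfsg.Agent.Lib.Helper5.Tw

open Cfsg.Lie Cfsg.Agent.Lib.Helper5.ChevPerm Cfsg.Agent.Lib.Helper5.ChevPermB
open Cfsg.Agent.Lib.Helper5.Chev
open scoped Matrix

namespace E6

section main

variable {K : Type*} [Field K]

theorem hadd' : AllAdd K chevE6 := allAdd_all chevE6 (by simp)

theorem hE6 : chevE6 ∈ [chevG2, chevB2, chevD4, chevF4, chevE6, chevE7, chevE8] := by simp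

/-- the generator attached to a block of two roots -/
theorem gen2_mem (q : ℕ) (g : GL chevE6.Idx K) (rs : ℕ × ℕ)
    (hrs : rs ∈ [(e6p1, e6p6), (e6m1, e6m6), (e6p3, e6p5), (e6m3, e6m5)]) (t : K)
    (hg : (g : Matrix chevE6.Idx chevE6.Idx K)
      = chevE6.wordMat K [(rs.1, t), (rs.2, t ^ q)]) :
    g ∈ twistedE6 K q := by
  apply Subgroup.subset_closure
  exact ⟨_, Or.inr ⟨t, rs, hrs, rfl⟩, hg⟩

theorem gen1_mem (q : ℕ) (g : GL chevE6.Idx K) (r : ℕ) (hr : r ∈ [e6p2, e6m2, e6p4, e6m4]) (t : K)
    (ht : t ^ q = t) (hg : (g : Matrix chevE6.Idx chevE6.Idx K) = chevE6.wordMat K [(r, t)]) :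
    g ∈ twistedE6 K q := by
  apply Subgroup.subset_closure
  exact ⟨_, Or.inl ⟨t, ht, r, hr, rfl⟩, hg⟩

variable (φ : K →+* K) (q : ℕ) (hφ : ∀ t, φ t = t ^ q) (hφ2 : ∀ t, φ (φ t) = t)

include hφ in
theorem fix_single (r : ℕ) (hr : r < chevE6.nroots) (h1 : sg.getD r 0 = r) (h2 : ep.getD r 1 = 1)
    (t : K) (ht : t ^ q = t) : (hadd' (K := K)).xU r t ∈ fixS cert φ := by
  rw [mem_fixS, sigma_xU cert φ hadd' _ hr, h1]
  have e2 : epF K ep r = 1 := by unfold epF; rw [h2]; simp
  rw [e2, one_mul, hφ, ht]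

include hφ hφ2 in
theorem fix_pair (r s : ℕ) (hb : BlockOK chevE6 sg [r, s]) (h1 : ep.getD r 1 = 1)
    (h2 : ep.getD s 1 = 1) (t : K) :
    (hadd' (K := K)).wordU [(r, t), (s, t ^ q)] ∈ fixS cert φ := by
  have hadd := hadd' (K := K)
  have hrs : r ≠ s := by
    have := hb.comm
    simp only [List.pairwise_cons, List.mem_cons, List.not_mem_nil, or_false, forall_eq] at this
    exact fun h => this.1.1 h.symm
  have hg' : hadd.wordU [(r, t), (s, t ^ q)] = hadd.wordU (wordL [r, s]
      (fun x => if x = r then t else φ t)) := by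
    simp [wordL, hφ, hrs.symm]
  rw [mem_fixS, hg', sigma_block hE6 cert φ hadd sg hsgi _ hb]
  congr 1
  apply wordL_congr
  intro x hx
  have hrot := hb.rot
  simp only [List.map_cons, List.map_nil] at hrot
  have hrot' : [sg.getD r 0, sg.getD s 0] = [s, r] := by
    simpa using hrot
  have e1 : sg.getD r 0 = s := by
    have := congrArg (fun l => l.getD 0 0) hrot'
    simpa using this
  have e2 : sg.getD s 0 = r := by
    have := congrArg (fun l => l.getD 1 0) hrot'
    simpa using this
  have f1 : epF K ep r = 1 := by unfold epF; rw [h1]; simp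
  have f2 : epF K ep s = 1 := by unfold epF; rw [h2]; simp
  simp only [List.mem_cons, List.not_mem_nil, or_false] at hx
  rcases hx with rfl | rfl
  · unfold twP
    rw [e1, f2, one_mul]
    simp only [if_neg hrs.symm, if_true, hφ2]
  · unfold twP
    rw [e2, f1, one_mul]
    simp only [if_neg hrs.symm, if_true]

theorem blockN0' : BlockOK chevE6 sg [15, 35] := by decide +kernel
theorem blockN1' : BlockOK chevE6 sg [29, 34] := by decide +kernel

include hφ hφ2 in
/-- the generators of the twisted group are fixed -/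
theorem twisted_le_fix : twistedE6 K q ≤ fixS cert φ := by
  have hadd := hadd' (K := K)
  unfold twistedE6 ChevalleyDatum.genSubgroup
  rw [Subgroup.closure_le]
  rintro g ⟨w, hw, hg⟩
  rw [SetLike.mem_coe]
  rcases hw with ⟨t, ht, r, hr, rfl⟩ | ⟨t, rs, hrs, rfl⟩
  · have hg' : g = hadd.xU r t := by
      apply Units.ext
      rw [hg]
      simp [ChevalleyDatum.wordMat, AllAdd.xU_val]
    rw [hg']
    simp only [List.mem_cons, List.not_mem_nil, or_false] at hr
    rcases hr with rfl | rfl | rfl | rfl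
    · exact fix_single φ q hφ _ (by decide) (by decide) (by decide) t ht
    · exact fix_single φ q hφ _ (by decide) (by decide) (by decide) t ht
    · exact fix_single φ q hφ _ (by decide) (by decide) (by decide) t ht
    · exact fix_single φ q hφ _ (by decide) (by decide) (by decide) t ht
  · have hg' : g = hadd.wordU [(rs.1, t), (rs.2, t ^ q)] := by
      apply Units.ext
      rw [hg, hadd.wordU_val]
    rw [hg']
    simp only [List.mem_cons, List.not_mem_nil, or_false] at hrs
    rcases hrs with rfl | rfl | rfl | rfl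
    · exact fix_pair φ q hφ hφ2 _ _ (blockA _ (by simp [bsA, e6p1, e6p6])) (by decide) (by decide) t
    · exact fix_pair φ q hφ hφ2 _ _ blockN0' (by decide) (by decide) t
    · exact fix_pair φ q hφ hφ2 _ _ (blockA _ (by simp [bsA, e6p3, e6p5])) (by decide) (by decide) t
    · exact fix_pair φ q hφ hφ2 _ _ blockN1' (by decide) (by decide) t

include hφ in
theorem fixJ_pair [Finite K] (r s : ℕ) (rest : List (List ℕ))
    (hb : ∀ b ∈ [r, s] :: rest, BlockOK chevE6 sg b) (hord : OrdOK chevE6 ([r, s] :: rest).flatten)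
    (hnd : ([r, s] :: rest).flatten.Nodup) (h1 : ep.getD r 1 = 1)
    (hrs : (r, s) ∈ [(e6p1, e6p6), (e6m1, e6m6), (e6p3, e6p5), (e6m3, e6m5)]) :
    UL K chevE6 [r, s] ⊓ fixS cert φ ≤ twistedE6 K q := by
  have hadd := hadd' (K := K)
  intro g hg
  obtain ⟨t, rfl, ht⟩ := fix_first_block hE6 cert φ hadd sg hsgi [r, s] rest hb hord hnd g hg
  have hrot := (hb _ List.mem_cons_self).rot
  simp only [List.map_cons, List.map_nil] at hrot
  have hrot' : [sg.getD r 0, sg.getD s 0] = [s, r] := by
    simpa using hrot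
  have e2 : sg.getD s 0 = r := by
    have := congrArg (fun l => l.getD 1 0) hrot'
    simpa using this
  have f1 : epF K ep r = 1 := by unfold epF; rw [h1]; simp
  have hs : t s = φ (t r) := by
    have := ht s (by simp)
    unfold twP at this
    rw [e2, f1, one_mul] at this
    exact this.symm
  apply gen2_mem q _ (r, s) hrs (t r)
  rw [hadd.wordU_val]
  simp [wordL, hs, hφ]

include hφ in
theorem fixJ_single [Finite K] (r : ℕ) (rest : List (List ℕ))
    (hb : ∀ b ∈ [r] :: rest, BlockOK chevE6 sg b) (hord : OrdOK chevE6 ([r] :: rest).flatten)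
    (hnd : ([r] :: rest).flatten.Nodup) (h1 : ep.getD r 1 = 1)
    (hr : r ∈ [e6p2, e6m2, e6p4, e6m4]) :
    UL K chevE6 [r] ⊓ fixS cert φ ≤ twistedE6 K q := by
  have hadd := hadd' (K := K)
  intro g hg
  obtain ⟨t, rfl, ht⟩ := fix_first_block hE6 cert φ hadd sg hsgi [r] rest hb hord hnd g hg
  have hrot := (hb _ List.mem_cons_self).rot
  simp only [List.map_cons, List.map_nil] at hrot
  have e2 : sg.getD r 0 = r := by
    have := congrArg (fun l => l.getD 0 0) hrot
    simpa using this
  have f1 : epF K ep r = 1 := by unfold epF; rw [h1]; simp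
  have hs : φ (t r) = t r := by
    have := ht r (by simp)
    unfold twP at this
    rw [e2, f1, one_mul] at this
    exact this
  apply gen1_mem q _ r hr (t r) (by rw [← hφ, hs])
  rw [hadd.wordU_val]
  simp [wordL]

include hφ in
theorem neg_one_pow : (-1 : K) ^ q = -1 := by
  rw [← hφ, map_neg, map_one]

include hφ in
theorem nW_single (i r r' : ℕ) (hi : i < chevE6.rank) (e1 : chevE6.simple i = r)
    (e2 : chevE6.neg r = r') (hr : r ∈ [e6p2, e6m2, e6p4, e6m4])
    (hr' : r' ∈ [e6p2, e6m2, e6p4, e6m4]) :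
    nWordU DataE6.agrees (hadd' (K := K)) [i] ∈ twistedE6 K q := by
  have hadd := hadd' (K := K)
  have e : nWordU DataE6.agrees hadd [i] = nUi DataE6.agrees hadd i := by simp [nWordU]
  rw [e, nUi_eq DataE6.agrees hadd hi, e1, e2]
  have h1 : hadd.xU r (1 : K) ∈ twistedE6 K q :=
    gen1_mem q _ r hr 1 (one_pow _) (by simp [ChevalleyDatum.wordMat, AllAdd.xU_val])
  have h2 : hadd.xU r' (-1 : K) ∈ twistedE6 K q :=
    gen1_mem q _ r' hr' (-1) (neg_one_pow φ q hφ)
      (by simp [ChevalleyDatum.wordMat, AllAdd.xU_val])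
  exact Subgroup.mul_mem _ (Subgroup.mul_mem _ h1 h2) h1

include hφ in
theorem nW_pair (i j r s r' s' : ℕ) (hi : i < chevE6.rank) (hj : j < chevE6.rank)
    (e1 : chevE6.simple i = r) (e2 : chevE6.simple j = s)
    (f1 : chevE6.neg r = r') (f2 : chevE6.neg s = s')
    (hrs : (r, s) ∈ [(e6p1, e6p6), (e6m1, e6m6), (e6p3, e6p5), (e6m3, e6m5)])
    (hrs' : (r', s') ∈ [(e6p1, e6p6), (e6m1, e6m6), (e6p3, e6p5), (e6m3, e6m5)])
    (c1 : ∀ t u : K, Commute ((hadd' (K := K)).xU r t) ((hadd' (K := K)).xU s u))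
    (c2 : ∀ t u : K, Commute ((hadd' (K := K)).xU r t) ((hadd' (K := K)).xU s' u))
    (c3 : ∀ t u : K, Commute ((hadd' (K := K)).xU r' t) ((hadd' (K := K)).xU s u)) :
    nWordU DataE6.agrees (hadd' (K := K)) [i, j] ∈ twistedE6 K q := by
  have hadd := hadd' (K := K)
  have e : nWordU DataE6.agrees hadd [i, j] = nUi DataE6.agrees hadd i *
      nUi DataE6.agrees hadd j := by simp [nWordU]
  rw [e, nUi_eq DataE6.agrees hadd hi, nUi_eq DataE6.agrees hadd hj, e1, e2, f1, f2]
  rw [rearr2 _ _ _ _ (c1 1 1) (c2 1 (-1)) (c3 (-1) 1)]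
  have h1 : hadd.xU r (1 : K) * hadd.xU s 1 ∈ twistedE6 K q := by
    apply gen2_mem q _ (r, s) hrs 1
    simp [ChevalleyDatum.wordMat, AllAdd.xU_val]
  have h2 : hadd.xU r' (-1 : K) * hadd.xU s' (-1) ∈ twistedE6 K q := by
    apply gen2_mem q _ (r', s') hrs' (-1)
    have hn := neg_one_pow φ q hφ
    simp [ChevalleyDatum.wordMat, AllAdd.xU_val, hn]
  exact Subgroup.mul_mem _ (Subgroup.mul_mem _ h1 h2) h1

end main

theorem commE6 {K : Type*} [Field K] (r s : ℕ) (h1 : r < chevE6.nroots) (h2 : s < chevE6.nroots)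
    (h3 : s ≠ r) (h4 : s ≠ chevE6.neg r) (h5 : chevE6.commTerms r s = []) (t u : K) :
    Commute ((hadd' (K := K)).xU r t) ((hadd' (K := K)).xU s u) :=
  xU_commute hE6 hadd' r s h1 h2 h3 h4 h5 t u

/-- `|U ∩ ²E₆(q)| = q ^ 36` -/
theorem card_U1 {K : Type*} [Field K] [Fintype K] {q : ℕ} (hq : IsPrimePow q)
    (hK : Fintype.card K = q ^ 2) :
    Nat.card ↥(chevE6.posUnipotent K ⊓ twistedE6 K q) = q ^ 36 := by
  obtain ⟨φ, hφ, hφ2⟩ := exists_frob hq hK
  have hφ2' : ∀ t, φ (φ t) = t := fun t => hφ2 t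
  have hadd := hadd' (K := K)
  have hle := twisted_le_fix φ q hφ hφ2'
  have hfix : chevE6.posUnipotent K ⊓ fixS cert φ ≤ twistedE6 K q := by
    apply fix_le_of_reach hE6 DataE6.agrees hadd BsE6.Bs HsE6.reflBs' cert φ sg hsgi bsA blockA ordA
      _ hle Js Ws rcert reachA
    · intro J hJ
      simp only [Js, List.mem_cons, List.not_mem_nil, or_false] at hJ
      rcases hJ with rfl | rfl | rfl | rfl
      · exact ⟨by decide, fixJ_pair φ q hφ 56 36 _ blockA ordA nodupA (by decide) (by decide)⟩
      · exact ⟨by decide, fixJ_pair φ q hφ 42 37 _ blockB ordB nodupB (by decide) (by decide)⟩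
      · exact ⟨by decide, fixJ_single φ q hφ 39 _ blockC ordC nodupC (by decide) (by decide)⟩
      · exact ⟨by decide, fixJ_single φ q hφ 46 _ blockE ordE nodupE (by decide) (by decide)⟩
    · intro W hW
      simp only [Ws, List.mem_cons, List.not_mem_nil, or_false] at hW
      rcases hW with rfl | rfl | rfl | rfl
      · refine ⟨by decide, nW_pair φ q hφ 0 5 56 36 15 35 (by decide) (by decide) (by decide)
          (by decide) (by decide) (by decide) (by decide) (by decide) ?_ ?_ ?_⟩
        · exact commE6 _ _ (by decide) (by decide) (by decide) (by decide) (by decide)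
        · exact commE6 _ _ (by decide) (by decide) (by decide) (by decide) (by decide)
        · exact commE6 _ _ (by decide) (by decide) (by decide) (by decide) (by decide)
      · refine ⟨by decide, nW_pair φ q hφ 2 4 42 37 29 34 (by decide) (by decide) (by decide)
          (by decide) (by decide) (by decide) (by decide) (by decide) ?_ ?_ ?_⟩
        · exact commE6 _ _ (by decide) (by decide) (by decide) (by decide) (by decide)
        · exact commE6 _ _ (by decide) (by decide) (by decide) (by decide) (by decide)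
        · exact commE6 _ _ (by decide) (by decide) (by decide) (by decide) (by decide)
      · exact ⟨by decide, nW_single φ q hφ 3 39 32 (by decide) (by decide) (by decide) (by decide)
          (by decide)⟩
      · exact ⟨by decide, nW_single φ q hφ 1 46 25 (by decide) (by decide) (by decide) (by decide)
          (by decide)⟩
  have heq : chevE6.posUnipotent K ⊓ twistedE6 K q = chevE6.posUnipotent K ⊓ fixS cert φ :=
    le_antisymm (inf_le_inf_left _ hle) (le_inf inf_le_left hfix)
  have hqfix : Nat.card {a : K // φ a = a} = q := by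
    rw [← card_pow_fix q 2 hq.one_lt hK]
    exact Nat.card_congr (Equiv.subtypeEquivRight (fun a => by rw [hφ]))
  rw [heq, card_fix_eq hE6 cert φ hadd sg hsgi bsA blockA ordA,
    card_sol_blocks φ sg 2 q hφ2 hqfix bsA shapeA nodupA, Nat.card_eq_fintype_card, hK]
  simp only [bsA, List.map_cons, List.map_nil, List.prod_cons, List.prod_nil, List.length_cons,
    List.length_nil]
  norm_num
  ring

end E6

end Cfsg.Agent.Lib.Helper5.Tw
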