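import Cfsg.Agent.Lib.Helper5.Tw.WeylFixChain
import Cfsg.Agent.Lib.Helper5.Chev.CxE6
import Mathlib

/-!
# The fixed elements of the Weyl group along a chain of parabolic subgroups: type E6 (helper5)
-/

set_option autoImplicit false
set_option maxRecDepth 100000

namespace Cfsg.Agent.Lib.Helper5.Tw.WfE6

open Cfsg.Lie Cfsg.Agent.Lib.Helper5.Chev Cfsg.Agent.Lib.Helper5.Tw

def piL : List ℕ := [5, 1, 4, 3, 2, 0]
def piiL : List ℕ := [5, 1, 4, 3, 2, 0]
def sgL : List ℕ := [0, 1, 2, 5, 16, 3, 6, 17, 8, 19, 22, 11, 26, 30, 33, 35, 4, 7, 18, 9, 20, 23, 10, 21, 24, 25, 12, 27, 31, 34, 13, 28, 32, 14, 29, 15, 56, 42, 57, 39, 43, 58, 37, 40, 44, 59, 46, 47, 50, 61, 48, 51, 62, 53, 64, 67, 36, 38, 41, 45, 60, 49, 52, 63, 54, 65, 68, 55, 66, 69, 70, 71]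
def sgiL : List ℕ := [0, 1, 2, 5, 16, 3, 6, 17, 8, 19, 22, 11, 26, 30, 33, 35, 4, 7, 18, 9, 20, 23, 10, 21, 24, 25, 12, 27, 31, 34, 13, 28, 32, 14, 29, 15, 56, 42, 57, 39, 43, 58, 37, 40, 44, 59, 46, 47, 50, 61, 48, 51, 62, 53, 64, 67, 36, 38, 41, 45, 60, 49, 52, 63, 54, 65, 68, 55, 66, 69, 70, 71]
def Ws : List (List ℕ) := [[0, 5], [2, 4], [3], [1]]

/-- the subset of level 1 -/
def K1 : List ℕ := [3]
/-- the representatives of level 1 -/
def certs1 : List PcEntry := [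
  ([], [56, 46, 42, 39, 37, 36], [(false, 1)]),
  ([3], [56, 47, 43, 32, 40, 36], [(false, 0)])]

/-- the subset of level 2 -/
def K2 : List ℕ := [1, 3]
/-- the representatives of level 2 -/
def certs2 : List PcEntry := [
  ([], [56, 46, 42, 39, 37, 36], [(false, 1), (true, 3)]),
  ([1], [56, 25, 42, 47, 37, 36], [(false, 0), (false, 2)]),
  ([3, 1], [56, 24, 43, 46, 40, 36], [(true, 3), (false, 1)])]

/-- the subset of level 3 -/
def K3 : List ℕ := [1, 2, 3, 4]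
/-- the representatives of level 3 -/
def certs3 : List PcEntry := [
  ([], [56, 46, 42, 39, 37, 36], [(true, 1), (false, 1), (true, 3), (false, 2)]),
  ([2], [57, 46, 29, 43, 37, 36], [(true, 1), (false, 0), (false, 3), (false, 4)]),
  ([4], [56, 46, 42, 40, 34, 38], [(true, 1), (false, 4), (false, 5), (false, 0)]),
  ([3, 2], [58, 47, 28, 42, 40, 36], [(false, 6), (true, 3), (false, 1), (false, 7)]),
  ([4, 2], [57, 46, 29, 44, 34, 38], [(true, 1), (false, 2), (false, 8), (false, 1)]),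
  ([3, 4], [56, 47, 43, 37, 31, 41], [(false, 9), (false, 10), (false, 2), (true, 3)]),
  ([1, 3, 2], [61, 39, 21, 42, 48, 36], [(false, 3), (true, 3), (true, 1), (false, 11)]),
  ([4, 3, 2], [59, 48, 27, 42, 39, 38], [(false, 11), (true, 3), (false, 12), (false, 3)]),
  ([3, 4, 2], [58, 47, 28, 44, 31, 41], [(false, 13), (false, 14), (false, 4), (false, 12)]),
  ([1, 3, 4], [56, 39, 50, 37, 23, 49], [(false, 5), (false, 15), (true, 1), (true, 3)]),
  ([2, 3, 4], [57, 50, 39, 37, 27, 45], [(false, 15), (false, 5), (false, 14), (true, 3)]),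
  ([4, 1, 3, 2], [62, 40, 20, 42, 47, 38], [(false, 7), (true, 3), (false, 16), (false, 6)]),
  ([3, 4, 3, 2], [59, 48, 27, 43, 32, 41], [(false, 17), (false, 18), (false, 7), (false, 8)]),
  ([1, 3, 4, 2], [61, 39, 21, 51, 23, 49], [(false, 8), (false, 19), (true, 1), (false, 17)]),
  ([2, 3, 4, 2], [58, 50, 32, 40, 27, 45], [(false, 19), (false, 8), (false, 10), (false, 18)]),
  ([2, 1, 3, 4], [57, 43, 47, 37, 20, 52], [(false, 10), (false, 9), (false, 20), (true, 3)]),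
  ([3, 4, 1, 3, 2], [64, 37, 18, 43, 46, 41], [(false, 21), (false, 22), (false, 11), (true, 1)]),
  ([1, 3, 4, 3, 2], [62, 40, 20, 50, 24, 49], [(false, 12), (false, 23), (false, 21), (false, 13)]),
  ([2, 3, 4, 3, 2], [59, 51, 31, 39, 28, 45], [(false, 23), (false, 12), (true, 3), (false, 14)]),
  ([2, 1, 3, 4, 2], [61, 43, 24, 48, 20, 52], [(false, 14), (false, 13), (false, 24), (false, 23)]),
  ([3, 2, 1, 3, 4], [58, 42, 46, 40, 18, 54], [(false, 24), (true, 1), (false, 15), (false, 25)]),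
  ([1, 3, 4, 1, 3, 2], [64, 37, 18, 50, 25, 49], [(false, 16), (false, 26), (false, 17), (true, 1)]),
  ([2, 3, 4, 1, 3, 2], [67, 37, 18, 39, 46, 45], [(false, 26), (false, 16), (true, 3), (true, 1)]),
  ([2, 1, 3, 4, 3, 2], [62, 44, 23, 47, 21, 52], [(false, 18), (false, 17), (false, 27), (false, 19)]),
  ([3, 2, 1, 3, 4, 2], [61, 42, 25, 48, 18, 54], [(false, 20), (true, 1), (false, 19), (false, 28)]),
  ([4, 3, 2, 1, 3, 4], [59, 42, 46, 39, 18, 55], [(false, 28), (true, 1), (true, 3), (false, 20)]),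
  ([2, 1, 3, 4, 1, 3, 2], [67, 37, 18, 47, 25, 52], [(false, 22), (false, 21), (false, 29), (true, 1)]),
  ([3, 2, 1, 3, 4, 3, 2], [64, 44, 23, 46, 21, 54], [(true, 3), (false, 29), (false, 23), (false, 30)]),
  ([4, 3, 2, 1, 3, 4, 2], [62, 42, 25, 47, 18, 55], [(false, 25), (true, 1), (false, 30), (false, 24)]),
  ([3, 2, 1, 3, 4, 1, 3, 2], [67, 40, 20, 46, 24, 54], [(true, 3), (false, 27), (false, 26), (false, 31)]),
  ([4, 3, 2, 1, 3, 4, 3, 2], [64, 43, 24, 46, 20, 55], [(true, 3), (false, 31), (false, 28), (false, 27)]),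
  ([4, 3, 2, 1, 3, 4, 1, 3, 2], [67, 39, 21, 46, 23, 55], [(true, 3), (false, 30), (true, 1), (false, 29)])]

/-- the subset of level 4 -/
def K4 : List ℕ := [0, 1, 2, 3, 4, 5]
/-- the representatives of level 4 -/
def certs4 : List PcEntry := [
  ([], [56, 46, 42, 39, 37, 36], [(false, 1), (true, 1), (true, 2), (true, 3), (true, 4), (false, 2)]),
  ([0], [15, 46, 57, 39, 37, 36], [(false, 0), (true, 1), (false, 3), (true, 3), (true, 4), (false, 4)]),
  ([5], [56, 46, 42, 39, 38, 35], [(false, 4), (true, 1), (true, 2), (true, 3), (false, 5), (false, 0)]),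
  ([2, 0], [14, 46, 56, 43, 37, 36], [(true, 2), (true, 1), (false, 1), (false, 6), (true, 4), (false, 7)]),
  ([5, 0], [15, 46, 57, 39, 38, 35], [(false, 2), (true, 1), (false, 7), (true, 3), (false, 8), (false, 1)]),
  ([4, 5], [56, 46, 42, 40, 36, 33], [(false, 8), (true, 1), (true, 2), (false, 9), (false, 2), (true, 4)]),
  ([3, 2, 0], [13, 47, 56, 42, 40, 36], [(true, 2), (false, 10), (true, 3), (false, 3), (false, 11), (false, 12)]),
  ([5, 2, 0], [14, 46, 56, 43, 38, 35], [(true, 2), (true, 1), (false, 4), (false, 12), (false, 13), (false, 3)]),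
  ([4, 5, 0], [15, 46, 57, 40, 36, 33], [(false, 5), (true, 1), (false, 13), (false, 14), (false, 4), (true, 4)]),
  ([3, 4, 5], [56, 47, 43, 37, 36, 30], [(false, 14), (false, 15), (false, 16), (false, 5), (true, 3), (true, 4)]),
  ([1, 3, 2, 0], [10, 39, 56, 42, 48, 36], [(true, 2), (false, 6), (true, 3), (true, 1), (false, 17), (false, 18)]),
  ([4, 3, 2, 0], [12, 48, 56, 42, 39, 38], [(true, 2), (false, 17), (true, 3), (true, 4), (false, 6), (false, 19)]),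
  ([5, 3, 2, 0], [13, 47, 56, 42, 41, 35], [(true, 2), (false, 18), (true, 3), (false, 7), (false, 20), (false, 6)]),
  ([4, 5, 2, 0], [14, 46, 56, 44, 36, 33], [(true, 2), (true, 1), (false, 8), (false, 21), (false, 7), (true, 4)]),
  ([3, 4, 5, 0], [15, 47, 58, 37, 36, 30], [(false, 9), (false, 22), (false, 23), (false, 8), (true, 3), (true, 4)]),
  ([1, 3, 4, 5], [56, 39, 50, 37, 36, 22], [(false, 22), (false, 9), (false, 24), (true, 1), (true, 3), (true, 4)]),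
  ([2, 3, 4, 5], [57, 50, 39, 37, 36, 26], [(false, 25), (false, 24), (false, 9), (true, 2), (true, 3), (true, 4)]),
  ([4, 1, 3, 2, 0], [9, 40, 56, 42, 47, 38], [(true, 2), (false, 11), (true, 3), (false, 26), (false, 10), (false, 27)]),
  ([5, 1, 3, 2, 0], [10, 39, 56, 42, 49, 35], [(true, 2), (false, 12), (true, 3), (true, 1), (false, 28), (false, 10)]),
  ([5, 4, 3, 2, 0], [11, 49, 56, 42, 39, 37], [(true, 2), (false, 27), (true, 3), (true, 4), (false, 29), (false, 11)]),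
  ([4, 5, 3, 2, 0], [12, 48, 56, 42, 41, 33], [(true, 2), (false, 28), (true, 3), (false, 30), (false, 12), (false, 29)]),
  ([3, 4, 5, 2, 0], [13, 47, 56, 44, 36, 30], [(true, 2), (false, 31), (false, 32), (false, 13), (false, 30), (true, 4)]),
  ([1, 3, 4, 5, 0], [15, 39, 61, 37, 36, 22], [(false, 15), (false, 14), (false, 33), (true, 1), (true, 3), (true, 4)]),
  ([2, 3, 4, 5, 0], [14, 50, 58, 37, 36, 26], [(false, 34), (false, 33), (false, 14), (false, 32), (true, 3), (true, 4)]),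
  ([2, 1, 3, 4, 5], [57, 43, 47, 37, 36, 19], [(false, 35), (false, 16), (false, 15), (false, 36), (true, 3), (true, 4)]),
  ([0, 2, 3, 4, 5], [42, 61, 39, 37, 36, 11], [(false, 16), (false, 35), (false, 34), (true, 2), (true, 3), (true, 4)]),
  ([3, 4, 1, 3, 2, 0], [7, 37, 56, 43, 46, 41], [(true, 2), (true, 4), (false, 37), (false, 17), (true, 1), (false, 38)]),
  ([5, 4, 1, 3, 2, 0], [8, 41, 56, 42, 47, 37], [(true, 2), (false, 19), (true, 3), (false, 38), (false, 39), (false, 17)]),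
  ([4, 5, 1, 3, 2, 0], [9, 40, 56, 42, 49, 33], [(true, 2), (false, 20), (true, 3), (false, 40), (false, 18), (false, 39)]),
  ([4, 5, 4, 3, 2, 0], [11, 49, 56, 42, 40, 34], [(true, 2), (false, 39), (true, 3), (false, 41), (false, 19), (false, 20)]),
  ([3, 4, 5, 3, 2, 0], [12, 48, 56, 43, 38, 30], [(true, 2), (false, 42), (false, 43), (false, 20), (false, 21), (false, 41)]),
  ([1, 3, 4, 5, 2, 0], [10, 39, 56, 51, 36, 22], [(true, 2), (false, 21), (false, 44), (true, 1), (false, 42), (true, 4)]),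
  ([2, 3, 4, 5, 2, 0], [13, 50, 57, 40, 36, 26], [(false, 45), (false, 44), (false, 21), (false, 23), (false, 43), (true, 4)]),
  ([2, 1, 3, 4, 5, 0], [14, 43, 61, 37, 36, 19], [(false, 46), (false, 23), (false, 22), (false, 47), (true, 3), (true, 4)]),
  ([0, 2, 3, 4, 5, 0], [29, 61, 43, 37, 36, 11], [(false, 23), (false, 46), (false, 25), (false, 45), (true, 3), (true, 4)]),
  ([0, 2, 1, 3, 4, 5], [42, 58, 47, 37, 36, 8], [(false, 24), (false, 25), (false, 46), (false, 48), (true, 3), (true, 4)]),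
  ([3, 2, 1, 3, 4, 5], [58, 42, 46, 40, 36, 17], [(false, 48), (true, 2), (true, 1), (false, 24), (false, 49), (true, 4)]),
  ([2, 3, 4, 1, 3, 2, 0], [4, 37, 57, 39, 46, 45], [(false, 50), (true, 4), (false, 26), (true, 3), (true, 1), (false, 51)]),
  ([5, 3, 4, 1, 3, 2, 0], [6, 38, 56, 43, 46, 40], [(true, 2), (true, 4), (false, 51), (false, 27), (false, 52), (false, 26)]),
  ([4, 5, 4, 1, 3, 2, 0], [8, 41, 56, 42, 48, 34], [(true, 2), (false, 29), (true, 3), (false, 53), (false, 27), (false, 28)]),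
  ([3, 4, 5, 1, 3, 2, 0], [7, 37, 56, 43, 49, 30], [(true, 2), (false, 54), (false, 55), (false, 28), (true, 1), (false, 53)]),
  ([3, 4, 5, 4, 3, 2, 0], [11, 49, 56, 43, 37, 31], [(true, 2), (false, 56), (false, 57), (false, 29), (true, 4), (false, 30)]),
  ([1, 3, 4, 5, 3, 2, 0], [9, 40, 56, 50, 38, 22], [(true, 2), (false, 30), (false, 58), (false, 54), (false, 31), (false, 56)]),
  ([2, 3, 4, 5, 3, 2, 0], [12, 51, 57, 39, 38, 26], [(false, 59), (false, 58), (false, 30), (true, 3), (false, 32), (false, 57)]),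
  ([2, 1, 3, 4, 5, 2, 0], [10, 43, 57, 48, 36, 19], [(false, 60), (false, 32), (false, 31), (false, 61), (false, 58), (true, 4)]),
  ([0, 2, 3, 4, 5, 2, 0], [28, 61, 42, 40, 36, 11], [(false, 32), (false, 60), (true, 2), (false, 34), (false, 59), (true, 4)]),
  ([0, 2, 1, 3, 4, 5, 0], [29, 58, 50, 37, 36, 8], [(false, 33), (false, 34), (false, 35), (false, 62), (true, 3), (true, 4)]),
  ([3, 2, 1, 3, 4, 5, 0], [13, 42, 61, 40, 36, 17], [(false, 62), (false, 61), (true, 1), (false, 33), (false, 63), (true, 4)]),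
  ([3, 0, 2, 1, 3, 4, 5], [43, 57, 46, 40, 36, 6], [(false, 36), (true, 2), (false, 64), (false, 35), (false, 65), (true, 4)]),
  ([4, 3, 2, 1, 3, 4, 5], [59, 42, 46, 39, 38, 16], [(false, 65), (true, 2), (true, 1), (true, 3), (false, 36), (false, 66)]),
  ([0, 2, 3, 4, 1, 3, 2, 0], [4, 37, 42, 39, 46, 60], [(false, 37), (true, 4), (true, 2), (true, 3), (true, 1), (false, 67)]),
  ([5, 2, 3, 4, 1, 3, 2, 0], [3, 38, 57, 39, 46, 44], [(false, 67), (true, 4), (false, 38), (true, 3), (false, 68), (false, 37)]),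
  ([4, 5, 3, 4, 1, 3, 2, 0], [5, 36, 56, 44, 46, 39], [(true, 2), (true, 4), (false, 68), (false, 69), (false, 38), (true, 1)]),
  ([3, 4, 5, 4, 1, 3, 2, 0], [6, 38, 56, 43, 48, 31], [(true, 2), (false, 70), (false, 71), (false, 39), (false, 69), (false, 40)]),
  ([1, 3, 4, 5, 1, 3, 2, 0], [7, 37, 56, 50, 41, 22], [(true, 2), (false, 40), (false, 72), (false, 42), (true, 1), (false, 70)]),
  ([2, 3, 4, 5, 1, 3, 2, 0], [4, 37, 57, 39, 52, 26], [(false, 73), (false, 72), (false, 40), (true, 3), (true, 1), (false, 71)]),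
  ([1, 3, 4, 5, 4, 3, 2, 0], [8, 41, 56, 50, 37, 23], [(true, 2), (false, 41), (false, 74), (false, 70), (true, 4), (false, 42)]),
  ([2, 3, 4, 5, 4, 3, 2, 0], [11, 52, 57, 39, 37, 27], [(false, 75), (false, 74), (false, 41), (true, 3), (true, 4), (false, 43)]),
  ([2, 1, 3, 4, 5, 3, 2, 0], [9, 44, 57, 47, 38, 19], [(false, 76), (false, 43), (false, 42), (false, 77), (false, 44), (false, 74)]),
  ([0, 2, 3, 4, 5, 3, 2, 0], [27, 62, 42, 39, 38, 11], [(false, 43), (false, 76), (true, 2), (true, 3), (false, 45), (false, 75)]),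
  ([0, 2, 1, 3, 4, 5, 2, 0], [21, 58, 42, 48, 36, 8], [(false, 44), (false, 45), (true, 2), (false, 78), (false, 76), (true, 4)]),
  ([3, 2, 1, 3, 4, 5, 2, 0], [10, 42, 58, 48, 36, 17], [(false, 78), (false, 47), (true, 1), (false, 44), (false, 79), (true, 4)]),
  ([3, 0, 2, 1, 3, 4, 5, 0], [28, 57, 50, 40, 36, 6], [(false, 47), (false, 78), (false, 80), (false, 46), (false, 81), (true, 4)]),
  ([4, 3, 2, 1, 3, 4, 5, 0], [12, 42, 62, 39, 38, 16], [(false, 81), (false, 79), (true, 1), (true, 3), (false, 47), (false, 82)]),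
  ([2, 3, 0, 2, 1, 3, 4, 5], [39, 56, 46, 44, 36, 3], [(true, 1), (true, 2), (false, 48), (false, 80), (false, 83), (true, 4)]),
  ([4, 3, 0, 2, 1, 3, 4, 5], [44, 57, 46, 39, 38, 5], [(false, 49), (true, 2), (false, 83), (true, 3), (false, 48), (false, 84)]),
  ([5, 4, 3, 2, 1, 3, 4, 5], [60, 42, 46, 39, 37, 16], [(false, 84), (true, 2), (true, 1), (true, 3), (true, 4), (false, 49)]),
  ([5, 0, 2, 3, 4, 1, 3, 2, 0], [3, 38, 42, 39, 46, 59], [(false, 51), (true, 4), (true, 2), (true, 3), (false, 85), (false, 50)]),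
  ([4, 5, 2, 3, 4, 1, 3, 2, 0], [2, 36, 57, 40, 46, 43], [(false, 85), (true, 4), (false, 52), (false, 86), (false, 51), (true, 1)]),
  ([3, 4, 5, 3, 4, 1, 3, 2, 0], [5, 36, 56, 44, 47, 32], [(true, 2), (false, 87), (false, 88), (false, 52), (false, 53), (true, 1)]),
  ([1, 3, 4, 5, 4, 1, 3, 2, 0], [6, 38, 56, 50, 40, 23], [(true, 2), (false, 53), (false, 89), (false, 56), (false, 87), (false, 54)]),
  ([2, 3, 4, 5, 4, 1, 3, 2, 0], [3, 38, 57, 39, 51, 27], [(false, 90), (false, 89), (false, 53), (true, 3), (false, 88), (false, 55)]),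
  ([2, 1, 3, 4, 5, 1, 3, 2, 0], [4, 37, 57, 47, 45, 19], [(false, 91), (false, 55), (false, 54), (false, 92), (true, 1), (false, 89)]),
  ([0, 2, 3, 4, 5, 1, 3, 2, 0], [4, 37, 42, 39, 63, 11], [(false, 55), (false, 91), (true, 2), (true, 3), (true, 1), (false, 90)]),
  ([2, 1, 3, 4, 5, 4, 3, 2, 0], [8, 45, 57, 47, 37, 20], [(false, 93), (false, 57), (false, 56), (false, 94), (true, 4), (false, 58)]),
  ([0, 2, 3, 4, 5, 4, 3, 2, 0], [26, 63, 42, 39, 37, 12], [(false, 57), (false, 93), (true, 2), (true, 3), (true, 4), (false, 59)]),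
  ([0, 2, 1, 3, 4, 5, 3, 2, 0], [20, 59, 42, 47, 38, 8], [(false, 58), (false, 59), (true, 2), (false, 95), (false, 60), (false, 93)]),
  ([3, 2, 1, 3, 4, 5, 3, 2, 0], [7, 44, 58, 46, 41, 17], [(false, 95), (true, 3), (false, 92), (false, 58), (false, 96), (false, 94)]),
  ([3, 0, 2, 1, 3, 4, 5, 2, 0], [21, 57, 43, 48, 36, 6], [(false, 61), (false, 62), (false, 97), (false, 60), (false, 98), (true, 4)]),
  ([4, 3, 2, 1, 3, 4, 5, 2, 0], [9, 42, 59, 47, 38, 16], [(false, 98), (false, 63), (true, 1), (false, 96), (false, 61), (false, 99)]),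
  ([2, 3, 0, 2, 1, 3, 4, 5, 0], [32, 56, 47, 44, 36, 3], [(true, 1), (false, 97), (false, 62), (false, 64), (false, 100), (true, 4)]),
  ([4, 3, 0, 2, 1, 3, 4, 5, 0], [27, 57, 51, 39, 38, 5], [(false, 63), (false, 98), (false, 100), (true, 3), (false, 62), (false, 101)]),
  ([5, 4, 3, 2, 1, 3, 4, 5, 0], [11, 42, 63, 39, 37, 16], [(false, 101), (false, 99), (true, 1), (true, 3), (true, 4), (false, 63)]),
  ([4, 2, 3, 0, 2, 1, 3, 4, 5], [40, 56, 46, 43, 38, 2], [(true, 1), (true, 2), (false, 65), (false, 102), (false, 64), (false, 103)]),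
  ([5, 4, 3, 0, 2, 1, 3, 4, 5], [45, 57, 46, 39, 37, 5], [(false, 66), (true, 2), (false, 103), (true, 3), (true, 4), (false, 65)]),
  ([4, 5, 0, 2, 3, 4, 1, 3, 2, 0], [2, 36, 42, 40, 46, 58], [(false, 68), (true, 4), (true, 2), (false, 104), (false, 67), (true, 1)]),
  ([3, 4, 5, 2, 3, 4, 1, 3, 2, 0], [1, 36, 58, 37, 47, 42], [(false, 104), (false, 105), (false, 106), (false, 68), (true, 3), (true, 1)]),
  ([1, 3, 4, 5, 3, 4, 1, 3, 2, 0], [5, 36, 56, 51, 39, 24], [(true, 2), (false, 69), (false, 107), (true, 4), (false, 70), (true, 1)]),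
  ([2, 3, 4, 5, 3, 4, 1, 3, 2, 0], [2, 36, 57, 40, 50, 28], [(false, 108), (false, 107), (false, 69), (false, 106), (false, 71), (true, 1)]),
  ([2, 1, 3, 4, 5, 4, 1, 3, 2, 0], [3, 38, 57, 47, 44, 20], [(false, 109), (false, 71), (false, 70), (false, 110), (false, 107), (false, 72)]),
  ([0, 2, 3, 4, 5, 4, 1, 3, 2, 0], [3, 38, 42, 39, 62, 12], [(false, 71), (false, 109), (true, 2), (true, 3), (false, 108), (false, 73)]),
  ([0, 2, 1, 3, 4, 5, 1, 3, 2, 0], [4, 37, 42, 47, 60, 8], [(false, 72), (false, 73), (true, 2), (false, 111), (true, 1), (false, 109)]),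
  ([3, 2, 1, 3, 4, 5, 1, 3, 2, 0], [4, 40, 58, 46, 45, 17], [(false, 111), (true, 3), (false, 77), (false, 72), (false, 112), (false, 110)]),
  ([0, 2, 1, 3, 4, 5, 4, 3, 2, 0], [19, 60, 42, 47, 37, 9], [(false, 74), (false, 75), (true, 2), (false, 113), (true, 4), (false, 76)]),
  ([3, 2, 1, 3, 4, 5, 4, 3, 2, 0], [6, 45, 58, 46, 40, 18], [(false, 113), (true, 3), (false, 110), (false, 74), (false, 114), (false, 77)]),
  ([3, 0, 2, 1, 3, 4, 5, 3, 2, 0], [18, 59, 43, 46, 41, 6], [(false, 77), (true, 3), (false, 115), (false, 76), (false, 116), (false, 113)]),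
  ([4, 3, 2, 1, 3, 4, 5, 3, 2, 0], [7, 43, 59, 46, 41, 16], [(false, 116), (true, 3), (false, 112), (false, 79), (false, 77), (false, 117)]),
  ([2, 3, 0, 2, 1, 3, 4, 5, 2, 0], [24, 56, 39, 51, 36, 3], [(true, 1), (false, 80), (false, 78), (true, 2), (false, 118), (true, 4)]),
  ([4, 3, 0, 2, 1, 3, 4, 5, 2, 0], [20, 57, 44, 47, 38, 5], [(false, 79), (false, 81), (false, 118), (false, 116), (false, 78), (false, 119)]),
  ([5, 4, 3, 2, 1, 3, 4, 5, 2, 0], [8, 42, 60, 47, 37, 16], [(false, 119), (false, 82), (true, 1), (false, 117), (true, 4), (false, 79)]),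
  ([4, 2, 3, 0, 2, 1, 3, 4, 5, 0], [31, 56, 48, 43, 38, 2], [(true, 1), (false, 118), (false, 81), (false, 120), (false, 80), (false, 121)]),
  ([5, 4, 3, 0, 2, 1, 3, 4, 5, 0], [26, 57, 52, 39, 37, 5], [(false, 82), (false, 119), (false, 121), (true, 3), (true, 4), (false, 81)]),
  ([3, 4, 2, 3, 0, 2, 1, 3, 4, 5], [37, 56, 47, 42, 41, 1], [(true, 1), (false, 122), (true, 3), (false, 83), (false, 120), (false, 123)]),
  ([5, 4, 2, 3, 0, 2, 1, 3, 4, 5], [41, 56, 46, 43, 37, 2], [(true, 1), (true, 2), (false, 84), (false, 123), (true, 4), (false, 83)]),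
  ([3, 4, 5, 0, 2, 3, 4, 1, 3, 2, 0], [1, 36, 43, 37, 47, 57], [(false, 86), (false, 124), (false, 125), (false, 85), (true, 3), (true, 1)]),
  ([1, 3, 4, 5, 2, 3, 4, 1, 3, 2, 0], [0, 36, 61, 37, 39, 42], [(false, 124), (false, 86), (false, 126), (true, 4), (true, 3), (true, 1)]),
  ([2, 3, 4, 5, 2, 3, 4, 1, 3, 2, 0], [1, 36, 58, 37, 50, 29], [(false, 127), (false, 126), (false, 86), (false, 88), (true, 3), (true, 1)]),
  ([2, 1, 3, 4, 5, 3, 4, 1, 3, 2, 0], [2, 36, 57, 48, 43, 21], [(false, 128), (false, 88), (false, 87), (false, 129), (false, 89), (true, 1)]),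
  ([0, 2, 3, 4, 5, 3, 4, 1, 3, 2, 0], [2, 36, 42, 40, 61, 13], [(false, 88), (false, 128), (true, 2), (false, 127), (false, 90), (true, 1)]),
  ([0, 2, 1, 3, 4, 5, 4, 1, 3, 2, 0], [3, 38, 42, 47, 59, 9], [(false, 89), (false, 90), (true, 2), (false, 130), (false, 128), (false, 91)]),
  ([3, 2, 1, 3, 4, 5, 4, 1, 3, 2, 0], [3, 41, 58, 46, 44, 18], [(false, 130), (true, 3), (false, 94), (false, 89), (false, 131), (false, 92)]),
  ([3, 0, 2, 1, 3, 4, 5, 1, 3, 2, 0], [4, 40, 43, 46, 60, 6], [(false, 92), (true, 3), (false, 132), (false, 91), (false, 133), (false, 130)]),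
  ([4, 3, 2, 1, 3, 4, 5, 1, 3, 2, 0], [4, 39, 59, 46, 45, 16], [(false, 133), (true, 3), (false, 96), (true, 1), (false, 92), (false, 134)]),
  ([3, 0, 2, 1, 3, 4, 5, 4, 3, 2, 0], [17, 60, 43, 46, 40, 7], [(false, 94), (true, 3), (false, 135), (false, 93), (false, 136), (false, 95)]),
  ([4, 3, 2, 1, 3, 4, 5, 4, 3, 2, 0], [5, 45, 59, 46, 39, 18], [(false, 136), (true, 3), (false, 131), (true, 4), (false, 94), (false, 137)]),
  ([2, 3, 0, 2, 1, 3, 4, 5, 3, 2, 0], [18, 59, 39, 46, 45, 3], [(false, 132), (true, 3), (false, 95), (true, 2), (false, 138), (false, 135)]),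
  ([4, 3, 0, 2, 1, 3, 4, 5, 3, 2, 0], [18, 58, 44, 46, 41, 5], [(false, 96), (true, 3), (false, 138), (false, 98), (false, 95), (false, 139)]),
  ([5, 4, 3, 2, 1, 3, 4, 5, 3, 2, 0], [6, 43, 60, 46, 40, 16], [(false, 139), (true, 3), (false, 134), (false, 99), (false, 137), (false, 96)]),
  ([4, 2, 3, 0, 2, 1, 3, 4, 5, 2, 0], [23, 56, 40, 50, 38, 2], [(true, 1), (false, 100), (false, 98), (false, 140), (false, 97), (false, 141)]),
  ([5, 4, 3, 0, 2, 1, 3, 4, 5, 2, 0], [19, 57, 45, 47, 37, 5], [(false, 99), (false, 101), (false, 141), (false, 139), (true, 4), (false, 98)]),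
  ([3, 4, 2, 3, 0, 2, 1, 3, 4, 5, 0], [34, 56, 48, 42, 41, 1], [(true, 1), (false, 142), (true, 3), (false, 100), (false, 102), (false, 143)]),
  ([5, 4, 2, 3, 0, 2, 1, 3, 4, 5, 0], [30, 56, 49, 43, 37, 2], [(true, 1), (false, 141), (false, 101), (false, 143), (true, 4), (false, 100)]),
  ([1, 3, 4, 2, 3, 0, 2, 1, 3, 4, 5], [37, 56, 39, 42, 49, 0], [(true, 1), (false, 102), (true, 3), (true, 2), (false, 142), (false, 144)]),
  ([5, 3, 4, 2, 3, 0, 2, 1, 3, 4, 5], [38, 56, 47, 42, 40, 1], [(true, 1), (false, 144), (true, 3), (false, 103), (false, 145), (false, 102)]),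
  ([1, 3, 4, 5, 0, 2, 3, 4, 1, 3, 2, 0], [0, 36, 50, 37, 39, 57], [(false, 105), (false, 104), (false, 146), (true, 4), (true, 3), (true, 1)]),
  ([2, 3, 4, 5, 0, 2, 3, 4, 1, 3, 2, 0], [1, 36, 39, 37, 50, 56], [(false, 147), (false, 146), (false, 104), (true, 2), (true, 3), (true, 1)]),
  ([2, 1, 3, 4, 5, 2, 3, 4, 1, 3, 2, 0], [0, 36, 61, 37, 43, 29], [(false, 148), (false, 106), (false, 105), (false, 149), (true, 3), (true, 1)]),
  ([0, 2, 3, 4, 5, 2, 3, 4, 1, 3, 2, 0], [1, 36, 43, 37, 61, 14], [(false, 106), (false, 148), (false, 147), (false, 108), (true, 3), (true, 1)]),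
  ([0, 2, 1, 3, 4, 5, 3, 4, 1, 3, 2, 0], [2, 36, 42, 48, 58, 10], [(false, 107), (false, 108), (true, 2), (false, 150), (false, 109), (true, 1)]),
  ([3, 2, 1, 3, 4, 5, 3, 4, 1, 3, 2, 0], [1, 36, 58, 48, 42, 21], [(false, 150), (false, 149), (true, 4), (false, 107), (false, 151), (true, 1)]),
  ([3, 0, 2, 1, 3, 4, 5, 4, 1, 3, 2, 0], [3, 41, 43, 46, 59, 7], [(false, 110), (true, 3), (false, 152), (false, 109), (false, 153), (false, 111)]),
  ([4, 3, 2, 1, 3, 4, 5, 4, 1, 3, 2, 0], [2, 41, 59, 46, 43, 18], [(false, 153), (true, 3), (false, 114), (false, 151), (false, 110), (false, 154)]),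
  ([2, 3, 0, 2, 1, 3, 4, 5, 1, 3, 2, 0], [7, 44, 39, 46, 60, 3], [(false, 115), (true, 3), (false, 111), (true, 2), (false, 155), (false, 152)]),
  ([4, 3, 0, 2, 1, 3, 4, 5, 1, 3, 2, 0], [4, 39, 44, 46, 60, 5], [(false, 112), (true, 3), (false, 155), (true, 1), (false, 111), (false, 156)]),
  ([5, 4, 3, 2, 1, 3, 4, 5, 1, 3, 2, 0], [3, 39, 60, 46, 44, 16], [(false, 156), (true, 3), (false, 117), (true, 1), (false, 154), (false, 112)]),
  ([2, 3, 0, 2, 1, 3, 4, 5, 4, 3, 2, 0], [17, 60, 39, 46, 44, 4], [(false, 152), (true, 3), (false, 113), (true, 2), (false, 157), (false, 115)]),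
  ([4, 3, 0, 2, 1, 3, 4, 5, 4, 3, 2, 0], [16, 60, 44, 46, 39, 7], [(false, 114), (true, 3), (false, 157), (true, 4), (false, 113), (false, 158)]),
  ([5, 4, 3, 2, 1, 3, 4, 5, 4, 3, 2, 0], [5, 44, 60, 46, 39, 17], [(false, 158), (true, 3), (false, 154), (true, 4), (false, 117), (false, 114)]),
  ([4, 2, 3, 0, 2, 1, 3, 4, 5, 3, 2, 0], [18, 58, 40, 46, 45, 2], [(false, 155), (true, 3), (false, 116), (false, 159), (false, 115), (false, 160)]),
  ([5, 4, 3, 0, 2, 1, 3, 4, 5, 3, 2, 0], [17, 58, 45, 46, 40, 5], [(false, 117), (true, 3), (false, 160), (false, 119), (false, 158), (false, 116)]),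
  ([3, 4, 2, 3, 0, 2, 1, 3, 4, 5, 2, 0], [23, 56, 37, 50, 41, 1], [(true, 1), (false, 161), (false, 159), (false, 118), (true, 2), (false, 162)]),
  ([5, 4, 2, 3, 0, 2, 1, 3, 4, 5, 2, 0], [22, 56, 41, 50, 37, 2], [(true, 1), (false, 121), (false, 119), (false, 162), (true, 4), (false, 118)]),
  ([1, 3, 4, 2, 3, 0, 2, 1, 3, 4, 5, 0], [34, 56, 40, 42, 49, 0], [(true, 1), (false, 120), (true, 3), (false, 161), (false, 122), (false, 163)]),
  ([5, 3, 4, 2, 3, 0, 2, 1, 3, 4, 5, 0], [33, 56, 49, 42, 40, 1], [(true, 1), (false, 163), (true, 3), (false, 121), (false, 164), (false, 120)]),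
  ([5, 1, 3, 4, 2, 3, 0, 2, 1, 3, 4, 5], [38, 56, 39, 42, 48, 0], [(true, 1), (false, 123), (true, 3), (true, 2), (false, 165), (false, 122)]),
  ([4, 5, 3, 4, 2, 3, 0, 2, 1, 3, 4, 5], [36, 56, 48, 42, 39, 1], [(true, 1), (false, 165), (true, 3), (true, 4), (false, 123), (false, 164)]),
  ([2, 1, 3, 4, 5, 0, 2, 3, 4, 1, 3, 2, 0], [0, 36, 47, 37, 43, 56], [(false, 166), (false, 125), (false, 124), (false, 167), (true, 3), (true, 1)]),
  ([0, 2, 3, 4, 5, 0, 2, 3, 4, 1, 3, 2, 0], [1, 36, 39, 37, 61, 15], [(false, 125), (false, 166), (false, 127), (true, 2), (true, 3), (true, 1)]),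
  ([0, 2, 1, 3, 4, 5, 2, 3, 4, 1, 3, 2, 0], [0, 36, 50, 37, 58, 14], [(false, 126), (false, 127), (false, 166), (false, 168), (true, 3), (true, 1)]),
  ([3, 2, 1, 3, 4, 5, 2, 3, 4, 1, 3, 2, 0], [0, 36, 61, 40, 42, 28], [(false, 168), (false, 129), (true, 4), (false, 126), (false, 169), (true, 1)]),
  ([3, 0, 2, 1, 3, 4, 5, 3, 4, 1, 3, 2, 0], [1, 36, 43, 48, 57, 10], [(false, 129), (false, 168), (false, 170), (false, 128), (false, 171), (true, 1)]),
  ([4, 3, 2, 1, 3, 4, 5, 3, 4, 1, 3, 2, 0], [1, 38, 59, 47, 42, 20], [(false, 171), (false, 169), (true, 4), (false, 131), (false, 129), (false, 172)]),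
  ([2, 3, 0, 2, 1, 3, 4, 5, 4, 1, 3, 2, 0], [6, 45, 39, 46, 59, 4], [(false, 135), (true, 3), (false, 130), (true, 2), (false, 173), (false, 132)]),
  ([4, 3, 0, 2, 1, 3, 4, 5, 4, 1, 3, 2, 0], [2, 41, 44, 46, 58, 7], [(false, 131), (true, 3), (false, 173), (false, 171), (false, 130), (false, 174)]),
  ([5, 4, 3, 2, 1, 3, 4, 5, 4, 1, 3, 2, 0], [2, 40, 60, 46, 43, 17], [(false, 174), (true, 3), (false, 137), (false, 172), (false, 134), (false, 131)]),
  ([4, 2, 3, 0, 2, 1, 3, 4, 5, 1, 3, 2, 0], [7, 43, 40, 46, 60, 2], [(false, 138), (true, 3), (false, 133), (false, 175), (false, 132), (false, 176)]),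
  ([5, 4, 3, 0, 2, 1, 3, 4, 5, 1, 3, 2, 0], [3, 39, 45, 46, 59, 5], [(false, 134), (true, 3), (false, 176), (true, 1), (false, 174), (false, 133)]),
  ([4, 2, 3, 0, 2, 1, 3, 4, 5, 4, 3, 2, 0], [16, 60, 40, 46, 43, 4], [(false, 173), (true, 3), (false, 136), (false, 177), (false, 135), (false, 178)]),
  ([5, 4, 3, 0, 2, 1, 3, 4, 5, 4, 3, 2, 0], [16, 59, 45, 46, 39, 6], [(false, 137), (true, 3), (false, 178), (true, 4), (false, 139), (false, 136)]),
  ([3, 4, 2, 3, 0, 2, 1, 3, 4, 5, 3, 2, 0], [20, 57, 37, 47, 45, 1], [(false, 175), (false, 179), (false, 140), (false, 138), (true, 2), (false, 180)]),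
  ([5, 4, 2, 3, 0, 2, 1, 3, 4, 5, 3, 2, 0], [17, 58, 41, 46, 44, 2], [(false, 176), (true, 3), (false, 139), (false, 180), (false, 178), (false, 138)]),
  ([1, 3, 4, 2, 3, 0, 2, 1, 3, 4, 5, 2, 0], [31, 56, 37, 43, 49, 0], [(true, 1), (false, 140), (false, 179), (false, 142), (true, 2), (false, 181)]),
  ([5, 3, 4, 2, 3, 0, 2, 1, 3, 4, 5, 2, 0], [22, 56, 38, 50, 40, 1], [(true, 1), (false, 181), (false, 180), (false, 141), (false, 182), (false, 140)]),
  ([5, 1, 3, 4, 2, 3, 0, 2, 1, 3, 4, 5, 0], [33, 56, 41, 42, 48, 0], [(true, 1), (false, 143), (true, 3), (false, 181), (false, 183), (false, 142)]),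
  ([4, 5, 3, 4, 2, 3, 0, 2, 1, 3, 4, 5, 0], [35, 56, 49, 42, 39, 1], [(true, 1), (false, 183), (true, 3), (true, 4), (false, 143), (false, 145)]),
  ([4, 5, 1, 3, 4, 2, 3, 0, 2, 1, 3, 4, 5], [36, 56, 40, 42, 47, 0], [(true, 1), (false, 145), (true, 3), (false, 184), (false, 144), (false, 183)]),
  ([0, 2, 1, 3, 4, 5, 0, 2, 3, 4, 1, 3, 2, 0], [0, 36, 47, 37, 58, 15], [(false, 146), (false, 147), (false, 148), (false, 185), (true, 3), (true, 1)]),
  ([3, 2, 1, 3, 4, 5, 0, 2, 3, 4, 1, 3, 2, 0], [0, 36, 46, 40, 42, 56], [(false, 185), (true, 2), (true, 4), (false, 146), (false, 186), (true, 1)]),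
  ([3, 0, 2, 1, 3, 4, 5, 2, 3, 4, 1, 3, 2, 0], [0, 36, 50, 40, 57, 13], [(false, 149), (false, 150), (false, 187), (false, 148), (false, 188), (true, 1)]),
  ([4, 3, 2, 1, 3, 4, 5, 2, 3, 4, 1, 3, 2, 0], [0, 38, 62, 39, 42, 27], [(false, 188), (false, 151), (true, 4), (true, 3), (false, 149), (false, 189)]),
  ([2, 3, 0, 2, 1, 3, 4, 5, 3, 4, 1, 3, 2, 0], [1, 36, 39, 51, 56, 10], [(true, 4), (false, 187), (false, 150), (true, 2), (false, 190), (true, 1)]),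
  ([4, 3, 0, 2, 1, 3, 4, 5, 3, 4, 1, 3, 2, 0], [1, 38, 44, 47, 57, 9], [(false, 151), (false, 188), (false, 190), (false, 153), (false, 150), (false, 191)]),
  ([5, 4, 3, 2, 1, 3, 4, 5, 3, 4, 1, 3, 2, 0], [1, 37, 60, 47, 42, 19], [(false, 191), (false, 189), (true, 4), (false, 154), (true, 1), (false, 151)]),
  ([4, 2, 3, 0, 2, 1, 3, 4, 5, 4, 1, 3, 2, 0], [5, 45, 40, 46, 58, 4], [(false, 157), (true, 3), (false, 153), (false, 192), (false, 152), (false, 193)]),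
  ([5, 4, 3, 0, 2, 1, 3, 4, 5, 4, 1, 3, 2, 0], [2, 40, 45, 46, 58, 6], [(false, 154), (true, 3), (false, 193), (false, 191), (false, 156), (false, 153)]),
  ([3, 4, 2, 3, 0, 2, 1, 3, 4, 5, 1, 3, 2, 0], [9, 42, 37, 47, 60, 1], [(false, 159), (false, 194), (true, 1), (false, 155), (true, 2), (false, 195)]),
  ([5, 4, 2, 3, 0, 2, 1, 3, 4, 5, 1, 3, 2, 0], [6, 43, 41, 46, 59, 2], [(false, 160), (true, 3), (false, 156), (false, 195), (false, 193), (false, 155)]),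
  ([3, 4, 2, 3, 0, 2, 1, 3, 4, 5, 4, 3, 2, 0], [16, 60, 37, 47, 42, 4], [(false, 192), (false, 196), (true, 4), (false, 157), (true, 2), (false, 197)]),
  ([5, 4, 2, 3, 0, 2, 1, 3, 4, 5, 4, 3, 2, 0], [16, 59, 41, 46, 43, 3], [(false, 193), (true, 3), (false, 158), (false, 197), (false, 160), (false, 157)]),
  ([1, 3, 4, 2, 3, 0, 2, 1, 3, 4, 5, 3, 2, 0], [27, 57, 37, 39, 52, 0], [(false, 194), (false, 159), (false, 161), (true, 3), (true, 2), (false, 198)]),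
  ([5, 3, 4, 2, 3, 0, 2, 1, 3, 4, 5, 3, 2, 0], [19, 57, 38, 47, 44, 1], [(false, 195), (false, 198), (false, 162), (false, 160), (false, 199), (false, 159)]),
  ([5, 1, 3, 4, 2, 3, 0, 2, 1, 3, 4, 5, 2, 0], [30, 56, 38, 43, 48, 0], [(true, 1), (false, 162), (false, 198), (false, 163), (false, 200), (false, 161)]),
  ([4, 5, 3, 4, 2, 3, 0, 2, 1, 3, 4, 5, 2, 0], [22, 56, 36, 51, 39, 1], [(true, 1), (false, 200), (false, 199), (true, 4), (false, 162), (true, 2)]),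
  ([4, 5, 1, 3, 4, 2, 3, 0, 2, 1, 3, 4, 5, 0], [35, 56, 41, 42, 47, 0], [(true, 1), (false, 164), (true, 3), (false, 201), (false, 163), (false, 165)]),
  ([3, 4, 5, 1, 3, 4, 2, 3, 0, 2, 1, 3, 4, 5], [36, 56, 37, 43, 46, 0], [(true, 1), (true, 4), (false, 202), (false, 165), (true, 2), (false, 201)]),
  ([3, 0, 2, 1, 3, 4, 5, 0, 2, 3, 4, 1, 3, 2, 0], [0, 36, 46, 40, 57, 15], [(false, 167), (true, 2), (false, 203), (false, 166), (false, 204), (true, 1)]),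
  ([4, 3, 2, 1, 3, 4, 5, 0, 2, 3, 4, 1, 3, 2, 0], [0, 38, 46, 39, 42, 56], [(false, 204), (true, 2), (true, 4), (true, 3), (false, 167), (false, 205)]),
  ([2, 3, 0, 2, 1, 3, 4, 5, 2, 3, 4, 1, 3, 2, 0], [0, 36, 47, 44, 56, 13], [(true, 4), (false, 170), (false, 168), (false, 203), (false, 206), (true, 1)]),
  ([4, 3, 0, 2, 1, 3, 4, 5, 2, 3, 4, 1, 3, 2, 0], [0, 38, 51, 39, 57, 12], [(false, 169), (false, 171), (false, 206), (true, 3), (false, 168), (false, 207)]),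
  ([5, 4, 3, 2, 1, 3, 4, 5, 2, 3, 4, 1, 3, 2, 0], [0, 37, 63, 39, 42, 26], [(false, 207), (false, 172), (true, 4), (true, 3), (true, 1), (false, 169)]),
  ([4, 2, 3, 0, 2, 1, 3, 4, 5, 3, 4, 1, 3, 2, 0], [1, 38, 40, 50, 56, 9], [(true, 4), (false, 206), (false, 171), (false, 208), (false, 170), (false, 209)]),
  ([5, 4, 3, 0, 2, 1, 3, 4, 5, 3, 4, 1, 3, 2, 0], [1, 37, 45, 47, 57, 8], [(false, 172), (false, 207), (false, 209), (false, 174), (true, 1), (false, 171)]),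
  ([3, 4, 2, 3, 0, 2, 1, 3, 4, 5, 4, 1, 3, 2, 0], [5, 45, 37, 47, 57, 4], [(false, 177), (false, 210), (false, 208), (false, 173), (true, 2), (false, 211)]),
  ([5, 4, 2, 3, 0, 2, 1, 3, 4, 5, 4, 1, 3, 2, 0], [5, 44, 41, 46, 58, 3], [(false, 178), (true, 3), (false, 174), (false, 211), (false, 176), (false, 173)]),
  ([1, 3, 4, 2, 3, 0, 2, 1, 3, 4, 5, 1, 3, 2, 0], [12, 42, 37, 39, 63, 0], [(false, 179), (false, 175), (true, 1), (true, 3), (true, 2), (false, 212)]),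
  ([5, 3, 4, 2, 3, 0, 2, 1, 3, 4, 5, 1, 3, 2, 0], [8, 42, 38, 47, 59, 1], [(false, 180), (false, 212), (true, 1), (false, 176), (false, 213), (false, 175)]),
  ([1, 3, 4, 2, 3, 0, 2, 1, 3, 4, 5, 4, 3, 2, 0], [16, 63, 37, 39, 42, 4], [(false, 210), (false, 177), (true, 4), (true, 3), (true, 2), (false, 214)]),
  ([5, 3, 4, 2, 3, 0, 2, 1, 3, 4, 5, 4, 3, 2, 0], [16, 59, 38, 47, 42, 3], [(false, 211), (false, 214), (true, 4), (false, 178), (false, 215), (false, 177)]),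
  ([5, 1, 3, 4, 2, 3, 0, 2, 1, 3, 4, 5, 3, 2, 0], [26, 57, 38, 39, 51, 0], [(false, 212), (false, 180), (false, 181), (true, 3), (false, 216), (false, 179)]),
  ([4, 5, 3, 4, 2, 3, 0, 2, 1, 3, 4, 5, 3, 2, 0], [19, 57, 36, 48, 43, 1], [(false, 213), (false, 216), (false, 182), (false, 215), (false, 180), (true, 2)]),
  ([4, 5, 1, 3, 4, 2, 3, 0, 2, 1, 3, 4, 5, 2, 0], [30, 56, 36, 44, 47, 0], [(true, 1), (false, 182), (false, 216), (false, 217), (false, 181), (true, 2)]),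
  ([3, 4, 5, 1, 3, 4, 2, 3, 0, 2, 1, 3, 4, 5, 0], [35, 56, 38, 43, 46, 0], [(true, 1), (true, 4), (false, 218), (false, 183), (false, 217), (false, 184)]),
  ([2, 3, 4, 5, 1, 3, 4, 2, 3, 0, 2, 1, 3, 4, 5], [36, 57, 37, 39, 46, 0], [(false, 219), (true, 4), (false, 184), (true, 3), (true, 2), (false, 218)]),
  ([2, 3, 0, 2, 1, 3, 4, 5, 0, 2, 3, 4, 1, 3, 2, 0], [0, 36, 46, 44, 56, 14], [(true, 4), (true, 2), (false, 185), (false, 187), (false, 220), (true, 1)]),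
  ([4, 3, 0, 2, 1, 3, 4, 5, 0, 2, 3, 4, 1, 3, 2, 0], [0, 38, 46, 39, 57, 15], [(false, 186), (true, 2), (false, 220), (true, 3), (false, 185), (false, 221)]),
  ([5, 4, 3, 2, 1, 3, 4, 5, 0, 2, 3, 4, 1, 3, 2, 0], [0, 37, 46, 39, 42, 56], [(false, 221), (true, 2), (true, 4), (true, 3), (true, 1), (false, 186)]),
  ([4, 2, 3, 0, 2, 1, 3, 4, 5, 2, 3, 4, 1, 3, 2, 0], [0, 38, 48, 43, 56, 12], [(true, 4), (false, 190), (false, 188), (false, 222), (false, 187), (false, 223)]),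
  ([5, 4, 3, 0, 2, 1, 3, 4, 5, 2, 3, 4, 1, 3, 2, 0], [0, 37, 52, 39, 57, 11], [(false, 189), (false, 191), (false, 223), (true, 3), (true, 1), (false, 188)]),
  ([3, 4, 2, 3, 0, 2, 1, 3, 4, 5, 3, 4, 1, 3, 2, 0], [2, 41, 37, 50, 56, 7], [(true, 4), (false, 224), (false, 192), (false, 190), (true, 2), (false, 225)]),
  ([5, 4, 2, 3, 0, 2, 1, 3, 4, 5, 3, 4, 1, 3, 2, 0], [1, 37, 41, 50, 56, 8], [(true, 4), (false, 223), (false, 191), (false, 225), (true, 1), (false, 190)]),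
  ([1, 3, 4, 2, 3, 0, 2, 1, 3, 4, 5, 4, 1, 3, 2, 0], [5, 52, 37, 39, 57, 4], [(false, 196), (false, 192), (false, 224), (true, 3), (true, 2), (false, 226)]),
  ([5, 3, 4, 2, 3, 0, 2, 1, 3, 4, 5, 4, 1, 3, 2, 0], [5, 44, 38, 47, 57, 3], [(false, 197), (false, 226), (false, 225), (false, 193), (false, 227), (false, 192)]),
  ([5, 1, 3, 4, 2, 3, 0, 2, 1, 3, 4, 5, 1, 3, 2, 0], [11, 42, 38, 39, 62, 0], [(false, 198), (false, 195), (true, 1), (true, 3), (false, 228), (false, 194)]),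
  ([4, 5, 3, 4, 2, 3, 0, 2, 1, 3, 4, 5, 1, 3, 2, 0], [8, 42, 36, 48, 58, 1], [(false, 199), (false, 228), (true, 1), (false, 227), (false, 195), (true, 2)]),
  ([5, 1, 3, 4, 2, 3, 0, 2, 1, 3, 4, 5, 4, 3, 2, 0], [16, 62, 38, 39, 42, 3], [(false, 226), (false, 197), (true, 4), (true, 3), (false, 229), (false, 196)]),
  ([4, 5, 3, 4, 2, 3, 0, 2, 1, 3, 4, 5, 4, 3, 2, 0], [17, 58, 36, 48, 42, 2], [(false, 227), (false, 229), (true, 4), (false, 199), (false, 197), (true, 2)]),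
  ([4, 5, 1, 3, 4, 2, 3, 0, 2, 1, 3, 4, 5, 3, 2, 0], [26, 57, 36, 40, 50, 0], [(false, 228), (false, 199), (false, 200), (false, 230), (false, 198), (true, 2)]),
  ([3, 4, 5, 1, 3, 4, 2, 3, 0, 2, 1, 3, 4, 5, 2, 0], [33, 56, 36, 44, 46, 0], [(true, 1), (true, 4), (false, 231), (false, 200), (false, 201), (true, 2)]),
  ([2, 3, 4, 5, 1, 3, 4, 2, 3, 0, 2, 1, 3, 4, 5, 0], [35, 57, 38, 39, 46, 0], [(false, 232), (true, 4), (false, 201), (true, 3), (false, 231), (false, 202)]),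
  ([0, 2, 3, 4, 5, 1, 3, 4, 2, 3, 0, 2, 1, 3, 4, 5], [36, 42, 37, 39, 46, 0], [(false, 202), (true, 4), (true, 1), (true, 3), (true, 2), (false, 232)]),
  ([4, 2, 3, 0, 2, 1, 3, 4, 5, 0, 2, 3, 4, 1, 3, 2, 0], [0, 38, 46, 43, 56, 14], [(true, 4), (true, 2), (false, 204), (false, 233), (false, 203), (false, 234)]),
  ([5, 4, 3, 0, 2, 1, 3, 4, 5, 0, 2, 3, 4, 1, 3, 2, 0], [0, 37, 46, 39, 57, 15], [(false, 205), (true, 2), (false, 234), (true, 3), (true, 1), (false, 204)]),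
  ([3, 4, 2, 3, 0, 2, 1, 3, 4, 5, 2, 3, 4, 1, 3, 2, 0], [0, 41, 48, 42, 56, 12], [(true, 4), (false, 235), (true, 3), (false, 206), (false, 233), (false, 236)]),
  ([5, 4, 2, 3, 0, 2, 1, 3, 4, 5, 2, 3, 4, 1, 3, 2, 0], [0, 37, 49, 43, 56, 11], [(true, 4), (false, 209), (false, 207), (false, 236), (true, 1), (false, 206)]),
  ([1, 3, 4, 2, 3, 0, 2, 1, 3, 4, 5, 3, 4, 1, 3, 2, 0], [2, 49, 37, 43, 56, 7], [(true, 4), (false, 208), (false, 210), (false, 235), (true, 2), (false, 237)]),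
  ([5, 3, 4, 2, 3, 0, 2, 1, 3, 4, 5, 3, 4, 1, 3, 2, 0], [2, 40, 38, 50, 56, 6], [(true, 4), (false, 237), (false, 211), (false, 209), (false, 238), (false, 208)]),
  ([5, 1, 3, 4, 2, 3, 0, 2, 1, 3, 4, 5, 4, 1, 3, 2, 0], [5, 51, 38, 39, 57, 3], [(false, 214), (false, 211), (false, 237), (true, 3), (false, 239), (false, 210)]),
  ([4, 5, 3, 4, 2, 3, 0, 2, 1, 3, 4, 5, 4, 1, 3, 2, 0], [6, 43, 36, 48, 57, 2], [(false, 215), (false, 239), (false, 238), (false, 213), (false, 211), (true, 2)]),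
  ([4, 5, 1, 3, 4, 2, 3, 0, 2, 1, 3, 4, 5, 1, 3, 2, 0], [11, 42, 36, 40, 61, 0], [(false, 216), (false, 213), (true, 1), (false, 240), (false, 212), (true, 2)]),
  ([4, 5, 1, 3, 4, 2, 3, 0, 2, 1, 3, 4, 5, 4, 3, 2, 0], [17, 61, 36, 40, 42, 2], [(false, 239), (false, 215), (true, 4), (false, 241), (false, 214), (true, 2)]),
  ([3, 4, 5, 1, 3, 4, 2, 3, 0, 2, 1, 3, 4, 5, 3, 2, 0], [26, 58, 36, 37, 50, 0], [(false, 240), (false, 241), (false, 242), (false, 216), (true, 3), (true, 2)]),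
  ([2, 3, 4, 5, 1, 3, 4, 2, 3, 0, 2, 1, 3, 4, 5, 2, 0], [33, 57, 36, 40, 46, 0], [(false, 243), (true, 4), (false, 217), (false, 242), (false, 218), (true, 2)]),
  ([0, 2, 3, 4, 5, 1, 3, 4, 2, 3, 0, 2, 1, 3, 4, 5, 0], [35, 42, 38, 39, 46, 0], [(false, 218), (true, 4), (true, 1), (true, 3), (false, 243), (false, 219)]),
  ([3, 4, 2, 3, 0, 2, 1, 3, 4, 5, 0, 2, 3, 4, 1, 3, 2, 0], [0, 41, 47, 42, 56, 13], [(true, 4), (false, 244), (true, 3), (false, 220), (false, 222), (false, 245)]),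
  ([5, 4, 2, 3, 0, 2, 1, 3, 4, 5, 0, 2, 3, 4, 1, 3, 2, 0], [0, 37, 46, 43, 56, 14], [(true, 4), (true, 2), (false, 221), (false, 245), (true, 1), (false, 220)]),
  ([1, 3, 4, 2, 3, 0, 2, 1, 3, 4, 5, 2, 3, 4, 1, 3, 2, 0], [1, 49, 40, 42, 56, 9], [(true, 4), (false, 222), (true, 3), (false, 224), (false, 244), (false, 246)]),
  ([5, 3, 4, 2, 3, 0, 2, 1, 3, 4, 5, 2, 3, 4, 1, 3, 2, 0], [0, 40, 49, 42, 56, 11], [(true, 4), (false, 246), (true, 3), (false, 223), (false, 247), (false, 222)]),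
  ([5, 1, 3, 4, 2, 3, 0, 2, 1, 3, 4, 5, 3, 4, 1, 3, 2, 0], [2, 48, 38, 43, 56, 6], [(true, 4), (false, 225), (false, 226), (false, 246), (false, 248), (false, 224)]),
  ([4, 5, 3, 4, 2, 3, 0, 2, 1, 3, 4, 5, 3, 4, 1, 3, 2, 0], [3, 39, 36, 51, 56, 5], [(true, 4), (false, 248), (false, 227), (true, 1), (false, 225), (true, 2)]),
  ([4, 5, 1, 3, 4, 2, 3, 0, 2, 1, 3, 4, 5, 4, 1, 3, 2, 0], [6, 50, 36, 40, 57, 2], [(false, 229), (false, 227), (false, 248), (false, 249), (false, 226), (true, 2)]),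
  ([3, 4, 5, 1, 3, 4, 2, 3, 0, 2, 1, 3, 4, 5, 1, 3, 2, 0], [11, 43, 36, 37, 61, 0], [(false, 230), (false, 249), (false, 250), (false, 228), (true, 3), (true, 2)]),
  ([3, 4, 5, 1, 3, 4, 2, 3, 0, 2, 1, 3, 4, 5, 4, 3, 2, 0], [19, 61, 36, 37, 43, 1], [(false, 249), (false, 230), (false, 251), (false, 229), (true, 3), (true, 2)]),
  ([2, 3, 4, 5, 1, 3, 4, 2, 3, 0, 2, 1, 3, 4, 5, 3, 2, 0], [30, 58, 36, 37, 47, 0], [(false, 252), (false, 251), (false, 230), (false, 231), (true, 3), (true, 2)]),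
  ([0, 2, 3, 4, 5, 1, 3, 4, 2, 3, 0, 2, 1, 3, 4, 5, 2, 0], [33, 42, 36, 40, 46, 0], [(false, 231), (true, 4), (true, 1), (false, 252), (false, 232), (true, 2)]),
  ([1, 3, 4, 2, 3, 0, 2, 1, 3, 4, 5, 0, 2, 3, 4, 1, 3, 2, 0], [1, 49, 39, 42, 56, 10], [(true, 4), (false, 233), (true, 3), (true, 2), (false, 235), (false, 253)]),
  ([5, 3, 4, 2, 3, 0, 2, 1, 3, 4, 5, 0, 2, 3, 4, 1, 3, 2, 0], [0, 40, 47, 42, 56, 13], [(true, 4), (false, 253), (true, 3), (false, 234), (false, 254), (false, 233)]),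
  ([5, 1, 3, 4, 2, 3, 0, 2, 1, 3, 4, 5, 2, 3, 4, 1, 3, 2, 0], [1, 48, 41, 42, 56, 8], [(true, 4), (false, 236), (true, 3), (false, 237), (false, 255), (false, 235)]),
  ([4, 5, 3, 4, 2, 3, 0, 2, 1, 3, 4, 5, 2, 3, 4, 1, 3, 2, 0], [0, 39, 49, 42, 56, 11], [(true, 4), (false, 255), (true, 3), (true, 1), (false, 236), (false, 254)]),
  ([4, 5, 1, 3, 4, 2, 3, 0, 2, 1, 3, 4, 5, 3, 4, 1, 3, 2, 0], [3, 47, 36, 44, 56, 5], [(true, 4), (false, 238), (false, 239), (false, 256), (false, 237), (true, 2)]),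
  ([3, 4, 5, 1, 3, 4, 2, 3, 0, 2, 1, 3, 4, 5, 4, 1, 3, 2, 0], [8, 50, 36, 37, 58, 1], [(false, 241), (false, 240), (false, 257), (false, 239), (true, 3), (true, 2)]),
  ([2, 3, 4, 5, 1, 3, 4, 2, 3, 0, 2, 1, 3, 4, 5, 1, 3, 2, 0], [11, 39, 36, 37, 61, 0], [(false, 258), (false, 257), (false, 240), (true, 1), (true, 3), (true, 2)]),
  ([2, 3, 4, 5, 1, 3, 4, 2, 3, 0, 2, 1, 3, 4, 5, 4, 3, 2, 0], [22, 61, 36, 37, 39, 1], [(false, 259), (false, 242), (false, 241), (true, 4), (true, 3), (true, 2)]),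
  ([0, 2, 3, 4, 5, 1, 3, 4, 2, 3, 0, 2, 1, 3, 4, 5, 3, 2, 0], [30, 43, 36, 37, 47, 0], [(false, 242), (false, 259), (false, 258), (false, 243), (true, 3), (true, 2)]),
  ([5, 1, 3, 4, 2, 3, 0, 2, 1, 3, 4, 5, 0, 2, 3, 4, 1, 3, 2, 0], [1, 48, 39, 42, 56, 10], [(true, 4), (false, 245), (true, 3), (true, 2), (false, 260), (false, 244)]),
  ([4, 5, 3, 4, 2, 3, 0, 2, 1, 3, 4, 5, 0, 2, 3, 4, 1, 3, 2, 0], [0, 39, 48, 42, 56, 12], [(true, 4), (false, 260), (true, 3), (true, 1), (false, 245), (false, 247)]),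
  ([4, 5, 1, 3, 4, 2, 3, 0, 2, 1, 3, 4, 5, 2, 3, 4, 1, 3, 2, 0], [1, 47, 41, 42, 56, 8], [(true, 4), (false, 247), (true, 3), (false, 261), (false, 246), (false, 260)]),
  ([3, 4, 5, 1, 3, 4, 2, 3, 0, 2, 1, 3, 4, 5, 3, 4, 1, 3, 2, 0], [3, 46, 36, 44, 56, 5], [(true, 4), (true, 1), (false, 262), (false, 248), (false, 261), (true, 2)]),
  ([2, 3, 4, 5, 1, 3, 4, 2, 3, 0, 2, 1, 3, 4, 5, 4, 1, 3, 2, 0], [8, 47, 36, 37, 58, 1], [(false, 263), (false, 250), (false, 249), (false, 262), (true, 3), (true, 2)]),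
  ([0, 2, 3, 4, 5, 1, 3, 4, 2, 3, 0, 2, 1, 3, 4, 5, 1, 3, 2, 0], [26, 39, 36, 37, 50, 0], [(false, 250), (false, 263), (false, 252), (true, 1), (true, 3), (true, 2)]),
  ([0, 2, 3, 4, 5, 1, 3, 4, 2, 3, 0, 2, 1, 3, 4, 5, 4, 3, 2, 0], [22, 50, 36, 37, 39, 1], [(false, 251), (false, 252), (false, 263), (true, 4), (true, 3), (true, 2)]),
  ([4, 5, 1, 3, 4, 2, 3, 0, 2, 1, 3, 4, 5, 0, 2, 3, 4, 1, 3, 2, 0], [1, 47, 40, 42, 56, 9], [(true, 4), (false, 254), (true, 3), (false, 264), (false, 253), (false, 255)]),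
  ([3, 4, 5, 1, 3, 4, 2, 3, 0, 2, 1, 3, 4, 5, 2, 3, 4, 1, 3, 2, 0], [2, 46, 38, 43, 56, 6], [(true, 4), (true, 1), (false, 265), (false, 255), (false, 256), (false, 264)]),
  ([2, 3, 4, 5, 1, 3, 4, 2, 3, 0, 2, 1, 3, 4, 5, 3, 4, 1, 3, 2, 0], [6, 46, 36, 40, 57, 2], [(false, 266), (true, 1), (false, 256), (false, 257), (false, 265), (true, 2)]),
  ([0, 2, 3, 4, 5, 1, 3, 4, 2, 3, 0, 2, 1, 3, 4, 5, 4, 1, 3, 2, 0], [19, 47, 36, 37, 43, 1], [(false, 257), (false, 258), (false, 259), (false, 266), (true, 3), (true, 2)]),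
  ([3, 4, 5, 1, 3, 4, 2, 3, 0, 2, 1, 3, 4, 5, 0, 2, 3, 4, 1, 3, 2, 0], [2, 46, 37, 43, 56, 7], [(true, 4), (true, 1), (false, 267), (false, 260), (true, 2), (false, 261)]),
  ([2, 3, 4, 5, 1, 3, 4, 2, 3, 0, 2, 1, 3, 4, 5, 2, 3, 4, 1, 3, 2, 0], [5, 46, 38, 39, 57, 3], [(false, 268), (true, 1), (false, 261), (true, 3), (false, 262), (false, 267)]),
  ([0, 2, 3, 4, 5, 1, 3, 4, 2, 3, 0, 2, 1, 3, 4, 5, 3, 4, 1, 3, 2, 0], [17, 46, 36, 40, 42, 2], [(false, 262), (true, 1), (true, 4), (false, 263), (false, 268), (true, 2)]),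
  ([2, 3, 4, 5, 1, 3, 4, 2, 3, 0, 2, 1, 3, 4, 5, 0, 2, 3, 4, 1, 3, 2, 0], [5, 46, 37, 39, 57, 4], [(false, 269), (true, 1), (false, 264), (true, 3), (true, 2), (false, 265)]),
  ([0, 2, 3, 4, 5, 1, 3, 4, 2, 3, 0, 2, 1, 3, 4, 5, 2, 3, 4, 1, 3, 2, 0], [16, 46, 38, 39, 42, 3], [(false, 265), (true, 1), (true, 4), (true, 3), (false, 266), (false, 269)]),
  ([0, 2, 3, 4, 5, 1, 3, 4, 2, 3, 0, 2, 1, 3, 4, 5, 0, 2, 3, 4, 1, 3, 2, 0], [16, 46, 37, 39, 42, 4], [(false, 267), (true, 1), (true, 4), (true, 3), (true, 2), (false, 268)])]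

/-- the chain -/
def ch : PcChainData := [(K1, certs1), (K2, certs2), (K3, certs3), (K4, certs4)]

theorem ok : chainOK (wdOf DataE6.fd BsE6.Bs CxE6.mLL) [] ch = true := by decide +kernel

theorem hall : ∀ i < DataE6.fd.rank, i ∈ lastK [] ch := by decide

theorem stable : chainStable piL piiL ch := by decide +kernel

theorem graphW : GraphW (wdOf DataE6.fd BsE6.Bs CxE6.mLL) piL piiL sgL sgiL := by decide +kernel

theorem orbOK : OrbOK (wdOf DataE6.fd BsE6.Bs CxE6.mLL) piL Ws := by decide +kernel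

theorem hpoly : mulZ [1, -2, -1, 4, -1, -2, 1] (chainZF (wdOf DataE6.fd BsE6.Bs CxE6.mLL) piL ch) = [1, 0, -1, 0, 0, 1, -1, -1, 0, 1, 1, -2, -1, 0, 3, 0, -2, -1, 1, 3, -1, -2, -1, 3, 1, -1, -2, 0, 3, 0, -1, -2, 1, 1, 0, -1, -1, 1, 0, 0, -1, 0, 1] := by
  decide +kernel

end Cfsg.Agent.Lib.Helper5.Tw.WfE6
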