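import Cfsg.Agent.Lib.Helper5.Tw.BNPairTw
import Cfsg.Agent.Lib.Helper5.Tw.WfE6
import Cfsg.Agent.Lib.Helper5.Tw.E6
import Mathlib

/-!
# The twisted group `²E₆(q)` as an instance of the general setting (helper5)
-/

set_option autoImplicit false
set_option maxRecDepth 100000
set_option linter.unusedSectionVars false

namespace Cfsg.Agent.Lib.Helper5.Tw

open Cfsg.Lie Cfsg.Agent.Lib.Helper5.ChevPerm Cfsg.Agent.Lib.Helper5.ChevPermB
open Cfsg.Agent.Lib.Helper5.Chev
open scoped Matrix

namespace E6

theorem jokA : JOK chevE6 BsE6.Bs sg [0, 5] [[39], [42, 37], [46], [43, 40], [47], [57, 38], [44], [50, 48], [58, 41], [51], [59, 45], [61, 49], [53], [60], [62, 52], [63], [64, 54], [65], [67, 55], [68, 66], [69], [70], [71]] :=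
  ⟨by decide +kernel,
   ⟨by decide +kernel, by decide +kernel, by decide +kernel, by decide +kernel⟩,
   by decide +kernel, by decide +kernel, by decide +kernel, by decide +kernel⟩

theorem jokB : JOK chevE6 BsE6.Bs sg [2, 4] [[39], [46], [56, 36], [43, 40], [47], [57, 38], [44], [50, 48], [58, 41], [51], [59, 45], [61, 49], [53], [60], [62, 52], [63], [64, 54], [65], [67, 55], [68, 66], [69], [70], [71]] :=
  ⟨by decide +kernel,
   ⟨by decide +kernel, by decide +kernel, by decide +kernel, by decide +kernel⟩,
   by decide +kernel, by decide +kernel, by decide +kernel, by decide +kernel⟩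

theorem jokC : JOK chevE6 BsE6.Bs sg [3] [[42, 37], [46], [56, 36], [43, 40], [47], [57, 38], [44], [50, 48], [58, 41], [51], [59, 45], [61, 49], [53], [60], [62, 52], [63], [64, 54], [65], [67, 55], [68, 66], [69], [70], [71]] :=
  ⟨by decide +kernel,
   ⟨by decide +kernel, by decide +kernel, by decide +kernel, by decide +kernel⟩,
   by decide +kernel, by decide +kernel, by decide +kernel, by decide +kernel⟩

theorem jokE : JOK chevE6 BsE6.Bs sg [1] [[39], [42, 37], [56, 36], [43, 40], [47], [57, 38], [44], [50, 48], [58, 41], [51], [59, 45], [61, 49], [53], [60], [62, 52], [63], [64, 54], [65], [67, 55], [68, 66], [69], [70], [71]] :=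
  ⟨by decide +kernel,
   ⟨by decide +kernel, by decide +kernel, by decide +kernel, by decide +kernel⟩,
   by decide +kernel, by decide +kernel, by decide +kernel, by decide +kernel⟩

section main

variable {K : Type*} [Field K] [Finite K]
variable (φ : K →+* K) (q : ℕ) (hφ : ∀ t, φ t = t ^ q) (hφ2 : ∀ t, φ (φ t) = t)

include hφ in
theorem nW_mem' : ∀ W ∈ Ws, nWordU DataE6.agrees (hadd' (K := K)) W ∈ twistedE6 K q := by
  intro W hW
  simp only [Ws, List.mem_cons, List.not_mem_nil, or_false] at hW
  rcases hW with rfl | rfl | rfl | rfl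
  · refine nW_pair φ q hφ 0 5 56 36 15 35 (by decide) (by decide) (by decide)
      (by decide) (by decide) (by decide) (by decide) (by decide) ?_ ?_ ?_
    · exact commE6 _ _ (by decide) (by decide) (by decide) (by decide) (by decide)
    · exact commE6 _ _ (by decide) (by decide) (by decide) (by decide) (by decide)
    · exact commE6 _ _ (by decide) (by decide) (by decide) (by decide) (by decide)
  · refine nW_pair φ q hφ 2 4 42 37 29 34 (by decide) (by decide) (by decide)
      (by decide) (by decide) (by decide) (by decide) (by decide) ?_ ?_ ?_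
    · exact commE6 _ _ (by decide) (by decide) (by decide) (by decide) (by decide)
    · exact commE6 _ _ (by decide) (by decide) (by decide) (by decide) (by decide)
    · exact commE6 _ _ (by decide) (by decide) (by decide) (by decide) (by decide)
  · exact nW_single φ q hφ 3 39 32 (by decide) (by decide) (by decide) (by decide)
      (by decide)
  · exact nW_single φ q hφ 1 46 25 (by decide) (by decide) (by decide) (by decide)
      (by decide)

include hφ hφ2 in
theorem fix_le : chevE6.posUnipotent K ⊓ fixS cert φ ≤ twistedE6 K q := by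
  have hadd := hadd' (K := K)
  have hle := twisted_le_fix φ q hφ hφ2
  apply fix_le_of_reach hE6 DataE6.agrees hadd BsE6.Bs HsE6.reflBs' cert φ sg hsgi bsA blockA ordA
    _ hle Js Ws rcert reachA
  · intro J hJ
    simp only [Js, List.mem_cons, List.not_mem_nil, or_false] at hJ
    rcases hJ with rfl | rfl | rfl | rfl
    · exact ⟨by decide, fixJ_pair φ q hφ 56 36 _ blockA ordA nodupA (by decide) (by decide)⟩
    · exact ⟨by decide, fixJ_pair φ q hφ 42 37 _ blockB ordB nodupB (by decide) (by decide)⟩
    · exact ⟨by decide, fixJ_single φ q hφ 39 _ blockC ordC nodupC (by decide) (by decide)⟩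
    · exact ⟨by decide, fixJ_single φ q hφ 46 _ blockE ordE nodupE (by decide) (by decide)⟩
  · intro W hW
    refine ⟨?_, nW_mem' φ q hφ W hW⟩
    revert W
    decide

theorem twisted_le_group : twistedE6 K q ≤ chevE6.group K := by
  unfold twistedE6 ChevalleyDatum.genSubgroup
  rw [Subgroup.closure_le]
  rintro g ⟨w, -, hg⟩
  exact (hadd' (K := K)).mem_group_of_word g w hg

theorem phi_bij : Function.Bijective φ := by
  have hinj : Function.Injective φ := φ.injective
  exact ⟨hinj, Finite.surjective_of_injective hinj⟩

/-- the setting of `²E₆(q)` -/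
noncomputable def setup : TwSetup K chevE6 where
  hD := hE6
  T := DataE6.fd
  hA := DataE6.agrees
  Bs := BsE6.Bs
  mLL := CxE6.mLL
  hB := HsE6.reflBs'
  h1 := (cox_of_check _ _ _ CxE6.cox).1
  h2 := (cox_of_check _ _ _ CxE6.cox).2
  gH := _
  baseH := _
  fuel := _
  hr := HsE6.rbH
  hbase := HsE6.base_simple
  pi := pi
  pii := WfE6.piiL
  sg := sg
  sgi := sg
  ep := ep
  c := cert
  G := WfE6.graphW
  Ws := Ws
  O := WfE6.orbOK
  hep := by decide +kernel
  jok := by
    intro J hJ
    simp only [Ws, List.mem_cons, List.not_mem_nil, or_false] at hJ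
    rcases hJ with rfl | rfl | rfl | rfl
    · exact ⟨_, jokA⟩
    · exact ⟨_, jokB⟩
    · exact ⟨_, jokC⟩
    · exact ⟨_, jokE⟩
  Jne := by decide
  winj := by decide +kernel
  φ := φ
  hφ := phi_bij φ
  Q := twistedE6 K q
  hQG := twisted_le_group q
  hQfix := twisted_le_fix φ q hφ hφ2
  hUQ := fix_le φ q hφ hφ2
  hnQ := nW_mem' φ q hφ

end main

end E6

end Cfsg.Agent.Lib.Helper5.Tw
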