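import Cfsg.Agent.Lib.Helper5.Tw.Fixed
import Mathlib

/-!
# Counting the fixed points of the twisting endomorphism in `U` (helper5)
-/

set_option autoImplicit false

namespace Cfsg.Agent.Lib.Helper5.Tw

open Cfsg.Lie Cfsg.Agent.Lib.Helper5.ChevPerm Cfsg.Agent.Lib.Helper5.ChevPermB
open Cfsg.Agent.Lib.Helper5.Chev
open scoped Matrix

section

variable {K : Type*} [Field K] {D : ChevalleyDatum} {pi sg : List ℕ} {ep : List ℤ}

/-- the fixed families of parameters supported on a list of roots -/
def Sol (φ : K →+* K) (ep : List ℤ) (sgi : List ℕ) (L : List ℕ) : Type _ :=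
  {t : ℕ → K // (∀ r, r ∉ L → t r = 0) ∧ ∀ r ∈ L, twP φ ep sgi t r = t r}

theorem card_sol_nil (φ : K →+* K) (sgi : List ℕ) : Nat.card (Sol φ ep sgi []) = 1 := by
  rw [Nat.card_eq_one_iff_unique]
  refine ⟨⟨?_⟩, ⟨⟨fun _ => 0, fun _ _ => rfl, fun r hr => absurd hr List.not_mem_nil⟩⟩⟩
  intro a b
  apply Subtype.ext
  funext r
  rw [a.2.1 r List.not_mem_nil, b.2.1 r List.not_mem_nil]

/-- splitting off a block -/
noncomputable def solSplit (φ : K →+* K) (sgi : List ℕ) (b L : List ℕ)
    (hdisj : ∀ r ∈ b, r ∉ L) (hb : ∀ r ∈ b, sgi.getD r 0 ∈ b) (hL : ∀ r ∈ L, sgi.getD r 0 ∈ L) :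
    Sol φ ep sgi (b ++ L) ≃ Sol φ ep sgi b × Sol φ ep sgi L := by
  classical
  exact
  { toFun := fun t => (⟨fun r => if r ∈ b then t.1 r else 0, fun r hr => if_neg hr, fun r hr => by
        have h := t.2.2 r (List.mem_append_left _ hr)
        unfold twP at h ⊢
        simp only [if_pos hr, if_pos (hb r hr)]
        exact h⟩,
      ⟨fun r => if r ∈ L then t.1 r else 0, fun r hr => if_neg hr, fun r hr => by
        have h := t.2.2 r (List.mem_append_right _ hr)
        unfold twP at h ⊢
        simp only [if_pos hr, if_pos (hL r hr)]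
        exact h⟩)
    invFun := fun p => ⟨fun r => if r ∈ b then p.1.1 r else p.2.1 r, fun r hr => by
        rw [List.mem_append, not_or] at hr
        simp only [if_neg hr.1]
        exact p.2.2.1 r hr.2, fun r hr => by
        unfold twP
        rcases List.mem_append.1 hr with h | h
        · simp only [if_pos h, if_pos (hb r h)]
          exact p.1.2.2 r h
        · have h1 : r ∉ b := fun h' => hdisj r h' h
          have h2 : sgi.getD r 0 ∉ b := fun h' => hdisj _ h' (hL r h)
          simp only [if_neg h1, if_neg h2]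
          exact p.2.2.2 r h⟩
    left_inv := fun t => by
      apply Subtype.ext
      funext r
      by_cases h : r ∈ b
      · simp only [if_pos h]
      · simp only [if_neg h]
        by_cases h' : r ∈ L
        · simp only [if_pos h']
        · simp only [if_neg h']
          exact (t.2.1 r (by rw [List.mem_append, not_or]; exact ⟨h, h'⟩)).symm
    right_inv := fun p => by
      apply Prod.ext
      · apply Subtype.ext
        funext r
        by_cases h : r ∈ b
        · simp only [if_pos h]
        · simp only [if_neg h]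
          exact (p.1.2.1 r h).symm
      · apply Subtype.ext
        funext r
        by_cases h' : r ∈ L
        · have h1 : r ∉ b := fun h => hdisj r h h'
          simp only [if_pos h', if_neg h1]
        · simp only [if_neg h']
          exact (p.2.2.1 r h').symm }

theorem phi_epF (φ : K →+* K) (ep : List ℤ) (r : ℕ) : φ (epF K ep r) = epF K ep r := by
  unfold epF
  rw [map_intCast]

/-- a block of one root -/
noncomputable def solOne (φ : K →+* K) (sgi : List ℕ) (r : ℕ) (h1 : sgi.getD r 0 = r)
    (he : epF K ep r = 1) : Sol φ ep sgi [r] ≃ {a : K // φ a = a} :=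
  { toFun := fun t => ⟨t.1 r, by
      have h := t.2.2 r List.mem_cons_self
      unfold twP at h
      rw [h1, he, one_mul] at h
      exact h⟩
    invFun := fun a => ⟨fun x => if x = r then a.1 else 0, fun x hx => by
      rw [List.mem_singleton] at hx
      simp only [if_neg hx], fun x hx => by
      rw [List.mem_singleton] at hx
      subst hx
      unfold twP
      simp only [h1, if_true, he, one_mul]
      exact a.2⟩
    left_inv := fun t => by
      apply Subtype.ext
      funext x
      by_cases hx : x = r
      · subst hx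
        simp only [if_true]
      · simp only [if_neg hx]
        exact (t.2.1 x (by rw [List.mem_singleton]; exact hx)).symm
    right_inv := fun a => by
      apply Subtype.ext
      simp }

/-- a block of two roots -/
noncomputable def solTwo (φ : K →+* K) (sgi : List ℕ) (r s : ℕ) (hrs : r ≠ s)
    (h1 : sgi.getD r 0 = s) (h2 : sgi.getD s 0 = r)
    (he : epF K ep r * epF K ep s = 1) (hφ : ∀ a, φ (φ a) = a) : Sol φ ep sgi [r, s] ≃ K :=
  { toFun := fun t => t.1 r
    invFun := fun a => ⟨fun x => if x = r then a else if x = s then epF K ep r * φ a else 0,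
      fun x hx => by
        simp only [List.mem_cons, List.not_mem_nil, or_false, not_or] at hx
        simp only [if_neg hx.1, if_neg hx.2], fun x hx => by
        simp only [List.mem_cons, List.not_mem_nil, or_false] at hx
        unfold twP
        rcases hx with rfl | rfl
        · simp only [h1, if_neg hrs.symm, if_true, map_mul, phi_epF, hφ]
          rw [← mul_assoc, mul_comm (epF K ep s), he, one_mul]
        · simp only [h2, if_true, if_neg hrs.symm]⟩
    left_inv := fun t => by
      apply Subtype.ext
      funext x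
      by_cases hx : x = r
      · subst hx
        simp only [if_true]
      · simp only [if_neg hx]
        by_cases hx' : x = s
        · simp only [if_pos hx']
          have h := t.2.2 s (by simp)
          unfold twP at h
          rw [h2] at h
          rw [hx', h]
        · simp only [if_neg hx']
          exact (t.2.1 x (by simp [hx, hx'])).symm
    right_inv := fun a => by simp }

/-- a block of three roots -/
noncomputable def solThree (φ : K →+* K) (sgi : List ℕ) (r s u : ℕ) (hrs : r ≠ s) (hru : r ≠ u)
    (hsu : s ≠ u) (h1 : sgi.getD s 0 = r) (h2 : sgi.getD u 0 = s) (h3 : sgi.getD r 0 = u)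
    (he : epF K ep r * epF K ep s * epF K ep u = 1) (hφ : ∀ a, φ (φ (φ a)) = a) :
    Sol φ ep sgi [r, s, u] ≃ K :=
  { toFun := fun t => t.1 r
    invFun := fun a => ⟨fun x => if x = r then a else if x = s then epF K ep r * φ a
        else if x = u then epF K ep s * φ (epF K ep r * φ a) else 0,
      fun x hx => by
        simp only [List.mem_cons, List.not_mem_nil, or_false, not_or] at hx
        simp only [if_neg hx.1, if_neg hx.2.1, if_neg hx.2.2], fun x hx => by
        simp only [List.mem_cons, List.not_mem_nil, or_false] at hx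
        unfold twP
        rcases hx with rfl | rfl | rfl
        · simp only [h3, if_neg hru.symm, if_neg hsu.symm, if_true, map_mul, phi_epF, hφ]
          have he' : epF K ep u * epF K ep s * epF K ep x = 1 := by
            rw [← he]; ring
          rw [← mul_assoc, ← mul_assoc, he', one_mul]
        · simp only [h1, if_true, if_neg hrs.symm]
        · simp only [h2, if_true, if_neg hrs.symm, if_neg hru.symm, if_neg hsu.symm]⟩
    left_inv := fun t => by
      apply Subtype.ext
      funext x
      have hs := t.2.2 s (by simp)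
      have hu := t.2.2 u (by simp)
      unfold twP at hs hu
      rw [h1] at hs
      rw [h2] at hu
      by_cases hx : x = r
      · subst hx
        simp only [if_true]
      · simp only [if_neg hx]
        by_cases hx' : x = s
        · simp only [if_pos hx']
          rw [hx', hs]
        · simp only [if_neg hx']
          by_cases hx'' : x = u
          · simp only [if_pos hx'']
            rw [hx'', hs, hu]
          · simp only [if_neg hx'']
            exact (t.2.1 x (by simp [hx, hx', hx''])).symm
    right_inv := fun a => by simp }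


/-- the shape of a block, for the count -/
def shapeOK (ep : List ℤ) (sgi : List ℕ) (m : ℕ) : List ℕ → Prop
  | [r] => sgi.getD r 0 = r ∧ ep.getD r 1 = 1
  | [r, s] => m = 2 ∧ r ≠ s ∧ sgi.getD r 0 = s ∧ sgi.getD s 0 = r ∧ ep.getD r 1 * ep.getD s 1 = 1
  | [r, s, u] => m = 3 ∧ r ≠ s ∧ r ≠ u ∧ s ≠ u ∧ sgi.getD s 0 = r ∧ sgi.getD u 0 = s ∧
      sgi.getD r 0 = u ∧ ep.getD r 1 * ep.getD s 1 * ep.getD u 1 = 1
  | _ => False

instance (ep : List ℤ) (sgi : List ℕ) (m : ℕ) : (b : List ℕ) → Decidable (shapeOK ep sgi m b)
  | [] => isFalse (fun h => h)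
  | [_] => by unfold shapeOK; infer_instance
  | [_, _] => by unfold shapeOK; infer_instance
  | [_, _, _] => by unfold shapeOK; infer_instance
  | _ :: _ :: _ :: _ :: _ => isFalse (fun h => h)

theorem shapeOK.sgi_mem {ep : List ℤ} {sgi : List ℕ} {m : ℕ} {b : List ℕ} (h : shapeOK ep sgi m b) :
    ∀ r ∈ b, sgi.getD r 0 ∈ b := by
  match b, h with
  | [r], h =>
    intro x hx
    rw [List.mem_singleton] at hx
    subst hx
    rw [h.1]; exact List.mem_cons_self
  | [r, s], h =>
    intro x hx
    simp only [List.mem_cons, List.not_mem_nil, or_false] at hx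
    rcases hx with rfl | rfl
    · rw [h.2.2.1]; simp
    · rw [h.2.2.2.1]; simp
  | [r, s, u], h =>
    intro x hx
    simp only [List.mem_cons, List.not_mem_nil, or_false] at hx
    rcases hx with rfl | rfl | rfl
    · rw [h.2.2.2.2.2.2.1]; simp
    · rw [h.2.2.2.2.1]; simp
    · rw [h.2.2.2.2.2.1]; simp

/-- the number of fixed families on a block -/
theorem card_sol_block (φ : K →+* K) (sgi : List ℕ) (m q : ℕ) (hm : ∀ a : K, φ^[m] a = a)
    (hq : Nat.card {a : K // φ a = a} = q) (b : List ℕ) (h : shapeOK ep sgi m b) :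
    Nat.card (Sol φ ep sgi b) = if b.length = 1 then q else Nat.card K := by
  match b, h with
  | [r], h =>
    have he : epF K ep r = 1 := by unfold epF; rw [h.2]; simp
    rw [Nat.card_congr (solOne φ sgi r h.1 he), hq]
    simp
  | [r, s], h =>
    obtain ⟨rfl, h1, h2, h3, h4⟩ := h
    have he : epF K ep r * epF K ep s = 1 := by
      unfold epF
      rw [← Int.cast_mul, h4, Int.cast_one]
    rw [Nat.card_congr (solTwo φ sgi r s h1 h2 h3 he (fun a => hm a))]
    simp
  | [r, s, u], h =>
    obtain ⟨rfl, h1, h2, h3, h4, h5, h6, h7⟩ := h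
    have he : epF K ep r * epF K ep s * epF K ep u = 1 := by
      unfold epF
      rw [← Int.cast_mul, ← Int.cast_mul, h7, Int.cast_one]
    rw [Nat.card_congr (solThree φ sgi r s u h1 h2 h3 h4 h5 h6 he (fun a => hm a))]
    simp

/-- the number of fixed families on a list of blocks -/
theorem card_sol_blocks (φ : K →+* K) (sgi : List ℕ) (m q : ℕ) (hm : ∀ a : K, φ^[m] a = a)
    (hq : Nat.card {a : K // φ a = a} = q) :
    ∀ bs : List (List ℕ), (∀ b ∈ bs, shapeOK ep sgi m b) → bs.flatten.Nodup →
      Nat.card (Sol φ ep sgi bs.flatten)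
        = (bs.map fun b => if b.length = 1 then q else Nat.card K).prod
  | [], _, _ => by
    rw [List.flatten_nil, card_sol_nil]
    rfl
  | b :: bs, hs, hnd => by
    rw [List.flatten_cons] at hnd ⊢
    rw [List.nodup_append] at hnd
    have hdisj : ∀ r ∈ b, r ∉ bs.flatten := fun r hr hr' => hnd.2.2 r hr r hr' rfl
    have hb : ∀ r ∈ b, sgi.getD r 0 ∈ b := (hs b List.mem_cons_self).sgi_mem
    have hL : ∀ r ∈ bs.flatten, sgi.getD r 0 ∈ bs.flatten := by
      intro r hr
      rw [List.mem_flatten] at hr ⊢
      obtain ⟨b', hb', hr'⟩ := hr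
      exact ⟨b', hb', (hs b' (List.mem_cons_of_mem _ hb')).sgi_mem r hr'⟩
    rw [Nat.card_congr (solSplit φ sgi b bs.flatten hdisj hb hL), Nat.card_prod,
      card_sol_block φ sgi m q hm hq b (hs b List.mem_cons_self),
      card_sol_blocks φ sgi m q hm hq bs (fun b' hb' => hs b' (List.mem_cons_of_mem _ hb')) hnd.2.1,
      List.map_cons, List.prod_cons]

/-- the fixed points in `U` are counted by the fixed families of parameters -/
theorem card_fix_eq [Finite K] (hD : D ∈ [chevG2, chevB2, chevD4, chevF4, chevE6, chevE7, chevE8])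
    (c : GraphCert D pi sg ep) (φ : K →+* K) (hadd : AllAdd K D) (sgi : List ℕ)
    (hsgi : ∀ r < D.nroots, sgi.getD (sg.getD r 0) 0 = r) (bs : List (List ℕ))
    (hb : ∀ b ∈ bs, BlockOK D sg b) (hord : OrdOK D bs.flatten) :
    Nat.card ↥(D.posUnipotent K ⊓ fixS c φ) = Nat.card (Sol φ ep sgi bs.flatten) := by
  classical
  symm
  have hU := UL_eq_posUnipotent (K := K) hord
  apply Nat.card_congr
  refine Equiv.ofBijective (fun t : Sol φ ep sgi bs.flatten =>
    (⟨hadd.wordU (wordL bs.flatten t.1), ?_, ?_⟩ : ↥(D.posUnipotent K ⊓ fixS c φ))) ⟨?_, ?_⟩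
  · rw [← hU]
    exact wordU_wordL_mem hadd _ _ (fun r hr => hr) _
  · exact (fixed_iff hD c φ hadd sgi hsgi bs hb hord t.1).2 t.2.2
  · intro t t' h
    have h1 : hadd.wordU (wordL bs.flatten t.1) = hadd.wordU (wordL bs.flatten t'.1) :=
      congrArg (fun g : ↥(D.posUnipotent K ⊓ fixS c φ) => (g : GL D.Idx K)) h
    have h2 := wordL_injective hD hadd _ hord _ _ h1
    apply Subtype.ext
    funext r
    by_cases hr : r ∈ bs.flatten
    · exact h2 r hr
    · rw [t.2.1 r hr, t'.2.1 r hr]
  · intro g
    have hg : (g : GL D.Idx K) ∈ UL K D bs.flatten := by rw [hU]; exact g.2.1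
    obtain ⟨t0, ht0⟩ := exists_wordL hD hadd _ hord.good _ hg
    have hcongr : wordL bs.flatten (fun r => if r ∈ bs.flatten then t0 r else 0)
        = wordL bs.flatten t0 := wordL_congr _ _ _ (fun r hr => if_pos hr)
    have hfix : hadd.wordU (wordL bs.flatten (fun r => if r ∈ bs.flatten then t0 r else 0))
        ∈ fixS c φ := by
      rw [hcongr, ← ht0]
      exact g.2.2
    refine ⟨⟨fun r => if r ∈ bs.flatten then t0 r else 0, fun r hr => if_neg hr,
      (fixed_iff hD c φ hadd sgi hsgi bs hb hord _).1 hfix⟩, ?_⟩
    apply Subtype.ext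
    show hadd.wordU (wordL bs.flatten (fun r => if r ∈ bs.flatten then t0 r else 0)) = g
    rw [hcongr, ← ht0]

end

end Cfsg.Agent.Lib.Helper5.Tw
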