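import Cfsg.Agent.Lib.Helper5.Tw.BNPairTw
import Mathlib

/-!
# The order of a twisted group: the double cosets (helper5)
-/

set_option autoImplicit false
set_option linter.unusedSectionVars false

namespace Cfsg.Agent.Lib.Helper5.Tw

open Cfsg.Lie Cfsg.Agent.Lib.Helper5.ChevPerm Cfsg.Agent.Lib.Helper5.ChevPermB
open Cfsg.Agent.Lib.Helper5.Chev
open scoped Matrix

theorem wW'_app (Bs L1 L2 : List ℕ) (s : ℕ) :
    wW' Bs (L1 ++ L2) s = wW' Bs L2 (wW' Bs L1 s) := by
  induction L1 generalizing s with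
  | nil => rfl
  | cons i L ih => exact ih _

section general

variable {G : Type*} [Group G] (B : Subgroup G)

theorem card_dc_inv (g : G) : Nat.card (dc B g⁻¹) = Nat.card (dc B g) := by
  apply Nat.card_congr
  refine ⟨fun x => ⟨(x : G)⁻¹, ?_⟩, fun x => ⟨(x : G)⁻¹, inv_mem_dc B x.2⟩, ?_, ?_⟩
  · have := inv_mem_dc B x.2
    rwa [inv_inv] at this
  · intro x
    apply Subtype.ext
    exact inv_inv _
  · intro x
    apply Subtype.ext
    exact inv_inv _

/-- the left-handed version of the multiplicativity of the orders of the double cosets -/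
theorem card_dc_mul_left (n s : G) (hsinv : s⁻¹ ∈ dc B s)
    (hss : ∀ x ∈ dc B s, ∀ y ∈ dc B s, x * y ∈ B ∨ x * y ∈ dc B s)
    (hsub : ∀ y ∈ dc B s, ∀ x ∈ dc B n, y * x ∈ dc B (s * n)) (hne : dc B (s * n) ≠ dc B n) :
    Nat.card (dc B (s * n)) * Nat.card B = Nat.card (dc B s) * Nat.card (dc B n) := by
  have hs : dc B s⁻¹ = dc B s := dc_eq_of_mem B hsinv
  have key := card_dc_mul B n⁻¹ s⁻¹ ?_ ?_ ?_ ?_
  · rw [← mul_inv_rev, card_dc_inv, card_dc_inv, card_dc_inv] at key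
    rw [key, mul_comm]
  · rw [inv_inv, hs]
    exact self_mem_dc B s
  · rw [hs]
    exact hss
  · intro x hx y hy
    rw [hs] at hy
    have hx' := inv_mem_dc B hx
    rw [inv_inv] at hx'
    have hy' := inv_mem_dc B hy
    rw [hs] at hy'
    have := inv_mem_dc B (hsub _ hy' _ hx')
    have e1 : (y⁻¹ * x⁻¹)⁻¹ = x * y := by group
    have e2 : (s * n)⁻¹ = n⁻¹ * s⁻¹ := by group
    rwa [e1, e2] at this
  · intro heq
    apply hne
    have h1 : n⁻¹ * s⁻¹ ∈ dc B n⁻¹ := by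
      rw [← heq]
      exact self_mem_dc B _
    have h2 := inv_mem_dc B h1
    rw [mul_inv_rev, inv_inv, inv_inv] at h2
    exact dc_eq_of_mem B h2

end general

namespace TwSetup

variable {K : Type*} [Field K] [Finite K] {D : ChevalleyDatum} (S : TwSetup K D)

include S

theorem nJ_inv_mem_dc {J : List ℕ} (hJ : J ∈ S.Ws) : (S.nW J)⁻¹ ∈ dc S.B1 (S.nW J) := by
  have : (S.nW J)⁻¹ = S.nW J * (S.nW J * S.nW J)⁻¹ := by group
  rw [this]
  exact mul_B_mem_dc _ (Subgroup.inv_mem _ (S.H1_le_B1 (S.nJ_sq hJ))) (self_mem_dc _ _)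

theorem nJ_dc_mul_dc {J : List ℕ} (hJ : J ∈ S.Ws) :
    ∀ x ∈ dc S.B1 (S.nW J), ∀ y ∈ dc S.B1 (S.nW J),
      x * y ∈ S.B1 ∨ x * y ∈ dc S.B1 (S.nW J) := by
  intro x hx y hy
  rw [mem_dc] at hx hy
  obtain ⟨b1, hb1, b2, hb2, rfl⟩ := hx
  obtain ⟨b3, hb3, b4, hb4, rfl⟩ := hy
  have e : b1 * S.nW J * b2 * (b3 * S.nW J * b4) = b1 * (S.nW J * (b2 * b3) * S.nW J) * b4 := by
    group
  rw [e]
  rcases S.dc_union hJ (S.nW J) (S.nJ_mem_N1 hJ) (b2 * b3) (Subgroup.mul_mem _ hb2 hb3) with h | h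
  · left
    rw [dc_of_mem _ (S.H1_le_B1 (S.nJ_sq hJ))] at h
    exact Subgroup.mul_mem _ (Subgroup.mul_mem _ hb1 h) hb4
  · right
    exact mul_B_mem_dc _ hb4 (B_mul_mem_dc _ hb1 h)

/-- the conjugate by the inverse of `n_J` of a non-trivial element of the subgroup of an orbit
is not in `B` -/
theorem nJ_conj_not_mem' {J : List ℕ} (hJ : J ∈ S.Ws) {rest : List (List ℕ)}
    (hok : JOK D S.Bs S.sg J rest) (x : GL D.Idx K) (hx : x ∈ S.XJ J) (hx1 : x ≠ 1) :
    (S.nW J)⁻¹ * x * S.nW J ∉ D.borelSubgroup K := by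
  intro hB
  apply S.nJ_conj_not_mem hJ hok x hx hx1
  have hsq := (S.H1_le_B1 (S.nJ_sq hJ)).1
  have : S.nW J * x * (S.nW J)⁻¹
      = (S.nW J * S.nW J) * ((S.nW J)⁻¹ * x * S.nW J) * (S.nW J * S.nW J)⁻¹ := by group
  rw [this]
  exact Subgroup.mul_mem _ (Subgroup.mul_mem _ hsq hB) (Subgroup.inv_mem _ hsq)

/-- the double coset of `n_J` -/
theorem card_dc_nJ {J : List ℕ} (hJ : J ∈ S.Ws) {rest : List (List ℕ)}
    (hok : JOK D S.Bs S.sg J rest) :
    Nat.card (dc S.B1 (S.nW J)) = Nat.card (S.XJ J) * Nat.card S.B1 := by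
  rw [← Nat.card_prod]
  symm
  apply Nat.card_congr
  have hXB : ∀ x ∈ S.XJ J, x ∈ S.B1 := fun x hx => S.U1_le_B1 (S.XJ_le_U1 hok hx)
  refine Equiv.ofBijective
    (fun p : ↥(S.XJ J) × ↥S.B1 =>
      (⟨(p.1 : GL D.Idx K) * S.nW J * (p.2 : GL D.Idx K), by
        rw [mem_dc]
        exact ⟨_, hXB _ p.1.2, _, p.2.2, rfl⟩⟩ : ↥(dc S.B1 (S.nW J)))) ⟨?_, ?_⟩
  · rintro ⟨⟨x, hx⟩, ⟨b, hb⟩⟩ ⟨⟨x', hx'⟩, ⟨b', hb'⟩⟩ h
    have h1 : x * S.nW J * b = x' * S.nW J * b' := congrArg Subtype.val h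
    have e1 : (S.nW J)⁻¹ * (x'⁻¹ * x) * S.nW J = b' * b⁻¹ := by
      calc (S.nW J)⁻¹ * (x'⁻¹ * x) * S.nW J
          = (S.nW J)⁻¹ * x'⁻¹ * (x * S.nW J * b) * b⁻¹ := by group
        _ = _ := by rw [h1]; group
    have hz : x'⁻¹ * x = 1 := by
      by_contra hne
      apply S.nJ_conj_not_mem' hJ hok _ (Subgroup.mul_mem _ (Subgroup.inv_mem _ hx') hx) hne
      rw [e1]
      exact (Subgroup.mul_mem _ hb' (Subgroup.inv_mem _ hb)).1
    have hxx : x = x' := by
      have : x = x' * (x'⁻¹ * x) := by group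
      rw [this, hz, mul_one]
    subst hxx
    have hbb : b = b' := mul_left_cancel h1
    subst hbb
    rfl
  · rintro ⟨z, hz⟩
    rw [mem_dc] at hz
    obtain ⟨b1, hb1, b2, hb2, rfl⟩ := hz
    obtain ⟨u, hu, h0, hh0, rfl⟩ := S.borel1_decomp b1 hb1
    obtain ⟨x, hx, y, hy, rfl⟩ := S.U1_split hok u hu
    have hy' := (S.nJ_conj_YJ hJ hok y hy).2
    have hh' := (S.N1_conj_H1 _ (S.nJ_mem_N1 hJ) h0 hh0).2
    refine ⟨(⟨x, hx⟩, ⟨(S.nW J)⁻¹ * y * S.nW J * ((S.nW J)⁻¹ * h0 * S.nW J) * b2,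
      Subgroup.mul_mem _ (Subgroup.mul_mem _ (S.U1_le_B1 (S.YJ_le_U1 hok hy'))
        (S.H1_le_B1 hh')) hb2⟩), ?_⟩
    apply Subtype.ext
    show x * S.nW J * ((S.nW J)⁻¹ * y * S.nW J * ((S.nW J)⁻¹ * h0 * S.nW J) * b2)
      = x * y * h0 * S.nW J * b2
    group

/-- `n_J` is not in `H` -/
theorem nJ_not_mem_diag {J : List ℕ} (hJ : J ∈ S.Ws) : S.nW J ∉ D.diagonalSubgroup K := by
  intro hH
  obtain ⟨rest, hok⟩ := S.jok J hJ
  obtain ⟨x, hx, hx1⟩ := S.exists_XJ_ne_one hJ hok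
  apply S.nJ_conj_not_mem hJ hok x hx hx1
  have hxU : x ∈ D.posUnipotent K := (S.XJ_le_U1 hok hx).1
  exact S.hUB (conj_mem_of_normalizer _ _ _ (S.hHU hH) hxU).1

/-- the double coset of a fixed element `n = n_L h` has `|B¹| q ^ l(w)` elements -/
theorem card_dc_tw (q : ℕ) (hX : ∀ J ∈ S.Ws, Nat.card (S.XJ J) = q ^ J.length) :
    ∀ (k : ℕ) (L : List ℕ), (∀ i ∈ L, i < D.rank) → Fixw S.W S.pi L → S.W.inv L = k →
      ∀ h ∈ D.diagonalSubgroup K, S.nW L * h ∈ S.Q →
        Nat.card (dc S.B1 (S.nW L * h)) = Nat.card S.B1 * q ^ k := by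
  have hV := S.hV
  have hR := S.hR
  have hm := S.hm
  have hBpos : 0 < Nat.card S.B1 := Nat.card_pos
  intro k
  induction k using Nat.strong_induction_on with
  | _ k ih =>
    intro L hL hf hk h hh hnQ
    have hLw : S.W.IsWord L := (S.isWord_iff L).2 hL
    by_cases hnd : ∀ i < D.rank, D.nroots / 2 ≤ wW' S.Bs L (D.simple i)
    · -- no left descent
      have hrev0 : S.W.inv L.reverse = 0 := by
        apply hV.inv_eq_zero_of_no_desc hR hm hLw.reverse
        intro i hi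
        have hi' : i < D.rank := S.hl ▸ hi
        show S.T.nroots / 2 ≤ (wdOf S.T S.Bs S.mLL).act L.reverse (S.T.simple i)
        rw [act_eq_wW, S.hn, ← FD.simple_eq' S.hA i hi', ← wW'_eq_reverse]
        exact hnd i hi'
      have h0 : S.W.inv L = 0 := by rw [← hV.inv_reverse hLw]; exact hrev0
      -- no right descent
      have hnd' : ∀ i < D.rank, D.nroots / 2 ≤ wW S.Bs L (D.simple i) := by
        intro i hi
        by_contra hcon
        push Not at hcon
        have hi' : i < S.T.rank := by rw [S.hl]; exact hi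
        have hd' : S.W.act L (S.W.p i) < S.W.h := by
          show (wdOf S.T S.Bs S.mLL).act L (S.T.simple i) < S.T.nroots / 2
          rw [act_eq_wW, S.hn, ← FD.simple_eq' S.hA i hi]
          exact hcon
        have := hV.inv_desc_eq hLw hi' hd'
        omega
      have hν := nWordU_mem_diagonal S.hD S.hA S.hadd S.Bs S.mLL S.hB S.h1 S.h2 L hL hnd'
      have hnB : S.nW L * h ∈ S.B1 := ⟨S.hHB (Subgroup.mul_mem _ hν hh), hnQ⟩
      rw [← hk, h0, pow_zero, mul_one, dc_of_mem _ hnB]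
      rfl
    · -- a left descent
      push Not at hnd
      obtain ⟨i, hi, hdesc⟩ := hnd
      have hi' : i < S.W.l := by show i < S.T.rank; rw [S.hl]; exact hi
      obtain ⟨J, hJ, hiJ⟩ := S.O.cover i hi'
      obtain ⟨rest, hok⟩ := S.jok J hJ
      have hJw := S.hJw hJ
      have hJW : S.W.IsWord J := S.O.word J hJ
      have hall : ∀ r ∈ J.map D.simple, wW' S.Bs L r < D.nroots / 2 := by
        rcases S.orbit_dichotomy hJ L hL hf with hasc | hd
        · exfalso
          have := hasc (D.simple i) (List.mem_map.2 ⟨i, hiJ, rfl⟩)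
          omega
        · exact hd
      have hall' : ∀ j ∈ J, S.W.act L.reverse (S.W.p j) < S.W.h := by
        intro j hj
        show (wdOf S.T S.Bs S.mLL).act L.reverse (S.T.simple j) < S.T.nroots / 2
        rw [act_eq_wW, S.hn, ← FD.simple_eq' S.hA j (hJw j hj), ← wW'_eq_reverse]
        exact hall _ (List.mem_map.2 ⟨j, hj, rfl⟩)
      have hlen := inv_append_desc hV hLw.reverse J (S.O.word J hJ) (S.O.nodup J hJ)
        (S.O.orth J hJ) hall'
      have hrevJ := hV.act_eq_of_simple hR hm hJW.reverse hJW (S.O.rev J hJ)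
      have hinv1 : S.W.inv (L.reverse ++ J) = S.W.inv (J ++ L) := by
        rw [← hV.inv_reverse (hLw.reverse.append S.W hJW), List.reverse_append,
          List.reverse_reverse]
        apply WD.inv_congr
        intro r hr
        rw [S.W.act_append, S.W.act_append]
        exact hrevJ _ (hV.act_lt hLw hr)
      have hinvL : S.W.inv L.reverse = S.W.inv L := hV.inv_reverse hLw
      have hL' : ∀ j ∈ J ++ L, j < D.rank := by
        intro j hj
        rw [List.mem_append] at hj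
        rcases hj with hj | hj
        · exact hJw j hj
        · exact hL j hj
      have hfJ : Fixw S.W S.pi J := by
        intro r hr
        exact hV.act_eq_of_simple hR hm (mapW_isWord S.G hJW) hJW (S.O.fix J hJ) r hr
      have hf' : Fixw S.W S.pi (J ++ L) := hfJ.append S.G hV hLw hf
      have hasc : ∀ r ∈ J.map D.simple, D.nroots / 2 ≤ wW' S.Bs (J ++ L) r := by
        intro r hr
        have hrlt := S.rJ_lt hok r hr
        rw [wW'_app, (hok.negJ r hr).2, wW'_neg S.hA S.Bs S.hB L hL r hrlt]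
        exact neg_ge_half_all D S.hD _ (wW'_lt S.hA S.Bs S.hB L hL r hrlt) (hall r hr)
      set n' := S.nW (J ++ L) * h with hn'
      have hJQ : S.nW J ∈ S.Q := S.hnQ J hJ
      have hn'Q : n' ∈ S.Q := by
        have : n' = S.nW J * (S.nW L * h) := by rw [hn', S.nW_append]; group
        rw [this]
        exact Subgroup.mul_mem _ hJQ hnQ
      have hzB : (S.nW J * S.nW J)⁻¹ ∈ S.B1 := Subgroup.inv_mem _ (S.H1_le_B1 (S.nJ_sq hJ))
      have en : S.nW L * h = S.nW J * (S.nW J * S.nW J)⁻¹ * n' := by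
        rw [hn', S.nW_append]
        group
      have hmem : S.nW L * h ∈ dc S.B1 (S.nW J * n') := by
        rw [en]
        exact S.dc_ascent hJ hok (J ++ L) hL' h hh hn'Q hasc _ hzB
      have hdceq := dc_eq_of_mem _ hmem
      have hsub : ∀ y ∈ dc S.B1 (S.nW J), ∀ x ∈ dc S.B1 n', y * x ∈ dc S.B1 (S.nW J * n') := by
        intro y hy x hx
        rw [mem_dc] at hy hx
        obtain ⟨b1, hb1, b2, hb2, rfl⟩ := hy
        obtain ⟨b3, hb3, b4, hb4, rfl⟩ := hx
        have e : b1 * S.nW J * b2 * (b3 * n' * b4) = b1 * (S.nW J * (b2 * b3) * n') * b4 := by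
          group
        rw [e]
        exact mul_B_mem_dc _ hb4 (B_mul_mem_dc _ hb1
          (S.dc_ascent hJ hok (J ++ L) hL' h hh hn'Q hasc _ (Subgroup.mul_mem _ hb2 hb3)))
      have hn'N : n' ∈ D.monomialSubgroup K :=
        Subgroup.mul_mem _ (S.nW_mem _) (S.hHN hh)
      have hne : dc S.B1 (S.nW J * n') ≠ dc S.B1 n' := by
        intro heq
        have h1 : S.nW J * n' ∈ dc S.B1 n' := by
          rw [← heq]
          exact self_mem_dc _ _
        have h2 : S.nW J * n' ∈ dc (D.borelSubgroup K) n' := by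
          rw [mem_dc] at h1 ⊢
          obtain ⟨b1, hb1, b2, hb2, e⟩ := h1
          exact ⟨b1, hb1.1, b2, hb2.1, e⟩
        have h3 := monomial_dc D S.hD n' (S.nW J * n') hn'N
          (Subgroup.mul_mem _ (S.nW_mem J) hn'N) h2
        apply S.nJ_not_mem_diag hJ
        have h4 := (conj_mem_of_normalizer _ _ _ (S.hNH hn'N) h3).1
        have : S.nW J = n' * (n'⁻¹ * (S.nW J * n')) * n'⁻¹ := by group
        rw [this]
        exact h4
      have key := card_dc_mul_left S.B1 n' (S.nW J) (S.nJ_inv_mem_dc hJ) (S.nJ_dc_mul_dc hJ)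
        hsub hne
      have hlt : S.W.inv (J ++ L) < k := by
        have : 0 < J.length := List.length_pos_of_mem hiJ
        omega
      rw [S.card_dc_nJ hJ hok, hX J hJ, ih _ hlt (J ++ L) hL' hf' rfl h hh hn'Q] at key
      rw [hdceq]
      apply Nat.eq_of_mul_eq_mul_right hBpos
      rw [key]
      have e3 : k = S.W.inv (J ++ L) + J.length := by omega
      rw [e3, pow_add]
      ring

/-- `B ∩ Q` is the semidirect product of the fixed points of `U` and `H ∩ Q` -/
theorem card_B1 : Nat.card S.B1 = Nat.card S.U1 * Nat.card S.H1 := by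
  obtain ⟨-, hbot⟩ := borel_semidirect_all (F := K) D S.hD
  rw [← Nat.card_prod]
  symm
  apply Nat.card_congr
  refine Equiv.ofBijective
    (fun p : ↥S.U1 × ↥S.H1 =>
      (⟨(p.1 : GL D.Idx K) * p.2, Subgroup.mul_mem _ (S.U1_le_B1 p.1.2) (S.H1_le_B1 p.2.2)⟩ :
        ↥S.B1)) ⟨?_, ?_⟩
  · rintro ⟨⟨u, hu⟩, ⟨h, hh⟩⟩ ⟨⟨u', hu'⟩, ⟨h', hh'⟩⟩ e
    have e1 : u * h = u' * h' := congrArg Subtype.val e
    have e2 : u'⁻¹ * u = h' * h⁻¹ := by
      calc u'⁻¹ * u = u'⁻¹ * (u * h) * h⁻¹ := by group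
        _ = _ := by rw [e1]; group
    have hmem : u'⁻¹ * u ∈ D.posUnipotent K ⊓ D.diagonalSubgroup K := by
      refine ⟨Subgroup.mul_mem _ (Subgroup.inv_mem _ hu'.1) hu.1, ?_⟩
      rw [e2]
      exact Subgroup.mul_mem _ hh'.1 (Subgroup.inv_mem _ hh.1)
    rw [hbot, Subgroup.mem_bot] at hmem
    have huu : u = u' := by
      have : u = u' * (u'⁻¹ * u) := by group
      rw [this, hmem, mul_one]
    subst huu
    have hhh : h = h' := mul_left_cancel e1
    subst hhh
    rfl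
  · rintro ⟨b, hb⟩
    obtain ⟨u, hu, h, hh, rfl⟩ := S.borel1_decomp b hb
    exact ⟨(⟨u, hu⟩, ⟨h, hh⟩), rfl⟩

open Classical in
/-- the order of the twisted group is `|B¹| ∑ q ^ l(w)`, the sum over the fixed elements of the
Weyl group -/
theorem card_Q (q : ℕ) (hX : ∀ J ∈ S.Ws, Nat.card (S.XJ J) = q ^ J.length) :
    Nat.card S.Q = Nat.card S.B1 * psumF S.W S.sg Set.univ q := by
  have hV := S.hV
  have hR := S.hR
  have hm := S.hm
  have hwJs : ∀ Js : List (List ℕ), (∀ J ∈ Js, J ∈ S.Ws) → S.W.IsWord Js.flatten := by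
    intro Js hJs x hx
    rw [List.mem_flatten] at hx
    obtain ⟨J, hJ, hxJ⟩ := hx
    exact S.O.word J (hJs J hJ) x hxJ
  have hfJs : ∀ Js : List (List ℕ), (∀ J ∈ Js, J ∈ S.Ws) → Fixw S.W S.pi Js.flatten := by
    intro Js hJs
    induction Js with
    | nil => exact fixw_nil
    | cons J Js ih =>
      have hJ := hJs J List.mem_cons_self
      have hJs' : ∀ J' ∈ Js, J' ∈ S.Ws := fun J' hJ' => hJs J' (List.mem_cons_of_mem _ hJ')
      have hJW : S.W.IsWord J := S.O.word J hJ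
      have hfJ : Fixw S.W S.pi J := by
        intro r hr
        exact hV.act_eq_of_simple hR hm (mapW_isWord S.G hJW) hJW (S.O.fix J hJ) r hr
      rw [List.flatten_cons]
      exact hfJ.append S.G hV (hwJs Js hJs') (ih hJs')
  -- the chosen words
  have hex : ∀ a : ↥((S.W.WFin Set.univ).filter (FixF S.W S.sg)),
      ∃ Js : List (List ℕ), (∀ J ∈ Js, J ∈ S.Ws) ∧ S.W.IsAct a.1 Js.flatten := by
    rintro ⟨a, ha⟩
    rw [Finset.mem_filter, S.W.mem_WFin] at ha
    obtain ⟨⟨u, hu, hau⟩, hfa⟩ := ha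
    have hfu : Fixw S.W S.pi u := (fixF_iff S.G hV hu.isWord hau).1 hfa
    obtain ⟨Js, hJs, hact⟩ := fixw_gen S.hA S.Bs S.mLL S.hB S.h1 S.h2 S.G S.O _ u hu.isWord hfu rfl
    exact ⟨Js, hJs, fun r => (hau r).trans (hact r.val r.isLt)⟩
  choose ω hωW hω using hex
  have hωQ : ∀ a, S.nW (ω a).flatten ∈ S.Q := fun a => S.nJs_mem _ (hωW a)
  have hωD : ∀ a, ∀ x ∈ (ω a).flatten, x < D.rank := fun a =>
    (S.isWord_iff _).1 (hwJs _ (hωW a))
  have hfinQ : Finite S.Q := inferInstance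
  have hsum := card_eq_sum_dc S.B1 S.Q
    (fun a : ↥((S.W.WFin Set.univ).filter (FixF S.W S.sg)) => S.nW (ω a).flatten) ?_ ?_ ?_
  · rw [hsum]
    unfold psumF
    rw [Finset.mul_sum, ← Finset.sum_coe_sort ((S.W.WFin Set.univ).filter (FixF S.W S.sg))]
    apply Finset.sum_congr rfl
    intro a _
    have h1 := S.card_dc_tw q hX _ (ω a).flatten (hωD a) (hfJs _ (hωW a)) rfl 1
      (Subgroup.one_mem _) (by rw [mul_one]; exact hωQ a)
    rw [mul_one] at h1
    rw [h1, S.W.invF_eq (hω a)]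
  · -- covering
    intro g hg
    obtain ⟨u1, hu1, n, hn, u, hu, rfl⟩ := S.Q_decomp g hg
    obtain ⟨Js, hJs, h, hh, rfl⟩ := S.mono1_decomp n hn
    have hLw := hwJs Js hJs
    have haL : WD.actF hV Js.flatten hLw ∈ (S.W.WFin Set.univ).filter (FixF S.W S.sg) := by
      rw [Finset.mem_filter, S.W.mem_WFin]
      exact ⟨⟨_, S.W.isWordIn_univ hLw, WD.isAct_actF hV _ hLw⟩,
        (fixF_iff S.G hV hLw (WD.isAct_actF hV _ hLw)).2 (hfJs Js hJs)⟩
    refine ⟨⟨_, haL⟩, ?_⟩
    have hact : ∀ r < S.W.n, S.W.act (ω ⟨_, haL⟩).flatten r = S.W.act Js.flatten r := by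
      intro r hr'
      have := (hω ⟨_, haL⟩) ⟨r, hr'⟩
      rw [← this]
      rfl
    have hmem := nWordU_inv_mul_mem_of_act_eq S.hD S.hA S.hadd S.Bs S.mLL S.hB S.h1 S.h2 _
      Js.flatten (hwJs _ (hωW ⟨_, haL⟩)) hLw hact
    have hmemQ : (S.nW (ω ⟨_, haL⟩).flatten)⁻¹ * S.nW Js.flatten ∈ S.Q :=
      Subgroup.mul_mem _ (Subgroup.inv_mem _ (hωQ _)) (S.nJs_mem Js hJs)
    have hb : (S.nW (ω ⟨_, haL⟩).flatten)⁻¹ * S.nW Js.flatten * h * u ∈ S.B1 :=
      Subgroup.mul_mem _ (Subgroup.mul_mem _ (S.H1_le_B1 ⟨hmem, hmemQ⟩) (S.H1_le_B1 hh))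
        (S.U1_le_B1 hu)
    rw [mem_dc]
    refine ⟨u1, S.U1_le_B1 hu1, _, hb, ?_⟩
    group
  · -- inside the group
    intro a x hx
    rw [mem_dc] at hx
    obtain ⟨b, hb, b', hb', rfl⟩ := hx
    exact Subgroup.mul_mem _ (Subgroup.mul_mem _ hb.2 (hωQ a)) hb'.2
  · -- distinct
    intro a a' x hx hx'
    have heq := dc_eq_of_inter _ hx hx'
    have hmem : S.nW (ω a').flatten ∈ dc S.B1 (S.nW (ω a).flatten) := by
      rw [heq]
      exact self_mem_dc _ _
    have hmem' : S.nW (ω a').flatten ∈ dc (D.borelSubgroup K) (S.nW (ω a).flatten) := by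
      rw [mem_dc] at hmem ⊢
      obtain ⟨b1, hb1, b2, hb2, e⟩ := hmem
      exact ⟨b1, hb1.1, b2, hb2.1, e⟩
    have h1 := monomial_dc D S.hD _ _ (S.nW_mem _) (S.nW_mem _) hmem'
    have h2 := act_eq_of_inv_mul_mem S.hD S.hA S.hadd S.Bs S.mLL S.hB S.h1 S.h2 S.hH _ _
      (hwJs _ (hωW a)) (hwJs _ (hωW a')) h1
    exact Subtype.ext (WD.IsAct.ext S.W (hω a) (hω a') h2)

/-- the fixed points of the subgroup of an orbit are counted by the fixed families of
parameters -/
theorem card_XJ {J : List ℕ} {rest : List (List ℕ)}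
    (hok : JOK D S.Bs S.sg J rest) :
    Nat.card (S.XJ J) = Nat.card (Sol S.φ S.ep S.sgi (J.map D.simple)) := by
  classical
  symm
  have hb := hok.block _ List.mem_cons_self
  have hsgi_mem : ∀ r ∈ J.map D.simple, S.sgi.getD r 0 ∈ J.map D.simple := by
    intro r hr
    have hr2 : r ∈ (J.map D.simple).rotate 1 := List.mem_rotate.2 hr
    rw [← hb.rot, List.mem_map] at hr2
    obtain ⟨r', hr', e⟩ := hr2
    rw [← e, S.hsgi r' (S.rJ_lt hok r' hr')]
    exact hr'
  have hmemX : ∀ t : Sol S.φ S.ep S.sgi (J.map D.simple),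
      S.hadd.wordU (wordL (J.map D.simple) t.1) ∈ S.XJ J := by
    intro t
    refine ⟨wordU_wordL_mem S.hadd _ _ (fun r hr => hr) _, ?_⟩
    show _ ∈ fixS S.c S.φ
    rw [mem_fixS, sigma_block S.hD S.c S.φ S.hadd S.sgi S.hsgi _ hb]
    congr 1
    apply wordL_congr
    intro r hr
    exact t.2.2 r hr
  have hzero : ∀ t : ℕ → K, (∀ r, r ∉ J.map D.simple → t r = 0) →
      S.hadd.wordU (wordL rest.flatten t) = 1 := by
    intro t ht
    apply wordU_wordL_zero
    intro r hr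
    apply ht
    have hnd := hok.nodup
    rw [List.flatten_cons, List.nodup_append] at hnd
    intro h
    exact hnd.2.2 r h r hr rfl
  apply Nat.card_congr
  refine Equiv.ofBijective (fun t : Sol S.φ S.ep S.sgi (J.map D.simple) =>
    (⟨S.hadd.wordU (wordL (J.map D.simple) t.1), hmemX t⟩ : ↥(S.XJ J))) ⟨?_, ?_⟩
  · intro t t' h
    have h1 : S.hadd.wordU (wordL (J.map D.simple) t.1)
        = S.hadd.wordU (wordL (J.map D.simple) t'.1) := congrArg Subtype.val h
    have e1 : S.hadd.wordU (wordL ((J.map D.simple) :: rest).flatten t.1)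
        = S.hadd.wordU (wordL ((J.map D.simple) :: rest).flatten t'.1) := by
      rw [List.flatten_cons, wordL_append, wordL_append, wordU_append, wordU_append,
        hzero _ t.2.1, hzero _ t'.2.1, h1]
    have hinj := wordL_injective S.hD S.hadd _ hok.ord _ _ e1
    apply Subtype.ext
    funext r
    by_cases hr : r ∈ J.map D.simple
    · exact hinj r (by rw [List.flatten_cons]; exact List.mem_append_left _ hr)
    · rw [t.2.1 r hr, t'.2.1 r hr]
  · rintro ⟨x, hx⟩
    obtain ⟨t, rfl, hfix⟩ := S.XJ_param hok x hx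
    have hc : wordL (J.map D.simple) (fun r => if r ∈ J.map D.simple then t r else 0)
        = wordL (J.map D.simple) t := wordL_congr _ _ _ (fun r hr => if_pos hr)
    refine ⟨⟨fun r => if r ∈ J.map D.simple then t r else 0, fun r hr => if_neg hr, ?_⟩, ?_⟩
    · intro r hr
      have := hfix r hr
      unfold twP at this ⊢
      simp only [if_pos (hsgi_mem r hr), if_pos hr]
      exact this
    · apply Subtype.ext
      show S.hadd.wordU (wordL (J.map D.simple)
        (fun r => if r ∈ J.map D.simple then t r else 0)) = _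
      rw [hc]

end TwSetup

end Cfsg.Agent.Lib.Helper5.Tw
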