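import Cfsg.Agent.Lib.Helper5.Tw.CountTw
import Cfsg.Agent.Lib.Helper5.Tw.D4Setup
import Mathlib

/-!
# The order of `³D₄(q)` in terms of the order of `H¹` (helper5)
-/

set_option autoImplicit false
set_option maxRecDepth 100000
set_option linter.unusedSectionVars false

namespace Cfsg.Agent.Lib.Helper5.Tw

open Cfsg.Lie Cfsg.Agent.Lib.Helper5.ChevPerm Cfsg.Agent.Lib.Helper5.ChevPermB
open Cfsg.Agent.Lib.Helper5.Chev
open scoped Matrix

namespace D4

theorem shapeJ0 : shapeOK ep sgi 3 [18, 13, 12] := by decide +kernel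
theorem shapeJ1 : shapeOK ep sgi 3 [14] := by decide +kernel

/-- the polynomial identity -/
theorem poly_id (q : ℕ) (hq : 1 ≤ q) :
    (q - 1) ^ 2 * (q ^ 2 + q + 1) *
        chainPolyF (wdOf DataD4.fd BsD4.Bs CxD4.mLL) WfD4.piL q WfD4.ch
      = (q ^ 2 - 1) * (q ^ 6 - 1) * (q ^ 8 + q ^ 4 + 1) := by
  have h2 : 1 ≤ q ^ 2 := Nat.one_le_pow _ _ hq
  have h6 : 1 ≤ q ^ 6 := Nat.one_le_pow _ _ hq
  have key := congrArg (fun P => evalZ P (q : ℤ)) WfD4.hpoly
  simp only [evalZ_mulZ, ← cast_chainPolyF] at key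
  simp only [evalZ] at key
  zify [hq, h2, h6]
  linear_combination key

theorem card_twisted_aux {K : Type*} [Field K] [Fintype K] {q : ℕ} (hq : IsPrimePow q)
    (hK : Fintype.card K = q ^ 3) :
    Nat.card ↥(twistedD4 K q)
      = q ^ 12 * Nat.card ↥(chevD4.diagonalSubgroup K ⊓ twistedD4 K q) *
        chainPolyF (wdOf DataD4.fd BsD4.Bs CxD4.mLL) WfD4.piL q WfD4.ch := by
  obtain ⟨φ, hφ, hφ3⟩ := exists_frob hq hK
  have hφ3' : ∀ t, φ (φ (φ t)) = t := fun t => hφ3 t
  have hadd := hadd' (K := K)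
  have hqfix : Nat.card {a : K // φ a = a} = q := by
    rw [← card_pow_fix q 3 hq.one_lt hK]
    exact Nat.card_congr (Equiv.subtypeEquivRight (fun a => by rw [hφ]))
  set S := setup φ q hφ hφ3' with hS
  have hX : ∀ J ∈ S.Ws, Nat.card (S.XJ J) = q ^ J.length := by
    intro J hJ
    have hJ' : J ∈ Ws := hJ
    simp only [Ws, List.mem_cons, List.not_mem_nil, or_false] at hJ'
    rcases hJ' with rfl | rfl
    · rw [S.card_XJ jokA]
      have e : ([0, 2, 3] : List ℕ).map chevD4.simple = [18, 13, 12] := by decide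
      rw [e]
      refine (card_sol_block (ep := ep) φ sgi 3 q hφ3 hqfix [18, 13, 12] shapeJ0).trans ?_
      rw [Nat.card_eq_fintype_card, hK]
      simp
    · rw [S.card_XJ jokB]
      have e : ([1] : List ℕ).map chevD4.simple = [14] := by decide
      rw [e]
      refine (card_sol_block (ep := ep) φ sgi 3 q hφ3 hqfix [14] shapeJ1).trans ?_
      simp
  have hU : Nat.card S.U1 = q ^ 12 := by
    show Nat.card ↥(chevD4.posUnipotent K ⊓ fixS cert φ) = q ^ 12
    rw [card_fix_eq hD4 cert φ hadd sgi hsgi bsA blockA ordA,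
      card_sol_blocks φ sgi 3 q hφ3 hqfix bsA shapeA nodupA, Nat.card_eq_fintype_card, hK]
    simp only [bsA, List.map_cons, List.map_nil, List.prod_cons, List.prod_nil, List.length_cons,
      List.length_nil]
    norm_num
    ring
  have hsum := psumF_univ_chain hD4 DataD4.agrees BsD4.Bs CxD4.mLL HsD4.reflBs'
    (cox_of_check _ _ _ CxD4.cox).1 (cox_of_check _ _ _ CxD4.cox).2 WfD4.graphW q WfD4.ch
    WfD4.stable WfD4.ok WfD4.hall
  have hQ : Nat.card ↥(twistedD4 K q) = Nat.card S.B1 *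
      psumF (wdOf DataD4.fd BsD4.Bs CxD4.mLL) WfD4.sgL Set.univ q := S.card_Q q hX
  have hB : Nat.card S.B1 = Nat.card S.U1 *
      Nat.card ↥(chevD4.diagonalSubgroup K ⊓ twistedD4 K q) := S.card_B1
  rw [hQ, hB, hU, hsum]

end D4

end Cfsg.Agent.Lib.Helper5.Tw
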