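import Cfsg.Agent.Lib.Helper5.Tw.D4Torus
import Cfsg.Agent.Lib.Helper5.Tw.D4Count
import Mathlib

/-!
# The orders of `H ∩ ³D₄(q)` and of `³D₄(q)` (helper5)
-/

set_option autoImplicit false

namespace Cfsg.Agent.Lib.Helper5.Tw

open Cfsg.Lie Cfsg.Agent.Lib.Helper5.Chev

namespace D4

theorem card_diag {K : Type*} [Field K] [Fintype K] {q : ℕ} (hq : IsPrimePow q)
    (hK : Fintype.card K = q ^ 3) :
    Nat.card ↥(chevD4.diagonalSubgroup K ⊓ twistedD4 K q) = (q - 1) ^ 2 * (q ^ 2 + q + 1) := by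
  obtain ⟨φ, hφ, hφ3⟩ := exists_frob hq hK
  have hφ3' : ∀ t, φ (φ (φ t)) = t := fun t => hφ3 t
  have hqfix : Nat.card {a : K // φ a = a} = q := by
    rw [← card_pow_fix q 3 hq.one_lt hK]
    exact Nat.card_congr (Equiv.subtypeEquivRight (fun a => by rw [hφ]))
  rw [card_H1 φ q hφ hφ3' hqfix, Nat.card_eq_fintype_card, hK]
  obtain ⟨k, rfl⟩ : ∃ k, q = k + 1 := ⟨q - 1, by have := hq.one_lt; omega⟩
  have e : (k + 1) ^ 3 - 1 = k * ((k + 1) ^ 2 + (k + 1) + 1) := by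
    apply Nat.sub_eq_of_eq_add
    ring
  rw [e, Nat.add_sub_cancel]
  ring

theorem card_twisted {K : Type*} [Field K] [Fintype K] {q : ℕ} (hq : IsPrimePow q)
    (hK : Fintype.card K = q ^ 3) :
    Nat.card ↥(twistedD4 K q) = q ^ 12 * (q ^ 2 - 1) * (q ^ 6 - 1) * (q ^ 8 + q ^ 4 + 1) := by
  rw [card_twisted_aux hq hK, card_diag hq hK, mul_assoc, poly_id q hq.one_lt.le]
  ring

end D4

end Cfsg.Agent.Lib.Helper5.Tw
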