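import Cfsg.Agent.Lib.Helper5.Tw.AutTwC
import Cfsg.Agent.Lib.Helper5.Tw.D4Setup
import Cfsg.Agent.Lib.Helper5.Tw.CoreData
import Cfsg.Agent.Lib.Helper5.Tw.D4Order
import Cfsg.Agent.Lib.Lead.TwRankOne
import Mathlib

/-!
# Automorphisms of `³D₄(q)`: the normal form (helper5)

The instantiation for `³D₄(q)` of the normal form of an automorphism of a twisted group, with the
explicit parametrisation of the subgroups of the two orbits of fundamental roots and of their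
opposites.
-/

set_option autoImplicit false
set_option maxRecDepth 100000
set_option linter.unusedSectionVars false

namespace Cfsg.Agent.Lib.Helper5.Tw

open Cfsg.Lie Cfsg.Agent.Lib.Helper5.ChevPerm Cfsg.Agent.Lib.Helper5.ChevPermB
open Cfsg.Agent.Lib.Helper5.Chev Cfsg.Agent.Lib.Helper5.AutBN
open scoped Matrix

namespace D4

theorem Js0_check_rev : w0b chevD4 BsD4.Bs Js0.flatten.reverse = true := by decide +kernel

theorem oppJ : ∀ J ∈ Ws, ∀ r ∈ J.map chevD4.simple,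
    wW BsD4.Bs Js0.flatten (chevD4.neg r) ∈ J.map chevD4.simple := by decide +kernel

theorem disjWs : ∀ J ∈ Ws, ∀ J' ∈ Ws, J ≠ J' → ∀ i ∈ J, i ∉ J' := by decide

section gens

variable {K : Type*} [Field K]

/-- the generator of the orbit of `p₁` -/
noncomputable def gA (q : ℕ) (t : K) : GL chevD4.Idx K :=
  (hadd' (K := K)).wordU [(18, t), (13, t ^ q), (12, t ^ (q ^ 2))]

/-- the generator of the orbit of `-p₁` -/
noncomputable def gAm (q : ℕ) (t : K) : GL chevD4.Idx K :=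
  (hadd' (K := K)).wordU [(5, t), (10, t ^ q), (11, t ^ (q ^ 2))]

/-- the generator of the orbit of `p₂` -/
noncomputable def gB (u : K) : GL chevD4.Idx K := (hadd' (K := K)).xU 14 u

/-- the generator of the orbit of `-p₂` -/
noncomputable def gBm (u : K) : GL chevD4.Idx K := (hadd' (K := K)).xU 9 u

theorem gA_val (q : ℕ) (t : K) :
    ((gA q t : GL chevD4.Idx K) : Matrix chevD4.Idx chevD4.Idx K)
      = Cfsg.Agent.TwRankOne.D4.xA q t := by
  rw [gA, AllAdd.wordU_val, Cfsg.Agent.TwRankOne.D4.xA_eq]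
  simp [ChevalleyDatum.wordMat, mul_assoc]

theorem gAm_val (q : ℕ) (t : K) :
    ((gAm q t : GL chevD4.Idx K) : Matrix chevD4.Idx chevD4.Idx K)
      = Cfsg.Agent.TwRankOne.D4.yA q t := by
  rw [gAm, AllAdd.wordU_val, Cfsg.Agent.TwRankOne.D4.yA_eq]
  simp [ChevalleyDatum.wordMat, mul_assoc]

theorem gB_val (u : K) :
    ((gB u : GL chevD4.Idx K) : Matrix chevD4.Idx chevD4.Idx K) = chevD4.x K 14 u := by
  rw [gB, AllAdd.xU_val]

theorem gBm_val (u : K) :
    ((gBm u : GL chevD4.Idx K) : Matrix chevD4.Idx chevD4.Idx K) = chevD4.x K 9 u := by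
  rw [gBm, AllAdd.xU_val]

theorem gA_mem (q : ℕ) (t : K) : gA q t ∈ twistedD4 K q :=
  gen3_mem q _ (d4p1, d4p3, d4p4) (by simp) t (by rw [gA, AllAdd.wordU_val]; rfl)

theorem gAm_mem (q : ℕ) (t : K) : gAm q t ∈ twistedD4 K q :=
  gen3_mem q _ (d4m1, d4m3, d4m4) (by simp) t (by rw [gAm, AllAdd.wordU_val]; rfl)

theorem gB_mem (q : ℕ) (u : K) (hu : u ^ q = u) : gB u ∈ twistedD4 K q :=
  gen1_mem q _ d4p2 (by simp) u hu (by rw [gB, AllAdd.xU_val]; simp [ChevalleyDatum.wordMat, d4p2])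

theorem gBm_mem (q : ℕ) (u : K) (hu : u ^ q = u) : gBm u ∈ twistedD4 K q :=
  gen1_mem q _ d4m2 (by simp) u hu (by rw [gBm, AllAdd.xU_val]; simp [ChevalleyDatum.wordMat, d4m2])

end gens

section param

variable {K : Type*} [Field K] [Finite K]
variable (φ : K →+* K) (q : ℕ) (hφ : ∀ t, φ t = t ^ q) (hφ3 : ∀ t, φ (φ (φ t)) = t)

theorem mapA : ([0, 2, 3] : List ℕ).map chevD4.simple = [18, 13, 12] := by decide
theorem mapB : ([1] : List ℕ).map chevD4.simple = [14] := by decide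
theorem mapAm : (([0, 2, 3] : List ℕ).map chevD4.simple).map chevD4.neg = [5, 10, 11] := by decide
theorem mapBm : (([1] : List ℕ).map chevD4.simple).map chevD4.neg = [9] := by decide

theorem memA : [0, 2, 3] ∈ (setup φ q hφ hφ3).Ws := by
  show [0, 2, 3] ∈ Ws
  decide

theorem memB : [1] ∈ (setup φ q hφ hφ3).Ws := by
  show [1] ∈ Ws
  decide

include hφ in
theorem gA_eq_wordL (t : K) : gA q t = (hadd' (K := K)).wordU (wordL [18, 13, 12]
    (fun r => if r = 18 then t else if r = 13 then φ t else φ (φ t))) := by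
  apply Units.ext
  rw [gA, AllAdd.wordU_val, AllAdd.wordU_val]
  simp [wordL, hφ, ← pow_mul, sq]

include hφ in
theorem gAm_eq_wordL (t : K) : gAm q t = (hadd' (K := K)).wordU (wordL [5, 10, 11]
    (fun r => if r = 5 then t else if r = 10 then φ t else φ (φ t))) := by
  apply Units.ext
  rw [gAm, AllAdd.wordU_val, AllAdd.wordU_val]
  simp [wordL, hφ, ← pow_mul, sq]

theorem gA_mem_XJ (t : K) : gA q t ∈ (setup φ q hφ hφ3).XJ [0, 2, 3] := by
  refine ⟨?_, twisted_le_fix φ q hφ hφ3 (gA_mem q t)⟩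
  rw [mapA, gA_eq_wordL φ q hφ]
  exact wordU_wordL_mem _ _ _ (fun r hr => hr) _

theorem gAm_mem_XmJ (t : K) : gAm q t ∈ (setup φ q hφ hφ3).XmJ [0, 2, 3] := by
  apply (setup φ q hφ hφ3).mem_XmJ_of (memA φ q hφ hφ3) jokA
  · rw [mapAm, gAm_eq_wordL φ q hφ]
    exact wordU_wordL_mem _ _ _ (fun r hr => hr) _
  · exact twisted_le_fix φ q hφ hφ3 (gAm_mem q t)

theorem gB_mem_XJ (u : K) (hu : u ^ q = u) : gB u ∈ (setup φ q hφ hφ3).XJ [1] := by
  refine ⟨?_, twisted_le_fix φ q hφ hφ3 (gB_mem q u hu)⟩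
  rw [mapB]
  exact xU_mem_UL _ _ 14 (by simp) u

theorem gBm_mem_XmJ (u : K) (hu : u ^ q = u) : gBm u ∈ (setup φ q hφ hφ3).XmJ [1] := by
  apply (setup φ q hφ hφ3).mem_XmJ_of (memB φ q hφ hφ3) jokB
  · rw [mapBm]
    exact xU_mem_UL _ _ 9 (by simp) u
  · exact twisted_le_fix φ q hφ hφ3 (gBm_mem q u hu)

/-- the elements of the subgroup of the orbit of `p₁` -/
theorem exists_of_mem_XJ_A (g : GL chevD4.Idx K) (hg : g ∈ (setup φ q hφ hφ3).XJ [0, 2, 3]) :
    ∃ t : K, g = gA q t := by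
  have hadd := hadd' (K := K)
  have hg' : g ∈ UL K chevD4 [18, 13, 12] ⊓ fixS cert φ := by
    rw [← mapA]
    exact hg
  obtain ⟨t, rfl, ht⟩ := fix_first_block hD4 cert φ hadd sgi hsgi [18, 13, 12]
    [[14], [19, 16, 15], [21, 17, 20], [22], [23]] blockA ordA nodupA g hg'
  have h13 : t 13 = φ (t 18) := by
    have := ht 13 (by simp)
    simp [twP, sgi, epF, ep] at this
    exact this.symm
  have h12 : t 12 = φ (t 13) := by
    have := ht 12 (by simp)
    simp [twP, sgi, epF, ep] at this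
    exact this.symm
  refine ⟨t 18, ?_⟩
  apply Units.ext
  rw [gA, AllAdd.wordU_val, AllAdd.wordU_val]
  simp [wordL, h12, h13, hφ, ← pow_mul, sq]

/-- the elements of the subgroup of the orbit of `p₂` -/
theorem exists_of_mem_XJ_B (g : GL chevD4.Idx K) (hg : g ∈ (setup φ q hφ hφ3).XJ [1]) :
    ∃ u : K, u ^ q = u ∧ g = gB u := by
  have hadd := hadd' (K := K)
  have hg' : g ∈ UL K chevD4 [14] ⊓ fixS cert φ := by
    rw [← mapB]
    exact hg
  obtain ⟨t, rfl, ht⟩ := fix_first_block hD4 cert φ hadd sgi hsgi [14]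
    [[18, 13, 12], [19, 16, 15], [21, 17, 20], [22], [23]] blockB ordB nodupB g hg'
  have h14 : φ (t 14) = t 14 := by
    have := ht 14 (by simp)
    simp [twP, sgi, epF, ep] at this
    exact this
  refine ⟨t 14, by rw [← hφ, h14], ?_⟩
  apply Units.ext
  rw [gB, AllAdd.wordU_val, AllAdd.xU_val]
  simp [wordL, ChevalleyDatum.wordMat]

include hφ hφ3 in
theorem gA_injective : Function.Injective (gA (K := K) q) := by
  intro t t' h
  rw [gA_eq_wordL φ q hφ, gA_eq_wordL φ q hφ] at h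
  have := (setup φ q hφ hφ3).XJ_wordL_inj jokA
    (fun r => if r = 18 then t else if r = 13 then φ t else φ (φ t))
    (fun r => if r = 18 then t' else if r = 13 then φ t' else φ (φ t'))
    (by rw [mapA]; exact h) 18 (by rw [mapA]; simp)
  simpa using this

theorem gAm_injective : Function.Injective (gAm (K := K) q) := by
  intro t t' h
  have h1 : Cfsg.Agent.TwRankOne.D4.yA q t = Cfsg.Agent.TwRankOne.D4.yA q t' := by
    rw [← gAm_val, ← gAm_val, h]
  have e := fun s : K => Cfsg.Agent.TwRankOne.YJ_rowH (F := K) (D := chevD4)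
    Cfsg.Agent.TwRankOne.D4.hD4 Cfsg.Agent.TwRankOne.D4.LA Cfsg.Agent.TwRankOne.D4.ltA
    Cfsg.Agent.TwRankOne.D4.orthA 0 (by decide) (Cfsg.Agent.TwRankOne.D4.pA q s)
  have e1 := e t
  have e2 := e t'
  unfold Cfsg.Agent.TwRankOne.D4.yA at h1
  rw [h1, e2] at e1
  have e3 := congrFun e1 (Sum.inr ⟨18, by decide⟩)
  simp [Cfsg.Agent.TwRankOne.eR, Cfsg.Agent.TwRankOne.eH, Cfsg.Agent.TwRankOne.D4.pA,
    ChevalleyDatum.simple] at e3
  exact e3.symm

omit [Finite K] in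
theorem gB_injective : Function.Injective (gB (K := K)) := by
  intro u u' h
  exact xU_injective (hadd' (K := K)) 14 (xInj_all (F := K) chevD4 hD4 14 (by decide)) u u' h

omit [Finite K] in
theorem gBm_injective : Function.Injective (gBm (K := K)) := by
  intro u u' h
  exact xU_injective (hadd' (K := K)) 9 (xInj_all (F := K) chevD4 hD4 9 (by decide)) u u' h

end param

section cards

variable {K : Type*} [Field K] [Finite K]
variable (φ : K →+* K) (q : ℕ) (hφ : ∀ t, φ t = t ^ q) (hφ3 : ∀ t, φ (φ (φ t)) = t)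

theorem card_XJ_A : Nat.card ((setup φ q hφ hφ3).XJ [0, 2, 3]) = Nat.card K := by
  symm
  apply Nat.card_congr
  refine Equiv.ofBijective (fun t => (⟨gA q t, gA_mem_XJ φ q hφ hφ3 t⟩ :
    ↥((setup φ q hφ hφ3).XJ [0, 2, 3]))) ⟨?_, ?_⟩
  · intro t t' h
    exact gA_injective φ q hφ hφ3 (congrArg Subtype.val h)
  · rintro ⟨g, hg⟩
    obtain ⟨t, rfl⟩ := exists_of_mem_XJ_A φ q hφ hφ3 g hg
    exact ⟨t, rfl⟩

theorem card_XJ_B : Nat.card ((setup φ q hφ hφ3).XJ [1]) = Nat.card {u : K // u ^ q = u} := by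
  symm
  apply Nat.card_congr
  refine Equiv.ofBijective (fun u : {u : K // u ^ q = u} =>
    (⟨gB u.1, gB_mem_XJ φ q hφ hφ3 u.1 u.2⟩ : ↥((setup φ q hφ hφ3).XJ [1]))) ⟨?_, ?_⟩
  · intro u u' h
    exact Subtype.ext (gB_injective (congrArg Subtype.val h))
  · rintro ⟨g, hg⟩
    obtain ⟨u, hu, rfl⟩ := exists_of_mem_XJ_B φ q hφ hφ3 g hg
    exact ⟨⟨u, hu⟩, rfl⟩

/-- the elements of the opposite subgroup of the orbit of `p₁` -/
theorem exists_of_mem_XmJ_A (g : GL chevD4.Idx K)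
    (hg : g ∈ (setup φ q hφ hφ3).XmJ [0, 2, 3]) : ∃ t : K, g = gAm q t := by
  have hbij : Function.Bijective (fun t => (⟨gAm q t, gAm_mem_XmJ φ q hφ hφ3 t⟩ :
      ↥((setup φ q hφ hφ3).XmJ [0, 2, 3]))) := by
    apply Function.Injective.bijective_of_nat_card_le
    · intro t t' h
      exact gAm_injective q (congrArg Subtype.val h)
    · rw [(setup φ q hφ hφ3).card_XmJ, card_XJ_A]
  obtain ⟨t, ht⟩ := hbij.2 ⟨g, hg⟩
  exact ⟨t, (congrArg Subtype.val ht).symm⟩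

/-- the elements of the opposite subgroup of the orbit of `p₂` -/
theorem exists_of_mem_XmJ_B (g : GL chevD4.Idx K)
    (hg : g ∈ (setup φ q hφ hφ3).XmJ [1]) : ∃ u : K, u ^ q = u ∧ g = gBm u := by
  have hbij : Function.Bijective (fun u : {u : K // u ^ q = u} =>
      (⟨gBm u.1, gBm_mem_XmJ φ q hφ hφ3 u.1 u.2⟩ : ↥((setup φ q hφ hφ3).XmJ [1]))) := by
    apply Function.Injective.bijective_of_nat_card_le
    · intro u u' h
      exact Subtype.ext (gBm_injective (congrArg Subtype.val h))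
    · rw [(setup φ q hφ hφ3).card_XmJ, card_XJ_B]
  obtain ⟨u, hu⟩ := hbij.2 ⟨g, hg⟩
  exact ⟨u.1, u.2, (congrArg Subtype.val hu).symm⟩

end cards

section normal

variable {K : Type*} [Field K] [Fintype K]
variable (φ : K →+* K) (q : ℕ) (hφ : ∀ t, φ t = t ^ q) (hφ3 : ∀ t, φ (φ (φ t)) = t)
variable (hq : IsPrimePow q) (hK : Fintype.card K = q ^ 3)

include hq hK in
theorem card_U1_setup : Nat.card (setup φ q hφ hφ3).U1 = q ^ 12 := by
  have e : (setup φ q hφ hφ3).U1 = chevD4.posUnipotent K ⊓ twistedD4 K q :=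
    le_antisymm (le_inf inf_le_left (setup φ q hφ hφ3).U1_le_Q)
      (le_inf inf_le_left (inf_le_right.trans (twisted_le_fix φ q hφ hφ3)))
  rw [e]
  exact card_U1 hq hK

include hq hK in
theorem idx_not_dvd :
    ¬ ringChar K ∣ ((setup φ q hφ hφ3).U1.subgroupOf (setup φ q hφ hφ3).Q).index := by
  have h1 := Subgroup.card_mul_index ((setup φ q hφ hφ3).U1.subgroupOf (setup φ q hφ hφ3).Q)
  rw [TwSetup.card_subgroupOf_of_le (setup φ q hφ hφ3).U1_le_Q, card_U1_setup φ q hφ hφ3 hq hK] at h1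
  have h2 : Nat.card ↥(setup φ q hφ hφ3).Q
      = q ^ 12 * ((q ^ 2 - 1) * (q ^ 6 - 1) * (q ^ 8 + q ^ 4 + 1)) := by
    show Nat.card ↥(twistedD4 K q) = _
    rw [card_twisted hq hK]
    ring
  rw [h2] at h1
  have hq1 : 1 ≤ q := hq.one_lt.le
  have h3 := Nat.eq_of_mul_eq_mul_left (pow_pos hq1 12) h1
  rw [h3]
  have : CharP K (ringChar K) := ringChar.charP K
  obtain ⟨n, hp, hn⟩ := FiniteField.card K (ringChar K)
  have hpq : ringChar K ∣ q := by
    apply hp.dvd_of_dvd_pow (n := 3)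
    rw [← hK, hn]
    exact dvd_pow_self _ n.ne_zero
  have hsub : ∀ k : ℕ, 1 ≤ k → ¬ ringChar K ∣ q ^ k - 1 := by
    intro k hk hd
    have h4 : ringChar K ∣ q ^ k := dvd_pow hpq (by omega)
    have h5 := Nat.dvd_sub h4 hd
    have h6 : q ^ k - (q ^ k - 1) = 1 := by
      have : 1 ≤ q ^ k := Nat.one_le_pow _ _ hq1
      omega
    rw [h6] at h5
    exact hp.one_lt.ne' (Nat.dvd_one.1 h5)
  intro hd
  rcases (Nat.Prime.dvd_mul hp).1 hd with hd | hd
  · rcases (Nat.Prime.dvd_mul hp).1 hd with hd | hd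
    · exact hsub 2 (by norm_num) hd
    · exact hsub 6 (by norm_num) hd
  · have h4 : ringChar K ∣ q ^ 8 + q ^ 4 := dvd_add (dvd_pow hpq (by norm_num)) (dvd_pow hpq (by norm_num))
    have h5 := (Nat.dvd_add_right h4).1 hd
    exact hp.one_lt.ne' (Nat.dvd_one.1 h5)

include hq hK in
/-- the normal form of an automorphism of `³D₄(q)` -/
theorem exists_normal_form_D4 (θ : ↥(twistedD4 K q) ≃* ↥(twistedD4 K q)) :
    ∃ x : ↥(twistedD4 K q),
      (∀ t : K, ∃ t' : K,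
        ((θ.trans (MulAut.conj x⁻¹)) ⟨gA q t, gA_mem q t⟩ : GL chevD4.Idx K) = gA q t') ∧
      (∀ t : K, ∃ t' : K,
        ((θ.trans (MulAut.conj x⁻¹)) ⟨gAm q t, gAm_mem q t⟩ : GL chevD4.Idx K) = gAm q t') ∧
      (∀ (u : K) (hu : u ^ q = u), ∃ u' : K, u' ^ q = u' ∧
        ((θ.trans (MulAut.conj x⁻¹)) ⟨gB u, gB_mem q u hu⟩ : GL chevD4.Idx K) = gB u') ∧
      (∀ (u : K) (hu : u ^ q = u), ∃ u' : K, u' ^ q = u' ∧
        ((θ.trans (MulAut.conj x⁻¹)) ⟨gBm u, gBm_mem q u hu⟩ : GL chevD4.Idx K) = gBm u') := by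
  obtain ⟨φ, hφ, hφ3⟩ := exists_frob hq hK
  have hφ3' : ∀ t, φ (φ (φ t)) = t := fun t => hφ3 t
  obtain ⟨x, ρ, -, -, -, h5, h6⟩ := (setup φ q hφ hφ3').exists_aut_normal_form Js0 Js0_mem
    Js0_check Js0_check_rev oppJ disjWs (idx_not_dvd φ q hφ hφ3' hq hK) θ
  refine ⟨x, ?_⟩
  set θ' := θ.trans (MulAut.conj x⁻¹) with hθ'
  -- the permutation is trivial
  have hcard : ∀ J : {J : List ℕ // J ∈ (setup φ q hφ hφ3').Ws},
      Nat.card ((setup φ q hφ hφ3').XJ J.1) = Nat.card ((setup φ q hφ hφ3').XJ (ρ J).1) := by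
    intro J
    obtain ⟨rest, hok⟩ := (setup φ q hφ hφ3').jok J.1 J.2
    obtain ⟨rest', hok'⟩ := (setup φ q hφ hφ3').jok (ρ J).1 (ρ J).2
    rw [← TwSetup.card_subgroupOf_of_le ((setup φ q hφ hφ3').XJ_le_Q hok),
      ← TwSetup.card_subgroupOf_of_le ((setup φ q hφ hφ3').XJ_le_Q hok'), ← h5 J]
    exact Nat.card_congr (Subgroup.equivMapOfInjective _ _ θ'.injective).toEquiv
  have hne : Nat.card K ≠ Nat.card {u : K // u ^ q = u} := by
    rw [card_pow_fix q 3 hq.one_lt hK, Nat.card_eq_fintype_card, hK]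
    intro h
    have := Nat.pow_right_injective hq.one_lt (h.trans (pow_one q).symm)
    omega
  have hcases : ∀ J : {J : List ℕ // J ∈ (setup φ q hφ hφ3').Ws}, J.1 = [0, 2, 3] ∨ J.1 = [1] := by
    intro J
    have := J.2
    change J.1 ∈ Ws at this
    simpa [Ws] using this
  have hρA : (ρ ⟨[0, 2, 3], memA φ q hφ hφ3'⟩).1 = [0, 2, 3] := by
    rcases hcases (ρ ⟨[0, 2, 3], memA φ q hφ hφ3'⟩) with h | h
    · exact h
    · exfalso
      have := hcard ⟨[0, 2, 3], memA φ q hφ hφ3'⟩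
      rw [h] at this
      simp only at this
      rw [card_XJ_A, card_XJ_B] at this
      exact hne this
  have hρB : (ρ ⟨[1], memB φ q hφ hφ3'⟩).1 = [1] := by
    rcases hcases (ρ ⟨[1], memB φ q hφ hφ3'⟩) with h | h
    · exfalso
      have := hcard ⟨[1], memB φ q hφ hφ3'⟩
      rw [h] at this
      simp only at this
      rw [card_XJ_A, card_XJ_B] at this
      exact hne this.symm
    · exact h
  have hA5 := h5 ⟨[0, 2, 3], memA φ q hφ hφ3'⟩
  have hA6 := h6 ⟨[0, 2, 3], memA φ q hφ hφ3'⟩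
  have hB5 := h5 ⟨[1], memB φ q hφ hφ3'⟩
  have hB6 := h6 ⟨[1], memB φ q hφ hφ3'⟩
  rw [hρA] at hA5 hA6
  rw [hρB] at hB5 hB6
  simp only at hA5 hA6 hB5 hB6
  refine ⟨?_, ?_, ?_, ?_⟩
  · intro t
    have h1 : θ' ⟨gA q t, gA_mem q t⟩ ∈ ((setup φ q hφ hφ3').XJ [0, 2, 3]).subgroupOf
        (setup φ q hφ hφ3').Q := by
      rw [← hA5]
      exact Subgroup.mem_map_of_mem _ (Subgroup.mem_subgroupOf.2 (gA_mem_XJ φ q hφ hφ3' t))
    exact exists_of_mem_XJ_A φ q hφ hφ3' _ (Subgroup.mem_subgroupOf.1 h1)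
  · intro t
    have h1 : θ' ⟨gAm q t, gAm_mem q t⟩ ∈ ((setup φ q hφ hφ3').XmJ [0, 2, 3]).subgroupOf
        (setup φ q hφ hφ3').Q := by
      rw [← hA6]
      exact Subgroup.mem_map_of_mem _ (Subgroup.mem_subgroupOf.2 (gAm_mem_XmJ φ q hφ hφ3' t))
    exact exists_of_mem_XmJ_A φ q hφ hφ3' _ (Subgroup.mem_subgroupOf.1 h1)
  · intro u hu
    have h1 : θ' ⟨gB u, gB_mem q u hu⟩ ∈ ((setup φ q hφ hφ3').XJ [1]).subgroupOf
        (setup φ q hφ hφ3').Q := by
      rw [← hB5]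
      exact Subgroup.mem_map_of_mem _ (Subgroup.mem_subgroupOf.2 (gB_mem_XJ φ q hφ hφ3' u hu))
    exact exists_of_mem_XJ_B φ q hφ hφ3' _ (Subgroup.mem_subgroupOf.1 h1)
  · intro u hu
    have h1 : θ' ⟨gBm u, gBm_mem q u hu⟩ ∈ ((setup φ q hφ hφ3').XmJ [1]).subgroupOf
        (setup φ q hφ hφ3').Q := by
      rw [← hB6]
      exact Subgroup.mem_map_of_mem _ (Subgroup.mem_subgroupOf.2 (gBm_mem_XmJ φ q hφ hφ3' u hu))
    exact exists_of_mem_XmJ_B φ q hφ hφ3' _ (Subgroup.mem_subgroupOf.1 h1)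

end normal

end D4

end Cfsg.Agent.Lib.Helper5.Tw
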