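import Cfsg.Agent.Lib.Helper5.Tw.D4AutB
import Cfsg.Agent.Lib.Helper5.AutBN.OutTools
import Mathlib

/-!
# Automorphisms of `³D₄(q)`: the outer automorphism group (helper5)

The assembly: from the normal form of an automorphism and the description of the automorphisms
which preserve the four families of generators (`Shape`, proved by lead), the outer automorphism
group of `³D₄(q)` is the group of the field automorphisms.
-/

set_option autoImplicit false
set_option maxRecDepth 100000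
set_option linter.unusedSectionVars false

namespace Cfsg.Agent.Lib.Helper5.Tw

open Cfsg.Lie Cfsg.Agent.Lib.Helper5.ChevPerm Cfsg.Agent.Lib.Helper5.ChevPermB
open Cfsg.Agent.Lib.Helper5.Chev Cfsg.Agent.Lib.Helper5.AutBN
open Cfsg.Agent.Lib.Helper8.FA
open scoped Matrix

namespace D4

section gensQ

variable {K : Type*} [Field K]

/-- the generators, as elements of the twisted group -/
noncomputable def qA (q : ℕ) (t : K) : ↥(twistedD4 K q) := ⟨gA q t, gA_mem q t⟩

noncomputable def qAm (q : ℕ) (t : K) : ↥(twistedD4 K q) := ⟨gAm q t, gAm_mem q t⟩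

open Classical in
noncomputable def qB (q : ℕ) (u : K) : ↥(twistedD4 K q) :=
  if h : u ^ q = u then ⟨gB u, gB_mem q u h⟩ else 1

open Classical in
noncomputable def qBm (q : ℕ) (u : K) : ↥(twistedD4 K q) :=
  if h : u ^ q = u then ⟨gBm u, gBm_mem q u h⟩ else 1

theorem qB_val (q : ℕ) (u : K) (hu : u ^ q = u) : ((qB q u : ↥(twistedD4 K q)) : GL chevD4.Idx K) = gB u := by
  unfold qB
  rw [dif_pos hu]

theorem qBm_val (q : ℕ) (u : K) (hu : u ^ q = u) :
    ((qBm q u : ↥(twistedD4 K q)) : GL chevD4.Idx K) = gBm u := by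
  unfold qBm
  rw [dif_pos hu]

/-- two homomorphisms of the twisted group which agree on the generators are equal -/
theorem hom_ext_twisted {H : Type*} [Group H] (q : ℕ) (f1 f2 : ↥(twistedD4 K q) →* H)
    (hA : ∀ t, f1 (qA q t) = f2 (qA q t)) (hAm : ∀ t, f1 (qAm q t) = f2 (qAm q t))
    (hB : ∀ u, u ^ q = u → f1 (qB q u) = f2 (qB q u))
    (hBm : ∀ u, u ^ q = u → f1 (qBm q u) = f2 (qBm q u)) : f1 = f2 := by
  have hadd := hadd' (K := K)
  have key : ∀ (y : GL chevD4.Idx K) (hy : y ∈ Subgroup.closure {g : GL chevD4.Idx K |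
      ∃ w ∈ d4Words K q, (g : Matrix chevD4.Idx chevD4.Idx K) = chevD4.wordMat K w}),
      f1 (⟨y, hy⟩ : ↥(twistedD4 K q)) = f2 (⟨y, hy⟩ : ↥(twistedD4 K q)) := by
    intro y hy
    induction hy using Subgroup.closure_induction with
    | mem y hy =>
      obtain ⟨w, hw, hyw⟩ := hy
      rcases hw with ⟨t, ht, r, hr, rfl⟩ | ⟨t, rs, hrs, rfl⟩
      · simp only [List.mem_cons, List.not_mem_nil, or_false] at hr
        rcases hr with rfl | rfl
        · have e : (⟨y, Subgroup.subset_closure ⟨_, Or.inl ⟨t, ht, _, by simp, rfl⟩, hyw⟩⟩ :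
              ↥(twistedD4 K q)) = qB q t := by
            apply Subtype.ext
            rw [qB_val q t ht]
            apply Units.ext
            rw [hyw, gB_val]
            simp [ChevalleyDatum.wordMat, d4p2]
          rw [e]
          exact hB t ht
        · have e : (⟨y, Subgroup.subset_closure ⟨_, Or.inl ⟨t, ht, _, by simp, rfl⟩, hyw⟩⟩ :
              ↥(twistedD4 K q)) = qBm q t := by
            apply Subtype.ext
            rw [qBm_val q t ht]
            apply Units.ext
            rw [hyw, gBm_val]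
            simp [ChevalleyDatum.wordMat, d4m2]
          rw [e]
          exact hBm t ht
      · simp only [List.mem_cons, List.not_mem_nil, or_false] at hrs
        rcases hrs with rfl | rfl
        · have e : (⟨y, Subgroup.subset_closure ⟨_, Or.inr ⟨t, _, by simp, rfl⟩, hyw⟩⟩ :
              ↥(twistedD4 K q)) = qA q t := by
            apply Subtype.ext
            apply Units.ext
            rw [hyw]
            show _ = ((gA q t : GL chevD4.Idx K) : Matrix chevD4.Idx chevD4.Idx K)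
            rw [gA, AllAdd.wordU_val]
            rfl
          rw [e]
          exact hA t
        · have e : (⟨y, Subgroup.subset_closure ⟨_, Or.inr ⟨t, _, by simp, rfl⟩, hyw⟩⟩ :
              ↥(twistedD4 K q)) = qAm q t := by
            apply Subtype.ext
            apply Units.ext
            rw [hyw]
            show _ = ((gAm q t : GL chevD4.Idx K) : Matrix chevD4.Idx chevD4.Idx K)
            rw [gAm, AllAdd.wordU_val]
            rfl
          rw [e]
          exact hAm t
    | one =>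
      have e : (⟨1, Subgroup.one_mem _⟩ : ↥(twistedD4 K q)) = 1 := rfl
      rw [e, map_one, map_one]
    | mul a b ha hb iha ihb =>
      have e : (⟨a * b, Subgroup.mul_mem _ ha hb⟩ : ↥(twistedD4 K q))
          = (⟨a, ha⟩ : ↥(twistedD4 K q)) * ⟨b, hb⟩ := rfl
      rw [e, map_mul, map_mul, iha, ihb]
    | inv a ha iha =>
      have e : (⟨a⁻¹, Subgroup.inv_mem _ ha⟩ : ↥(twistedD4 K q))
          = (⟨a, ha⟩ : ↥(twistedD4 K q))⁻¹ := rfl
      rw [e, map_inv, map_inv, iha]
  apply MonoidHom.ext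
  rintro ⟨y, hy⟩
  exact key y hy

/-- the action of a field automorphism on the generators -/
theorem fieldAutQ_qA (q : ℕ) (ψ : K ≃+* K) (t : K) : fieldAutQ K q ψ (qA q t) = qA q (ψ t) := by
  apply Subtype.ext
  rw [fieldAutQ_val]
  show Matrix.GeneralLinearGroup.map (ψ : K →+* K) (gA q t) = gA q (ψ t)
  rw [gA, map_wordU, gA]
  simp [mapWord, map_pow]

theorem fieldAutQ_qAm (q : ℕ) (ψ : K ≃+* K) (t : K) :
    fieldAutQ K q ψ (qAm q t) = qAm q (ψ t) := by
  apply Subtype.ext
  rw [fieldAutQ_val]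
  show Matrix.GeneralLinearGroup.map (ψ : K →+* K) (gAm q t) = gAm q (ψ t)
  rw [gAm, map_wordU, gAm]
  simp [mapWord, map_pow]

theorem psi_fix (q : ℕ) (ψ : K ≃+* K) (u : K) (hu : u ^ q = u) : (ψ u) ^ q = ψ u := by
  rw [← map_pow, hu]

theorem fieldAutQ_qB (q : ℕ) (ψ : K ≃+* K) (u : K) (hu : u ^ q = u) :
    fieldAutQ K q ψ (qB q u) = qB q (ψ u) := by
  apply Subtype.ext
  rw [fieldAutQ_val, qB_val q u hu, qB_val q (ψ u) (psi_fix q ψ u hu), gB, map_xU, gB]

theorem fieldAutQ_qBm (q : ℕ) (ψ : K ≃+* K) (u : K) (hu : u ^ q = u) :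
    fieldAutQ K q ψ (qBm q u) = qBm q (ψ u) := by
  apply Subtype.ext
  rw [fieldAutQ_val, qBm_val q u hu, qBm_val q (ψ u) (psi_fix q ψ u hu), gBm, map_xU, gBm]

/-- the shape of the automorphisms preserving the four families of generators -/
def Shape (K : Type*) [Field K] (q : ℕ) : Prop :=
  ∀ θ : ↥(twistedD4 K q) ≃* ↥(twistedD4 K q),
    (∀ t : K, ∃ t' : K, θ (qA q t) = qA q t') →
    (∀ t : K, ∃ t' : K, θ (qAm q t) = qAm q t') →
    (∀ u : K, u ^ q = u → ∃ u' : K, u' ^ q = u' ∧ θ (qB q u) = qB q u') →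
    (∀ u : K, u ^ q = u → ∃ u' : K, u' ^ q = u' ∧ θ (qBm q u) = qBm q u') →
    ∃ (g : ↥(twistedD4 K q)) (ψ : K ≃+* K),
      (∀ t : K, θ (qA q t) = g * qA q (ψ t) * g⁻¹) ∧
      (∀ t : K, θ (qAm q t) = g * qAm q (ψ t) * g⁻¹) ∧
      (∀ u : K, u ^ q = u → θ (qB q u) = g * qB q (ψ u) * g⁻¹) ∧
      (∀ u : K, u ^ q = u → θ (qBm q u) = g * qBm q (ψ u) * g⁻¹)

end gensQ

section main

variable {K : Type*} [Field K] [Fintype K]
variable (q : ℕ) (hq : IsPrimePow q) (hK : Fintype.card K = q ^ 3)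

include hq hK in
/-- every automorphism of `³D₄(q)` is the product of an inner and a field automorphism -/
theorem aut_split (hshape : Shape K q) (θ : MulAut ↥(twistedD4 K q)) :
    ∃ (x : ↥(twistedD4 K q)) (ψ : K ≃+* K), θ = MulAut.conj x * fieldAutQ K q ψ := by
  obtain ⟨x, h1, h2, h3, h4⟩ := exists_normal_form_D4 q hq hK θ
  obtain ⟨g, ψ, k1, k2, k3, k4⟩ := hshape (θ.trans (MulAut.conj x⁻¹))
    (fun t => by
      obtain ⟨t', e⟩ := h1 t
      exact ⟨t', Subtype.ext e⟩)
    (fun t => by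
      obtain ⟨t', e⟩ := h2 t
      exact ⟨t', Subtype.ext e⟩)
    (fun u hu => by
      obtain ⟨u', hu', e⟩ := h3 u hu
      refine ⟨u', hu', Subtype.ext ?_⟩
      rw [qB_val q u' hu', ← e]
      congr 2
      exact Subtype.ext (qB_val q u hu))
    (fun u hu => by
      obtain ⟨u', hu', e⟩ := h4 u hu
      refine ⟨u', hu', Subtype.ext ?_⟩
      rw [qBm_val q u' hu', ← e]
      congr 2
      exact Subtype.ext (qBm_val q u hu))
  refine ⟨x * g, ψ, ?_⟩
  have hhom : (θ.trans (MulAut.conj x⁻¹)).toMonoidHom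
      = (MulAut.conj g * fieldAutQ K q ψ).toMonoidHom := by
    apply hom_ext_twisted q
    · intro t
      show (θ.trans (MulAut.conj x⁻¹)) (qA q t) = g * (fieldAutQ K q ψ (qA q t)) * g⁻¹
      rw [k1 t, fieldAutQ_qA]
    · intro t
      show (θ.trans (MulAut.conj x⁻¹)) (qAm q t) = g * (fieldAutQ K q ψ (qAm q t)) * g⁻¹
      rw [k2 t, fieldAutQ_qAm]
    · intro u hu
      show (θ.trans (MulAut.conj x⁻¹)) (qB q u) = g * (fieldAutQ K q ψ (qB q u)) * g⁻¹
      rw [k3 u hu, fieldAutQ_qB q ψ u hu]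
    · intro u hu
      show (θ.trans (MulAut.conj x⁻¹)) (qBm q u) = g * (fieldAutQ K q ψ (qBm q u)) * g⁻¹
      rw [k4 u hu, fieldAutQ_qBm q ψ u hu]
  apply MulEquiv.ext
  intro y
  have h5 := congrArg (fun f : ↥(twistedD4 K q) →* ↥(twistedD4 K q) => f y) hhom
  have h6 : x⁻¹ * θ y * x⁻¹⁻¹ = g * (fieldAutQ K q ψ y) * g⁻¹ := h5
  show θ y = (x * g) * (fieldAutQ K q ψ y) * (x * g)⁻¹
  have h7 : θ y = x * (x⁻¹ * θ y * x⁻¹⁻¹) * x⁻¹ := by group
  rw [h7, h6]
  group

end main

section final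

variable {K : Type*} [Field K] [Fintype K]

/-- the outer automorphism group of `³D₄(q)` has order `3f` -/
theorem card_out (p f : ℕ) [Fact p.Prime] [CharP K p] (hK : Fintype.card K = p ^ (3 * f))
    (hf : 1 ≤ f) (hshape : Shape K (p ^ f)) :
    Nat.card (Cfsg.Out ↥(twistedD4 K (p ^ f))) = 3 * f := by
  have hq : IsPrimePow (p ^ f) :=
    (isPrimePow_nat_iff _).2 ⟨p, f, (Fact.out : p.Prime), hf, rfl⟩
  have hK' : Fintype.card K = (p ^ f) ^ 3 := by
    rw [hK]
    ring
  rw [card_out_of_split (fieldAutQ K (p ^ f)) (aut_split (p ^ f) hq hK' hshape)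
    (by
      rintro ψ ⟨x, hx⟩
      exact fieldAut_inner (p ^ f) hq hK' ψ x hx.symm)]
  exact card_ringAut p (3 * f) hK

end final

end D4

end Cfsg.Agent.Lib.Helper5.Tw
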