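import Cfsg.Agent.Lib.Helper5.Tw.TorusTw
import Cfsg.Agent.Lib.Helper5.Tw.D4Setup
import Mathlib

/-!
# The diagonal elements of `³D₄(q)` (helper5)
-/

set_option autoImplicit false
set_option maxRecDepth 100000
set_option linter.unusedSectionVars false

namespace Cfsg.Agent.Lib.Helper5.Tw

open Cfsg.Lie Cfsg.Agent.Lib.Helper5.ChevPerm Cfsg.Agent.Lib.Helper5.ChevPermB
open Cfsg.Agent.Lib.Helper5.Chev
open scoped Matrix

namespace D4

/-- the indices of the fundamental roots -/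
abbrev I4 := Fin chevD4.rank
def i0 : I4 := ⟨0, by decide⟩
def i1 : I4 := ⟨1, by decide⟩
def i2 : I4 := ⟨2, by decide⟩
def i3 : I4 := ⟨3, by decide⟩

theorem prod_I4 {M : Type*} [CommMonoid M] (f : I4 → M) : ∏ i, f i = f i0 * f i1 * f i2 * f i3 :=
  Fin.prod_univ_four (M := M) f

theorem forall_I4 (P : I4 → Prop) (h0 : P i0) (h1 : P i1) (h2 : P i2) (h3 : P i3) : ∀ i, P i := by
  intro i
  have : ∀ j : Fin 4, P j := by
    intro j
    fin_cases j
    · exact h0
    · exact h1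
    · exact h2
    · exact h3
  exact this i

/-- a family on the four indices -/
def mk4 {M : Type*} (a b c d : M) : I4 → M :=
  fun i => if i.val = 0 then a else if i.val = 1 then b else if i.val = 2 then c else d

theorem mk4_0 {M : Type*} (a b c d : M) : mk4 a b c d i0 = a := rfl
theorem mk4_1 {M : Type*} (a b c d : M) : mk4 a b c d i1 = b := rfl
theorem mk4_2 {M : Type*} (a b c d : M) : mk4 a b c d i2 = c := rfl
theorem mk4_3 {M : Type*} (a b c d : M) : mk4 a b c d i3 = d := rfl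

theorem negOK : ∀ J ∈ Ws, NegOK chevD4 sg sgi J := by decide +kernel

theorem permWs : Ws.flatten.Perm (List.range chevD4.rank) := by decide

section ker

variable {K : Type*} [Field K]

/-- the equations of the kernel -/
theorem ker_eqs (z : I4 → Kˣ) (hz : z ∈ (hU K chevD4).ker) :
    z i0 ^ 2 = z i1 ∧ z i2 ^ 2 = z i1 ∧ z i3 ^ 2 = z i1 ∧ z i1 ^ 2 = z i0 * z i2 * z i3 := by
  rw [MonoidHom.mem_ker, hU_apply, hU_eq_one_iff] at hz
  have e18 := congrFun hz ⟨18, by decide⟩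
  have e14 := congrFun hz ⟨14, by decide⟩
  have e13 := congrFun hz ⟨13, by decide⟩
  have e12 := congrFun hz ⟨12, by decide⟩
  rw [zact_apply, prod_I4] at e18 e14 e13 e12
  have c0_18 : cartanM chevD4 i0 ⟨18, by decide⟩ = 2 := by decide
  have c1_18 : cartanM chevD4 i1 ⟨18, by decide⟩ = -1 := by decide
  have c2_18 : cartanM chevD4 i2 ⟨18, by decide⟩ = 0 := by decide
  have c3_18 : cartanM chevD4 i3 ⟨18, by decide⟩ = 0 := by decide
  have c0_14 : cartanM chevD4 i0 ⟨14, by decide⟩ = -1 := by decide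
  have c1_14 : cartanM chevD4 i1 ⟨14, by decide⟩ = 2 := by decide
  have c2_14 : cartanM chevD4 i2 ⟨14, by decide⟩ = -1 := by decide
  have c3_14 : cartanM chevD4 i3 ⟨14, by decide⟩ = -1 := by decide
  have c0_13 : cartanM chevD4 i0 ⟨13, by decide⟩ = 0 := by decide
  have c1_13 : cartanM chevD4 i1 ⟨13, by decide⟩ = -1 := by decide
  have c2_13 : cartanM chevD4 i2 ⟨13, by decide⟩ = 2 := by decide
  have c3_13 : cartanM chevD4 i3 ⟨13, by decide⟩ = 0 := by decide
  have c0_12 : cartanM chevD4 i0 ⟨12, by decide⟩ = 0 := by decide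
  have c1_12 : cartanM chevD4 i1 ⟨12, by decide⟩ = -1 := by decide
  have c2_12 : cartanM chevD4 i2 ⟨12, by decide⟩ = 0 := by decide
  have c3_12 : cartanM chevD4 i3 ⟨12, by decide⟩ = 2 := by decide
  rw [c0_18, c1_18, c2_18, c3_18] at e18
  rw [c0_14, c1_14, c2_14, c3_14] at e14
  rw [c0_13, c1_13, c2_13, c3_13] at e13
  rw [c0_12, c1_12, c2_12, c3_12] at e12
  simp only [zpow_neg, zpow_one, zpow_zero, mul_one, one_mul, Pi.one_apply] at e18 e14 e13 e12
  have z2 : ∀ u : Kˣ, u ^ (2 : ℤ) = u ^ 2 := fun u => zpow_ofNat u 2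
  rw [z2] at e18 e14 e13 e12
  refine ⟨mul_inv_eq_one.1 e18, ?_, ?_, ?_⟩
  · rw [mul_comm] at e13
    exact mul_inv_eq_one.1 e13
  · rw [mul_comm] at e12
    exact mul_inv_eq_one.1 e12
  · have : z i1 ^ 2 * (z i0 * z i2 * z i3)⁻¹ = 1 := by
      rw [← e14]
      simp only [mul_inv]
      ac_rfl
    exact mul_inv_eq_one.1 this

/-- the elements of the kernel have trivial squares -/
theorem ker_sq (z : I4 → Kˣ) (hz : z ∈ (hU K chevD4).ker) : z i1 = 1 ∧ z * z = 1 := by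
  obtain ⟨h0, h2, h3, h1⟩ := ker_eqs z hz
  have e : z i1 ^ 4 = z i1 ^ 3 := by
    calc z i1 ^ 4 = (z i1 ^ 2) ^ 2 := by rw [← pow_mul]
      _ = (z i0 * z i2 * z i3) ^ 2 := by rw [h1]
      _ = z i0 ^ 2 * z i2 ^ 2 * z i3 ^ 2 := by rw [mul_pow, mul_pow]
      _ = z i1 ^ 3 := by rw [h0, h2, h3]; simp only [pow_succ, pow_zero, one_mul]
  have e1 : z i1 = 1 := by
    have : z i1 ^ 3 * z i1 = z i1 ^ 3 * 1 := by rw [mul_one, ← pow_succ]; exact e
    exact mul_left_cancel this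
  refine ⟨e1, ?_⟩
  funext i
  revert i
  apply forall_I4
  · show z i0 * z i0 = 1
    rw [← sq, h0, e1]
  · show z i1 * z i1 = 1
    rw [e1, one_mul]
  · show z i2 * z i2 = 1
    rw [← sq, h2, e1]
  · show z i3 * z i3 = 1
    rw [← sq, h3, e1]

end ker

section main

variable {K : Type*} [Field K] [Finite K]
variable (φ : K →+* K) (q : ℕ) (hφ : ∀ t, φ t = t ^ q) (hφ3 : ∀ t, φ (φ (φ t)) = t)

theorem piP_symm_vals :
    (setup φ q hφ hφ3).piP.symm i0 = i3 ∧ (setup φ q hφ hφ3).piP.symm i1 = i1 ∧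
      (setup φ q hφ hφ3).piP.symm i2 = i0 ∧ (setup φ q hφ hφ3).piP.symm i3 = i2 :=
  ⟨Fin.ext rfl, Fin.ext rfl, Fin.ext rfl, Fin.ext rfl⟩

theorem tau_vals (c : I4 → Kˣ) :
    (setup φ q hφ hφ3).tau c i0 = Units.map (φ : K →* K) (c i3) ∧
    (setup φ q hφ hφ3).tau c i1 = Units.map (φ : K →* K) (c i1) ∧
    (setup φ q hφ hφ3).tau c i2 = Units.map (φ : K →* K) (c i0) ∧
    (setup φ q hφ hφ3).tau c i3 = Units.map (φ : K →* K) (c i2) := by
  obtain ⟨h0, h1, h2, h3⟩ := piP_symm_vals φ q hφ hφ3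
  refine ⟨?_, ?_, ?_, ?_⟩
  · rw [TwSetup.tau_apply, h0]; rfl
  · rw [TwSetup.tau_apply, h1]; rfl
  · rw [TwSetup.tau_apply, h2]; rfl
  · rw [TwSetup.tau_apply, h3]; rfl

include hφ3 in
theorem phi3_units (u : Kˣ) :
    Units.map (φ : K →* K) (Units.map (φ : K →* K) (Units.map (φ : K →* K) u)) = u := by
  apply Units.ext
  rw [Units.coe_map, Units.coe_map, Units.coe_map]
  exact hφ3 u

theorem tau3 (c : I4 → Kˣ) :
    (setup φ q hφ hφ3).tau ((setup φ q hφ hφ3).tau ((setup φ q hφ hφ3).tau c)) = c := by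
  funext i
  revert i
  apply forall_I4
  · rw [(tau_vals φ q hφ hφ3 _).1, (tau_vals φ q hφ hφ3 _).2.2.2, (tau_vals φ q hφ hφ3 _).2.2.1]
    exact phi3_units φ hφ3 _
  · rw [(tau_vals φ q hφ hφ3 _).2.1, (tau_vals φ q hφ hφ3 _).2.1, (tau_vals φ q hφ hφ3 _).2.1]
    exact phi3_units φ hφ3 _
  · rw [(tau_vals φ q hφ hφ3 _).2.2.1, (tau_vals φ q hφ hφ3 _).1, (tau_vals φ q hφ hφ3 _).2.2.2]
    exact phi3_units φ hφ3 _
  · rw [(tau_vals φ q hφ hφ3 _).2.2.2, (tau_vals φ q hφ hφ3 _).2.2.1, (tau_vals φ q hφ hφ3 _).1]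
    exact phi3_units φ hφ3 _

/-- the cohomological step -/
theorem coh (c : I4 → Kˣ)
    (hz : (setup φ q hφ hφ3).tau c / c ∈ (hU K chevD4).ker) :
    ∃ d ∈ (hU K chevD4).ker, (setup φ q hφ hφ3).tau (c * d) = c * d := by
  have hd := (setup φ q hφ hφ3).tau_ker _ hz
  refine ⟨_, hd, ?_⟩
  exact coh3 (setup φ q hφ hφ3).tau (tau3 φ q hφ hφ3) c (ker_sq _ hd).2

/-- the parameters fixed by the twist -/
noncomputable def fixEquiv :
    {c : I4 → Kˣ // (setup φ q hφ hφ3).tau c = c} ≃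
      Kˣ × {u : Kˣ // Units.map (φ : K →* K) u = u} where
  toFun c := (c.1 i0, ⟨c.1 i1, by
    have := congrFun c.2 i1
    rw [(tau_vals φ q hφ hφ3 _).2.1] at this
    exact this⟩)
  invFun p := ⟨mk4 p.1 p.2.1 (Units.map (φ : K →* K) p.1)
      (Units.map (φ : K →* K) (Units.map (φ : K →* K) p.1)), by
    funext i
    revert i
    apply forall_I4
    · rw [(tau_vals φ q hφ hφ3 _).1, mk4_3, mk4_0]
      exact phi3_units φ hφ3 _
    · rw [(tau_vals φ q hφ hφ3 _).2.1, mk4_1]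
      exact p.2.2
    · rw [(tau_vals φ q hφ hφ3 _).2.2.1, mk4_0, mk4_2]
    · rw [(tau_vals φ q hφ hφ3 _).2.2.2, mk4_2, mk4_3]⟩
  left_inv c := by
    apply Subtype.ext
    funext i
    revert i
    have h2 := congrFun c.2 i2
    have h3 := congrFun c.2 i3
    rw [(tau_vals φ q hφ hφ3 _).2.2.1] at h2
    rw [(tau_vals φ q hφ hφ3 _).2.2.2] at h3
    apply forall_I4
    · rfl
    · rfl
    · show Units.map (φ : K →* K) (c.1 i0) = c.1 i2
      exact h2
    · show Units.map (φ : K →* K) (Units.map (φ : K →* K) (c.1 i0)) = c.1 i3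
      rw [h2, h3]
  right_inv p := by
    apply Prod.ext
    · rfl
    · apply Subtype.ext
      rfl

theorem card_tauFix (hqfix : Nat.card {a : K // φ a = a} = q) :
    Nat.card {c : I4 → Kˣ // (setup φ q hφ hφ3).tau c = c} = (Nat.card K - 1) * (q - 1) := by
  rw [Nat.card_congr (fixEquiv φ q hφ hφ3), Nat.card_prod, Nat.card_units]
  have := card_units_fix φ
  rw [hqfix] at this
  congr 1
  omega

theorem card_tauKer :
    Nat.card {c : I4 → Kˣ // (setup φ q hφ hφ3).tau c = c ∧ hU K chevD4 c = 1} = 1 := by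
  rw [Nat.card_eq_one_iff_unique]
  have key : ∀ c : I4 → Kˣ, (setup φ q hφ hφ3).tau c = c → hU K chevD4 c = 1 → c = 1 := by
    intro c hc hk
    obtain ⟨e1, hsq⟩ := ker_sq c ((MonoidHom.mem_ker).2 hk)
    obtain ⟨-, -, -, h1⟩ := ker_eqs c ((MonoidHom.mem_ker).2 hk)
    -- the components are fixed by the field automorphism
    have hfix : ∀ u : Kˣ, u * u = 1 → Units.map (φ : K →* K) u = u := by
      intro u hu
      have h2 : (u : K) * u = 1 := by
        rw [← Units.val_mul, hu, Units.val_one]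
      apply Units.ext
      rw [Units.coe_map]
      rcases mul_self_eq_one_iff.1 h2 with h3 | h3
      · show φ (u : K) = u
        rw [h3, map_one]
      · show φ (u : K) = u
        rw [h3, map_neg, map_one]
    have hs0 : c i0 * c i0 = 1 := congrFun hsq i0
    have h2 := congrFun hc i2
    have h3 := congrFun hc i3
    rw [(tau_vals φ q hφ hφ3 _).2.2.1, hfix _ hs0] at h2
    rw [(tau_vals φ q hφ hφ3 _).2.2.2, ← h2, hfix _ hs0] at h3
    rw [e1, ← h2, ← h3, one_pow] at h1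
    have e0 : c i0 = 1 := by
      rw [h1, hs0, one_mul]
    funext i
    revert i
    apply forall_I4
    · exact e0
    · exact e1
    · rw [← h2]; exact e0
    · rw [← h3]; exact e0
  refine ⟨⟨?_⟩, ⟨⟨1, map_one _, map_one _⟩⟩⟩
  intro a b
  apply Subtype.ext
  rw [key a.1 a.2.1 a.2.2, key b.1 b.2.1 b.2.2]

include hφ hφ3 in
/-- the order of `H ∩ ³D₄(q)` -/
theorem card_H1 (hqfix : Nat.card {a : K // φ a = a} = q) :
    Nat.card ↥(chevD4.diagonalSubgroup K ⊓ twistedD4 K q) = (Nat.card K - 1) * (q - 1) := by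
  have h := (setup φ q hφ hφ3).card_H1 negOK permWs (coh φ q hφ hφ3)
  have e1 : Nat.card {c : Fin chevD4.rank → Kˣ //
      (setup φ q hφ hφ3).tau c = c ∧ hU K chevD4 c = 1} = 1 := card_tauKer φ q hφ hφ3
  have e2 : Nat.card {c : Fin chevD4.rank → Kˣ // (setup φ q hφ hφ3).tau c = c}
      = (Nat.card K - 1) * (q - 1) := card_tauFix φ q hφ hφ3 hqfix
  rw [e1, e2, one_mul] at h
  exact h


end main

end D4

end Cfsg.Agent.Lib.Helper5.Tw
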