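import Cfsg.Agent.Lib.Helper5.Tw.AutTwC
import Cfsg.Agent.Lib.Helper5.Tw.E6Setup
import Cfsg.Agent.Lib.Helper5.Tw.CoreData
import Cfsg.Agent.Lib.Helper5.Tw.E6Order
import Cfsg.Agent.Lib.Lead.TwRankOne
import Mathlib

/-!
# Automorphisms of `²E₆(q)`: the normal form (helper5)

The instantiation for `²E₆(q)` of the normal form of an automorphism of a twisted group, with the
explicit parametrisation of the subgroups of the four orbits of fundamental roots and of their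
opposites.
-/

set_option autoImplicit false
set_option maxRecDepth 100000
set_option linter.unusedSectionVars false

namespace Cfsg.Agent.Lib.Helper5.Tw

open Cfsg.Lie Cfsg.Agent.Lib.Helper5.ChevPerm Cfsg.Agent.Lib.Helper5.ChevPermB
open Cfsg.Agent.Lib.Helper5.Chev Cfsg.Agent.Lib.Helper5.AutBN
open scoped Matrix

namespace TwSetup

variable {K : Type*} [Field K] [Finite K] {D : ChevalleyDatum} (S : TwSetup K D)

include S in
/-- if the subgroups of two distinct orbits commute then the element `n_J` of the first normalises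
the subgroup of the second -/
theorem nJ_normalizes_of_comm {J J' : List ℕ} (hJ : J ∈ S.Ws) (hJ' : J' ∈ S.Ws)
    {rest rest' : List (List ℕ)} (hok : JOK D S.Bs S.sg J rest)
    (hok' : JOK D S.Bs S.sg J' rest') (hneg : NegOK D S.sg S.sgi J)
    (hdisj : ∀ i ∈ J', i ∉ J)
    (hc : ∀ x ∈ S.XJ J', ∀ y ∈ S.XJ J, x * y = y * x) :
    cj (S.nW J) (S.XJ J') = S.XJ J' := by
  have htfix : ∀ r ∈ J.map D.simple, twP S.φ S.ep S.sgi (fun _ => (1 : K)) r = 1 := by
    intro r hr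
    have hb := hok.block _ List.mem_cons_self
    have hrot := hb.rot
    have hsgi_mem : S.sgi.getD r 0 ∈ J.map D.simple := by
      have hr2 : r ∈ (J.map D.simple).rotate 1 := List.mem_rotate.2 hr
      rw [← hrot, List.mem_map] at hr2
      obtain ⟨r', hr', e⟩ := hr2
      rw [← e, S.hsgi r' (S.rJ_lt hok r' hr')]
      exact hr'
    rw [List.mem_map] at hsgi_mem
    obtain ⟨i, hi, e⟩ := hsgi_mem
    unfold twP epF
    rw [← e, S.hep i (S.hJw hJ i hi)]
    simp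
  obtain ⟨h1, h2, h3, h4⟩ := S.swap_exists hJ hok hneg (fun _ => (1 : K))
    (fun _ _ => one_ne_zero) htfix
  set a := posW S.hadd (J.map D.simple) (fun _ => -(1 : K)⁻¹) with ha
  set b := negW S.hadd (J.map D.simple) (fun _ => -(1 : K)⁻¹) with hb
  set h := hPr S.hadd (J.map D.simple) (fun _ => -(1 : K)⁻¹) with hh
  have hfix : ∀ x ∈ S.XJ J', (h * S.nW J) * x * (h * S.nW J)⁻¹ = x := by
    intro x hx
    have c1 : x * a = a * x := hc x hx a h1
    have c2 : x * b = b * x := S.XJ_comm_XmJ hJ' hJ hok' hok hdisj x hx b h2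
    have c1' : x * a⁻¹ = a⁻¹ * x := by
      have : a⁻¹ * (x * a) * a⁻¹ = a⁻¹ * (a * x) * a⁻¹ := by rw [c1]
      calc x * a⁻¹ = a⁻¹ * (a * x) * a⁻¹ := by group
        _ = a⁻¹ * (x * a) * a⁻¹ := by rw [c1]
        _ = a⁻¹ * x := by group
    rw [← h4]
    calc a⁻¹ * b * a⁻¹ * x * (a⁻¹ * b * a⁻¹)⁻¹
        = a⁻¹ * b * (a⁻¹ * x) * (a⁻¹ * b * a⁻¹)⁻¹ := by group
      _ = a⁻¹ * b * (x * a⁻¹) * (a⁻¹ * b * a⁻¹)⁻¹ := by rw [c1']
      _ = a⁻¹ * (b * x) * a⁻¹ * (a⁻¹ * b * a⁻¹)⁻¹ := by group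
      _ = a⁻¹ * (x * b) * a⁻¹ * (a⁻¹ * b * a⁻¹)⁻¹ := by rw [c2]
      _ = (a⁻¹ * x) * b * a⁻¹ * (a⁻¹ * b * a⁻¹)⁻¹ := by group
      _ = (x * a⁻¹) * b * a⁻¹ * (a⁻¹ * b * a⁻¹)⁻¹ := by rw [c1']
      _ = x := by group
  have hcj : cj (h * S.nW J) (S.XJ J') = S.XJ J' := by
    apply Subgroup.eq_of_le_of_card_ge
    · intro y hy
      rw [mem_cj] at hy
      have := hfix _ hy
      have e : y = (h * S.nW J) * ((h * S.nW J)⁻¹ * y * (h * S.nW J)) * (h * S.nW J)⁻¹ := by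
        group
      rw [e, this]
      exact hy
    · rw [card_cj]
  have := congrArg (cj h⁻¹) hcj
  rw [← cj_mul, cj_inv_cj, S.cj_H1_XJ hok' (Subgroup.inv_mem _ h3)] at this
  exact this

end TwSetup

namespace E6

theorem Js0_check_rev : w0b chevE6 BsE6.Bs Js0.flatten.reverse = true := by decide +kernel

theorem oppJ : ∀ J ∈ Ws, ∀ r ∈ J.map chevE6.simple,
    wW BsE6.Bs Js0.flatten (chevE6.neg r) ∈ J.map chevE6.simple := by decide +kernel

theorem disjWs : ∀ J ∈ Ws, ∀ J' ∈ Ws, J ≠ J' → ∀ i ∈ J, i ∉ J' := by decide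

section gens

variable {K : Type*} [Field K]

/-- the generator attached to a pair of roots -/
noncomputable def g2 (r s : ℕ) (q : ℕ) (t : K) : GL chevE6.Idx K :=
  (hadd' (K := K)).wordU [(r, t), (s, t ^ q)]

/-- the generator attached to a root -/
noncomputable def g1 (r : ℕ) (u : K) : GL chevE6.Idx K := (hadd' (K := K)).xU r u

theorem g2_mem (r s : ℕ) (hrs : (r, s) ∈ [(e6p1, e6p6), (e6m1, e6m6), (e6p3, e6p5), (e6m3, e6m5)])
    (q : ℕ) (t : K) : g2 r s q t ∈ twistedE6 K q :=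
  gen2_mem q _ (r, s) hrs t (by rw [g2, AllAdd.wordU_val])

theorem g1_mem (r : ℕ) (hr : r ∈ [e6p2, e6m2, e6p4, e6m4]) (q : ℕ) (u : K) (hu : u ^ q = u) :
    g1 r u ∈ twistedE6 K q :=
  gen1_mem q _ r hr u hu (by rw [g1, AllAdd.xU_val]; simp [ChevalleyDatum.wordMat])

end gens

section param

variable {K : Type*} [Field K] [Finite K]
variable (φ : K →+* K) (q : ℕ) (hφ : ∀ t, φ t = t ^ q) (hφ2 : ∀ t, φ (φ t) = t)

omit [Finite K] in
include hφ in
theorem g2_eq_wordL (r s : ℕ) (hrs : r ≠ s) (t : K) :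
    g2 r s q t = (hadd' (K := K)).wordU (wordL [r, s] (fun x => if x = r then t else φ t)) := by
  apply Units.ext
  rw [g2, AllAdd.wordU_val, AllAdd.wordU_val]
  simp [wordL, hφ, hrs.symm]

omit [Finite K] in
theorem g1_injective (r : ℕ) (hr : r < chevE6.nroots) : Function.Injective (g1 (K := K) r) := by
  intro u u' h
  exact xU_injective (hadd' (K := K)) r (xInj_all (F := K) chevE6 hE6 r hr) u u' h

/-! #### the orbit A -/

theorem mapA : ([0, 5] : List ℕ).map chevE6.simple = [56, 36] := by decide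
theorem mapAm : (([0, 5] : List ℕ).map chevE6.simple).map chevE6.neg = [15, 35] := by decide

theorem memA : [0, 5] ∈ (setup φ q hφ hφ2).Ws := by
  show [0, 5] ∈ Ws
  decide

theorem gA_mem_XJ (t : K) : g2 56 36 q t ∈ (setup φ q hφ hφ2).XJ [0, 5] := by
  refine ⟨?_, twisted_le_fix φ q hφ hφ2 (g2_mem 56 36 (by decide) q t)⟩
  rw [mapA, g2_eq_wordL φ q hφ 56 36 (by decide)]
  exact wordU_wordL_mem _ _ _ (fun r hr => hr) _

theorem gAm_mem_XmJ (t : K) : g2 15 35 q t ∈ (setup φ q hφ hφ2).XmJ [0, 5] := by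
  apply (setup φ q hφ hφ2).mem_XmJ_of (memA φ q hφ hφ2) jokA
  · rw [mapAm, g2_eq_wordL φ q hφ 15 35 (by decide)]
    exact wordU_wordL_mem _ _ _ (fun r hr => hr) _
  · exact twisted_le_fix φ q hφ hφ2 (g2_mem 15 35 (by decide) q t)

theorem exists_of_mem_XJ_A (g : GL chevE6.Idx K) (hg : g ∈ (setup φ q hφ hφ2).XJ [0, 5]) :
    ∃ t : K, g = g2 56 36 q t := by
  obtain ⟨t, rfl, ht⟩ := (setup φ q hφ hφ2).XJ_param jokA g hg
  have hs : t 36 = φ (t 56) := by
    have := ht 36 (by rw [mapA]; simp)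
    have e : twP φ ep sg t 36 = t 36 := this
    simp [twP, sg, epF, ep] at e
    exact e.symm
  refine ⟨t 56, ?_⟩
  apply Units.ext
  rw [g2, AllAdd.wordU_val, AllAdd.wordU_val, mapA]
  simp [wordL, hs, hφ]

include hφ hφ2 in
theorem gA_injective : Function.Injective (g2 (K := K) 56 36 q) := by
  intro t t' h
  rw [g2_eq_wordL φ q hφ 56 36 (by decide), g2_eq_wordL φ q hφ 56 36 (by decide)] at h
  have := (setup φ q hφ hφ2).XJ_wordL_inj jokA
    (fun x => if x = 56 then t else φ t) (fun x => if x = 56 then t' else φ t')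
    (by rw [mapA]; exact h) 56 (by rw [mapA]; simp)
  simpa using this

theorem gAm_injective : Function.Injective (g2 (K := K) 15 35 q) := by
  intro t t' h
  have hv : ∀ s : K, ((g2 15 35 q s : GL chevE6.Idx K) : Matrix chevE6.Idx chevE6.Idx K)
      = Cfsg.Agent.TwRankOne.YJ K chevE6 Cfsg.Agent.TwRankOne.E6.L16 (fun i => if i = 0 then s else s ^ q) := by
    intro s
    rw [g2, AllAdd.wordU_val]
    simp [ChevalleyDatum.wordMat, Cfsg.Agent.TwRankOne.YJ, Cfsg.Agent.TwRankOne.E6.L16]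
    rfl
  have h1 := (hv t).symm.trans ((congrArg Units.val h).trans (hv t'))
  have e := fun s : K => Cfsg.Agent.TwRankOne.YJ_rowH (F := K) (D := chevE6)
    Cfsg.Agent.TwRankOne.E6.hE6 Cfsg.Agent.TwRankOne.E6.L16 Cfsg.Agent.TwRankOne.E6.lt16
    Cfsg.Agent.TwRankOne.E6.orth16 0 (by decide) (fun i => if i = 0 then s else s ^ q)
  have e1 := e t
  have e2 := e t'
  rw [h1, e2] at e1
  have e3 := congrFun e1 (Sum.inr ⟨56, by decide⟩)
  simp [Cfsg.Agent.TwRankOne.eR, Cfsg.Agent.TwRankOne.eH, ChevalleyDatum.simple] at e3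
  exact e3.symm

theorem card_XJ_A : Nat.card ((setup φ q hφ hφ2).XJ [0, 5]) = Nat.card K := by
  symm
  apply Nat.card_congr
  refine Equiv.ofBijective (fun t => (⟨g2 56 36 q t, gA_mem_XJ φ q hφ hφ2 t⟩ :
    ↥((setup φ q hφ hφ2).XJ [0, 5]))) ⟨?_, ?_⟩
  · intro t t' h
    exact gA_injective φ q hφ hφ2 (congrArg Subtype.val h)
  · rintro ⟨g, hg⟩
    obtain ⟨t, rfl⟩ := exists_of_mem_XJ_A φ q hφ hφ2 g hg
    exact ⟨t, rfl⟩

theorem exists_of_mem_XmJ_A (g : GL chevE6.Idx K)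
    (hg : g ∈ (setup φ q hφ hφ2).XmJ [0, 5]) : ∃ t : K, g = g2 15 35 q t := by
  have hbij : Function.Bijective (fun t => (⟨g2 15 35 q t, gAm_mem_XmJ φ q hφ hφ2 t⟩ :
      ↥((setup φ q hφ hφ2).XmJ [0, 5]))) := by
    apply Function.Injective.bijective_of_nat_card_le
    · intro t t' h
      exact gAm_injective q (congrArg Subtype.val h)
    · rw [(setup φ q hφ hφ2).card_XmJ, card_XJ_A]
  obtain ⟨t, ht⟩ := hbij.2 ⟨g, hg⟩
  exact ⟨t, (congrArg Subtype.val ht).symm⟩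

/-! #### the orbit B -/

theorem mapB : ([2, 4] : List ℕ).map chevE6.simple = [42, 37] := by decide
theorem mapBm : (([2, 4] : List ℕ).map chevE6.simple).map chevE6.neg = [29, 34] := by decide

theorem memB : [2, 4] ∈ (setup φ q hφ hφ2).Ws := by
  show [2, 4] ∈ Ws
  decide

theorem gB_mem_XJ (t : K) : g2 42 37 q t ∈ (setup φ q hφ hφ2).XJ [2, 4] := by
  refine ⟨?_, twisted_le_fix φ q hφ hφ2 (g2_mem 42 37 (by decide) q t)⟩
  rw [mapB, g2_eq_wordL φ q hφ 42 37 (by decide)]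
  exact wordU_wordL_mem _ _ _ (fun r hr => hr) _

theorem gBm_mem_XmJ (t : K) : g2 29 34 q t ∈ (setup φ q hφ hφ2).XmJ [2, 4] := by
  apply (setup φ q hφ hφ2).mem_XmJ_of (memB φ q hφ hφ2) jokB
  · rw [mapBm, g2_eq_wordL φ q hφ 29 34 (by decide)]
    exact wordU_wordL_mem _ _ _ (fun r hr => hr) _
  · exact twisted_le_fix φ q hφ hφ2 (g2_mem 29 34 (by decide) q t)

theorem exists_of_mem_XJ_B (g : GL chevE6.Idx K) (hg : g ∈ (setup φ q hφ hφ2).XJ [2, 4]) :
    ∃ t : K, g = g2 42 37 q t := by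
  obtain ⟨t, rfl, ht⟩ := (setup φ q hφ hφ2).XJ_param jokB g hg
  have hs : t 37 = φ (t 42) := by
    have := ht 37 (by rw [mapB]; simp)
    have e : twP φ ep sg t 37 = t 37 := this
    simp [twP, sg, epF, ep] at e
    exact e.symm
  refine ⟨t 42, ?_⟩
  apply Units.ext
  rw [g2, AllAdd.wordU_val, AllAdd.wordU_val, mapB]
  simp [wordL, hs, hφ]

include hφ hφ2 in
theorem gB_injective : Function.Injective (g2 (K := K) 42 37 q) := by
  intro t t' h
  rw [g2_eq_wordL φ q hφ 42 37 (by decide), g2_eq_wordL φ q hφ 42 37 (by decide)] at h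
  have := (setup φ q hφ hφ2).XJ_wordL_inj jokB
    (fun x => if x = 42 then t else φ t) (fun x => if x = 42 then t' else φ t')
    (by rw [mapB]; exact h) 42 (by rw [mapB]; simp)
  simpa using this

theorem gBm_injective : Function.Injective (g2 (K := K) 29 34 q) := by
  intro t t' h
  have hv : ∀ s : K, ((g2 29 34 q s : GL chevE6.Idx K) : Matrix chevE6.Idx chevE6.Idx K)
      = Cfsg.Agent.TwRankOne.YJ K chevE6 Cfsg.Agent.TwRankOne.E6.L35 (fun i => if i = 2 then s else s ^ q) := by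
    intro s
    rw [g2, AllAdd.wordU_val]
    simp [ChevalleyDatum.wordMat, Cfsg.Agent.TwRankOne.YJ, Cfsg.Agent.TwRankOne.E6.L35]
    rfl
  have h1 := (hv t).symm.trans ((congrArg Units.val h).trans (hv t'))
  have e := fun s : K => Cfsg.Agent.TwRankOne.YJ_rowH (F := K) (D := chevE6)
    Cfsg.Agent.TwRankOne.E6.hE6 Cfsg.Agent.TwRankOne.E6.L35 Cfsg.Agent.TwRankOne.E6.lt35
    Cfsg.Agent.TwRankOne.E6.orth35 2 (by decide) (fun i => if i = 2 then s else s ^ q)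
  have e1 := e t
  have e2 := e t'
  rw [h1, e2] at e1
  have e3 := congrFun e1 (Sum.inr ⟨42, by decide⟩)
  simp [Cfsg.Agent.TwRankOne.eR, Cfsg.Agent.TwRankOne.eH, ChevalleyDatum.simple] at e3
  exact e3.symm

theorem card_XJ_B : Nat.card ((setup φ q hφ hφ2).XJ [2, 4]) = Nat.card K := by
  symm
  apply Nat.card_congr
  refine Equiv.ofBijective (fun t => (⟨g2 42 37 q t, gB_mem_XJ φ q hφ hφ2 t⟩ :
    ↥((setup φ q hφ hφ2).XJ [2, 4]))) ⟨?_, ?_⟩
  · intro t t' h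
    exact gB_injective φ q hφ hφ2 (congrArg Subtype.val h)
  · rintro ⟨g, hg⟩
    obtain ⟨t, rfl⟩ := exists_of_mem_XJ_B φ q hφ hφ2 g hg
    exact ⟨t, rfl⟩

theorem exists_of_mem_XmJ_B (g : GL chevE6.Idx K)
    (hg : g ∈ (setup φ q hφ hφ2).XmJ [2, 4]) : ∃ t : K, g = g2 29 34 q t := by
  have hbij : Function.Bijective (fun t => (⟨g2 29 34 q t, gBm_mem_XmJ φ q hφ hφ2 t⟩ :
      ↥((setup φ q hφ hφ2).XmJ [2, 4]))) := by
    apply Function.Injective.bijective_of_nat_card_le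
    · intro t t' h
      exact gBm_injective q (congrArg Subtype.val h)
    · rw [(setup φ q hφ hφ2).card_XmJ, card_XJ_B]
  obtain ⟨t, ht⟩ := hbij.2 ⟨g, hg⟩
  exact ⟨t, (congrArg Subtype.val ht).symm⟩

/-! #### the orbit C -/

theorem mapC : ([3] : List ℕ).map chevE6.simple = [39] := by decide
theorem mapCm : (([3] : List ℕ).map chevE6.simple).map chevE6.neg = [32] := by decide

theorem memC : [3] ∈ (setup φ q hφ hφ2).Ws := by
  show [3] ∈ Ws
  decide

theorem gC_mem_XJ (u : K) (hu : u ^ q = u) : g1 39 u ∈ (setup φ q hφ hφ2).XJ [3] := by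
  refine ⟨?_, twisted_le_fix φ q hφ hφ2 (g1_mem 39 (by decide) q u hu)⟩
  rw [mapC]
  exact xU_mem_UL _ _ 39 (by simp) u

theorem gCm_mem_XmJ (u : K) (hu : u ^ q = u) :
    g1 32 u ∈ (setup φ q hφ hφ2).XmJ [3] := by
  apply (setup φ q hφ hφ2).mem_XmJ_of (memC φ q hφ hφ2) jokC
  · rw [mapCm]
    exact xU_mem_UL _ _ 32 (by simp) u
  · exact twisted_le_fix φ q hφ hφ2 (g1_mem 32 (by decide) q u hu)

theorem exists_of_mem_XJ_C (g : GL chevE6.Idx K) (hg : g ∈ (setup φ q hφ hφ2).XJ [3]) :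
    ∃ u : K, u ^ q = u ∧ g = g1 39 u := by
  obtain ⟨t, rfl, ht⟩ := (setup φ q hφ hφ2).XJ_param jokC g hg
  have hs : φ (t 39) = t 39 := by
    have := ht 39 (by rw [mapC]; simp)
    have e : twP φ ep sg t 39 = t 39 := this
    simp [twP, sg, epF, ep] at e
    exact e
  refine ⟨t 39, by rw [← hφ, hs], ?_⟩
  apply Units.ext
  rw [g1, AllAdd.wordU_val, AllAdd.xU_val, mapC]
  simp [wordL, ChevalleyDatum.wordMat]

theorem card_XJ_C :
    Nat.card ((setup φ q hφ hφ2).XJ [3]) = Nat.card {u : K // u ^ q = u} := by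
  symm
  apply Nat.card_congr
  refine Equiv.ofBijective (fun u : {u : K // u ^ q = u} =>
    (⟨g1 39 u.1, gC_mem_XJ φ q hφ hφ2 u.1 u.2⟩ : ↥((setup φ q hφ hφ2).XJ [3]))) ⟨?_, ?_⟩
  · intro u u' h
    exact Subtype.ext (g1_injective 39 (by decide) (congrArg Subtype.val h))
  · rintro ⟨g, hg⟩
    obtain ⟨u, hu, rfl⟩ := exists_of_mem_XJ_C φ q hφ hφ2 g hg
    exact ⟨⟨u, hu⟩, rfl⟩

theorem exists_of_mem_XmJ_C (g : GL chevE6.Idx K)
    (hg : g ∈ (setup φ q hφ hφ2).XmJ [3]) : ∃ u : K, u ^ q = u ∧ g = g1 32 u := by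
  have hbij : Function.Bijective (fun u : {u : K // u ^ q = u} =>
      (⟨g1 32 u.1, gCm_mem_XmJ φ q hφ hφ2 u.1 u.2⟩ : ↥((setup φ q hφ hφ2).XmJ [3]))) := by
    apply Function.Injective.bijective_of_nat_card_le
    · intro u u' h
      exact Subtype.ext (g1_injective 32 (by decide) (congrArg Subtype.val h))
    · rw [(setup φ q hφ hφ2).card_XmJ, card_XJ_C]
  obtain ⟨u, hu⟩ := hbij.2 ⟨g, hg⟩
  exact ⟨u.1, u.2, (congrArg Subtype.val hu).symm⟩

/-! #### the orbit E -/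

theorem mapE : ([1] : List ℕ).map chevE6.simple = [46] := by decide
theorem mapEm : (([1] : List ℕ).map chevE6.simple).map chevE6.neg = [25] := by decide

theorem memE : [1] ∈ (setup φ q hφ hφ2).Ws := by
  show [1] ∈ Ws
  decide

theorem gE_mem_XJ (u : K) (hu : u ^ q = u) : g1 46 u ∈ (setup φ q hφ hφ2).XJ [1] := by
  refine ⟨?_, twisted_le_fix φ q hφ hφ2 (g1_mem 46 (by decide) q u hu)⟩
  rw [mapE]
  exact xU_mem_UL _ _ 46 (by simp) u

theorem gEm_mem_XmJ (u : K) (hu : u ^ q = u) :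
    g1 25 u ∈ (setup φ q hφ hφ2).XmJ [1] := by
  apply (setup φ q hφ hφ2).mem_XmJ_of (memE φ q hφ hφ2) jokE
  · rw [mapEm]
    exact xU_mem_UL _ _ 25 (by simp) u
  · exact twisted_le_fix φ q hφ hφ2 (g1_mem 25 (by decide) q u hu)

theorem exists_of_mem_XJ_E (g : GL chevE6.Idx K) (hg : g ∈ (setup φ q hφ hφ2).XJ [1]) :
    ∃ u : K, u ^ q = u ∧ g = g1 46 u := by
  obtain ⟨t, rfl, ht⟩ := (setup φ q hφ hφ2).XJ_param jokE g hg
  have hs : φ (t 46) = t 46 := by
    have := ht 46 (by rw [mapE]; simp)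
    have e : twP φ ep sg t 46 = t 46 := this
    simp [twP, sg, epF, ep] at e
    exact e
  refine ⟨t 46, by rw [← hφ, hs], ?_⟩
  apply Units.ext
  rw [g1, AllAdd.wordU_val, AllAdd.xU_val, mapE]
  simp [wordL, ChevalleyDatum.wordMat]

theorem card_XJ_E :
    Nat.card ((setup φ q hφ hφ2).XJ [1]) = Nat.card {u : K // u ^ q = u} := by
  symm
  apply Nat.card_congr
  refine Equiv.ofBijective (fun u : {u : K // u ^ q = u} =>
    (⟨g1 46 u.1, gE_mem_XJ φ q hφ hφ2 u.1 u.2⟩ : ↥((setup φ q hφ hφ2).XJ [1]))) ⟨?_, ?_⟩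
  · intro u u' h
    exact Subtype.ext (g1_injective 46 (by decide) (congrArg Subtype.val h))
  · rintro ⟨g, hg⟩
    obtain ⟨u, hu, rfl⟩ := exists_of_mem_XJ_E φ q hφ hφ2 g hg
    exact ⟨⟨u, hu⟩, rfl⟩

theorem exists_of_mem_XmJ_E (g : GL chevE6.Idx K)
    (hg : g ∈ (setup φ q hφ hφ2).XmJ [1]) : ∃ u : K, u ^ q = u ∧ g = g1 25 u := by
  have hbij : Function.Bijective (fun u : {u : K // u ^ q = u} =>
      (⟨g1 25 u.1, gEm_mem_XmJ φ q hφ hφ2 u.1 u.2⟩ : ↥((setup φ q hφ hφ2).XmJ [1]))) := by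
    apply Function.Injective.bijective_of_nat_card_le
    · intro u u' h
      exact Subtype.ext (g1_injective 25 (by decide) (congrArg Subtype.val h))
    · rw [(setup φ q hφ hφ2).card_XmJ, card_XJ_E]
  obtain ⟨u, hu⟩ := hbij.2 ⟨g, hg⟩
  exact ⟨u.1, u.2, (congrArg Subtype.val hu).symm⟩

end param

section rho

variable {K : Type*} [Field K] [Finite K]
variable (φ : K →+* K) (q : ℕ) (hφ : ∀ t, φ t = t ^ q) (hφ2 : ∀ t, φ (φ t) = t)

omit [Finite K] in
/-- the elements of a root subgroup -/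
theorem UL_single (r : ℕ) (y : GL chevE6.Idx K) (hy : y ∈ UL K chevE6 [r]) :
    ∃ b : K, y = (hadd' (K := K)).xU r b := by
  have hadd := hadd' (K := K)
  unfold UL at hy
  induction hy using Subgroup.closure_induction with
  | mem x hx =>
    obtain ⟨r', hr', t, hx⟩ := hx
    simp only [List.mem_cons, List.not_mem_nil, or_false] at hr'
    subst hr'
    exact ⟨t, Units.ext hx⟩
  | one => exact ⟨0, (Units.ext (by rw [AllAdd.xU_val]; exact x_zero r)).symm⟩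
  | mul a b _ _ iha ihb =>
    obtain ⟨u, rfl⟩ := iha
    obtain ⟨v, rfl⟩ := ihb
    exact ⟨u + v, xU_mul hadd r u v⟩
  | inv a _ iha =>
    obtain ⟨u, rfl⟩ := iha
    refine ⟨-u, ?_⟩
    rw [inv_eq_iff_mul_eq_one, xU_mul hadd, add_neg_cancel]
    exact Units.ext (by rw [AllAdd.xU_val]; exact x_zero r)

omit [Finite K] in
/-- the root subgroups of `p₄` and `p₃ + p₄ + p₅` meet trivially -/
theorem xU_39_44 (a b : K) (h : (hadd' (K := K)).xU 39 a = (hadd' (K := K)).xU 44 b) :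
    b = 0 := by
  have h1 := congrArg Units.val h
  rw [AllAdd.xU_val, AllAdd.xU_val, x_eq_xMat 39 (by decide), x_eq_xMat 44 (by decide)] at h1
  have h2 := congrFun (congrFun h1 (Sum.inl ⟨2, by decide⟩)) (Sum.inr ⟨27, by decide⟩)
  rw [xMat_lr, xMat_lr, if_neg (by decide), if_pos (by decide)] at h2
  have e : ((chevE6.coroot.getD 44 #[]).getD 2 0 : ℤ) = 1 := by decide
  simp only [e] at h2
  simpa using h2.symm

theorem wW_B_39 : wW BsE6.Bs [2, 4] 39 = 44 := by decide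

/-- the subgroups of the orbits of `p₄` and of `p₃, p₅` do not commute -/
theorem not_comm_CB : ¬ ∀ x ∈ (setup φ q hφ hφ2).XJ [3], ∀ y ∈ (setup φ q hφ hφ2).XJ [2, 4],
    x * y = y * x := by
  intro hc
  have hadd := hadd' (K := K)
  have hn := (setup φ q hφ hφ2).nJ_normalizes_of_comm (memB φ q hφ hφ2) (memC φ q hφ hφ2)
    jokB jokC (negOK _ (by decide)) (by decide) hc
  have hx : g1 39 (1 : K) ∈ (setup φ q hφ hφ2).XJ [3] :=
    gC_mem_XJ φ q hφ hφ2 1 (one_pow q)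
  have hy : (setup φ q hφ hφ2).nW [2, 4] * g1 39 (1 : K) * ((setup φ q hφ hφ2).nW [2, 4])⁻¹
      ∈ (setup φ q hφ hφ2).XJ [3] := by
    rw [← hn, mem_cj]
    have e : ((setup φ q hφ hφ2).nW [2, 4])⁻¹ * ((setup φ q hφ hφ2).nW [2, 4] * g1 39 (1 : K) *
        ((setup φ q hφ hφ2).nW [2, 4])⁻¹) * (setup φ q hφ hφ2).nW [2, 4] = g1 39 (1 : K) := by
      group
    rw [e]
    exact hx
  obtain ⟨u, -, hu⟩ := exists_of_mem_XJ_C φ q hφ hφ2 _ hy
  have hUL : (setup φ q hφ hφ2).nW [2, 4] * g1 39 (1 : K) * ((setup φ q hφ hφ2).nW [2, 4])⁻¹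
      ∈ UL K chevE6 [44] := by
    have := conj_UL DataE6.agrees hadd BsE6.Bs HsE6.reflBs' [2, 4] (by decide) [39] (by decide)
      (g1 39 (1 : K)) (xU_mem_UL hadd [39] 39 (by simp) 1)
    rw [List.map_cons, List.map_nil, wW_B_39] at this
    exact this
  obtain ⟨b, hb⟩ := UL_single 44 _ hUL
  rw [hu] at hb
  have hb0 := xU_39_44 u b hb
  rw [hb0] at hb
  have h1 : g1 39 u = (1 : GL chevE6.Idx K) := by
    rw [hb]
    exact Units.ext (by rw [AllAdd.xU_val]; exact x_zero 44)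
  rw [h1] at hu
  have h2 : g1 39 (1 : K) = 1 := by
    have e : g1 39 (1 : K) = ((setup φ q hφ hφ2).nW [2, 4])⁻¹ * ((setup φ q hφ hφ2).nW [2, 4] *
        g1 39 (1 : K) * ((setup φ q hφ hφ2).nW [2, 4])⁻¹) * (setup φ q hφ hφ2).nW [2, 4] := by
      group
    rw [e, hu]
    group
  have h3 : g1 39 (1 : K) = g1 39 0 := by
    rw [h2]
    exact (Units.ext (by rw [g1, AllAdd.xU_val]; exact x_zero 39)).symm
  exact one_ne_zero (g1_injective 39 (by decide) h3)

/-- the subgroups of two non adjacent orbits commute -/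
theorem comm_of_nonadj (J J' : List ℕ)
    (h : ∀ r ∈ J.map chevE6.simple, ∀ r' ∈ J'.map chevE6.simple,
      r < chevE6.nroots ∧ r' < chevE6.nroots ∧ r' ≠ r ∧ r' ≠ chevE6.neg r ∧
        chevE6.commTerms r r' = []) :
    ∀ x ∈ (setup φ q hφ hφ2).XJ J, ∀ y ∈ (setup φ q hφ hφ2).XJ J', x * y = y * x := by
  intro x hx y hy
  apply (setup φ q hφ hφ2).UL_commute (J.map chevE6.simple) (J'.map chevE6.simple) _ x hx.1 y hy.1
  intro r hr r' hr' t u
  obtain ⟨h1, h2, h3, h4, h5⟩ := h r hr r' hr'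
  exact commE6 r r' h1 h2 h3 h4 h5 t u

end rho

section normal

variable {K : Type*} [Field K] [Fintype K]
variable (φ : K →+* K) (q : ℕ) (hφ : ∀ t, φ t = t ^ q) (hφ2 : ∀ t, φ (φ t) = t)
variable (hq : IsPrimePow q) (hK : Fintype.card K = q ^ 2)

include hq hK in
theorem card_U1_setup : Nat.card (setup φ q hφ hφ2).U1 = q ^ 36 := by
  have e : (setup φ q hφ hφ2).U1 = chevE6.posUnipotent K ⊓ twistedE6 K q :=
    le_antisymm (le_inf inf_le_left (setup φ q hφ hφ2).U1_le_Q)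
      (le_inf inf_le_left (inf_le_right.trans (twisted_le_fix φ q hφ hφ2)))
  rw [e]
  exact card_U1 hq hK

include hq hK in
theorem idx_not_dvd :
    ¬ ringChar K ∣ ((setup φ q hφ hφ2).U1.subgroupOf (setup φ q hφ hφ2).Q).index := by
  have h1 := Subgroup.card_mul_index ((setup φ q hφ hφ2).U1.subgroupOf (setup φ q hφ hφ2).Q)
  rw [TwSetup.card_subgroupOf_of_le (setup φ q hφ hφ2).U1_le_Q, card_U1_setup φ q hφ hφ2 hq hK] at h1
  have h2 : Nat.gcd 3 (q + 1) * Nat.card ↥(setup φ q hφ hφ2).Q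
      = q ^ 36 * ((q ^ 2 - 1) * (q ^ 5 + 1) * (q ^ 6 - 1) * (q ^ 8 - 1) * (q ^ 9 + 1) *
        (q ^ 12 - 1)) := by
    show Nat.gcd 3 (q + 1) * Nat.card ↥(twistedE6 K q) = _
    rw [card_twisted hq hK]
    ring
  rw [← h1] at h2
  have hq1 : 1 ≤ q := hq.one_lt.le
  have h3 : Nat.gcd 3 (q + 1) *
      ((setup φ q hφ hφ2).U1.subgroupOf (setup φ q hφ hφ2).Q).index
      = (q ^ 2 - 1) * (q ^ 5 + 1) * (q ^ 6 - 1) * (q ^ 8 - 1) * (q ^ 9 + 1) * (q ^ 12 - 1) := by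
    apply Nat.eq_of_mul_eq_mul_left (pow_pos hq1 36)
    rw [← h2]
    ring
  have : CharP K (ringChar K) := ringChar.charP K
  obtain ⟨n, hp, hn⟩ := FiniteField.card K (ringChar K)
  have hpq : ringChar K ∣ q := by
    apply hp.dvd_of_dvd_pow (n := 2)
    rw [← hK, hn]
    exact dvd_pow_self _ n.ne_zero
  have hsub : ∀ k : ℕ, 1 ≤ k → ¬ ringChar K ∣ q ^ k - 1 := by
    intro k hk hd
    have h4 : ringChar K ∣ q ^ k := dvd_pow hpq (by omega)
    have h5 := Nat.dvd_sub h4 hd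
    have h6 : q ^ k - (q ^ k - 1) = 1 := by
      have : 1 ≤ q ^ k := Nat.one_le_pow _ _ hq1
      omega
    rw [h6] at h5
    exact hp.one_lt.ne' (Nat.dvd_one.1 h5)
  have hadd1 : ∀ k : ℕ, 1 ≤ k → ¬ ringChar K ∣ q ^ k + 1 := by
    intro k hk hd
    have h4 : ringChar K ∣ q ^ k := dvd_pow hpq (by omega)
    have h5 := (Nat.dvd_add_right h4).1 hd
    exact hp.one_lt.ne' (Nat.dvd_one.1 h5)
  intro hd
  have hd' : ringChar K ∣ (q ^ 2 - 1) * (q ^ 5 + 1) * (q ^ 6 - 1) * (q ^ 8 - 1) * (q ^ 9 + 1) *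
      (q ^ 12 - 1) := by
    rw [← h3]
    exact Dvd.dvd.mul_left hd _
  rcases (Nat.Prime.dvd_mul hp).1 hd' with hd' | hd'
  · rcases (Nat.Prime.dvd_mul hp).1 hd' with hd' | hd'
    · rcases (Nat.Prime.dvd_mul hp).1 hd' with hd' | hd'
      · rcases (Nat.Prime.dvd_mul hp).1 hd' with hd' | hd'
        · rcases (Nat.Prime.dvd_mul hp).1 hd' with hd' | hd'
          · exact hsub 2 (by norm_num) hd'
          · exact hadd1 5 (by norm_num) hd'
        · exact hsub 6 (by norm_num) hd'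
      · exact hsub 8 (by norm_num) hd'
    · exact hadd1 9 (by norm_num) hd'
  · exact hsub 12 (by norm_num) hd'

include hq hK in
/-- the normal form of an automorphism of `²E₆(q)` -/
theorem exists_normal_form_E6 (θ : ↥(twistedE6 K q) ≃* ↥(twistedE6 K q)) :
    ∃ x : ↥(twistedE6 K q),
      (∀ t : K, ∃ t' : K, ((θ.trans (MulAut.conj x⁻¹))
        ⟨g2 56 36 q t, g2_mem 56 36 (by decide) q t⟩ : GL chevE6.Idx K) = g2 56 36 q t') ∧
      (∀ t : K, ∃ t' : K, ((θ.trans (MulAut.conj x⁻¹))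
        ⟨g2 15 35 q t, g2_mem 15 35 (by decide) q t⟩ : GL chevE6.Idx K) = g2 15 35 q t') ∧
      (∀ t : K, ∃ t' : K, ((θ.trans (MulAut.conj x⁻¹))
        ⟨g2 42 37 q t, g2_mem 42 37 (by decide) q t⟩ : GL chevE6.Idx K) = g2 42 37 q t') ∧
      (∀ t : K, ∃ t' : K, ((θ.trans (MulAut.conj x⁻¹))
        ⟨g2 29 34 q t, g2_mem 29 34 (by decide) q t⟩ : GL chevE6.Idx K) = g2 29 34 q t') ∧
      (∀ (u : K) (hu : u ^ q = u), ∃ u' : K, u' ^ q = u' ∧ ((θ.trans (MulAut.conj x⁻¹))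
        ⟨g1 39 u, g1_mem 39 (by decide) q u hu⟩ : GL chevE6.Idx K) = g1 39 u') ∧
      (∀ (u : K) (hu : u ^ q = u), ∃ u' : K, u' ^ q = u' ∧ ((θ.trans (MulAut.conj x⁻¹))
        ⟨g1 32 u, g1_mem 32 (by decide) q u hu⟩ : GL chevE6.Idx K) = g1 32 u') ∧
      (∀ (u : K) (hu : u ^ q = u), ∃ u' : K, u' ^ q = u' ∧ ((θ.trans (MulAut.conj x⁻¹))
        ⟨g1 46 u, g1_mem 46 (by decide) q u hu⟩ : GL chevE6.Idx K) = g1 46 u') ∧
      (∀ (u : K) (hu : u ^ q = u), ∃ u' : K, u' ^ q = u' ∧ ((θ.trans (MulAut.conj x⁻¹))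
        ⟨g1 25 u, g1_mem 25 (by decide) q u hu⟩ : GL chevE6.Idx K) = g1 25 u') := by
  obtain ⟨φ, hφ, hφ2⟩ := exists_frob hq hK
  have hφ2' : ∀ t, φ (φ t) = t := fun t => hφ2 t
  obtain ⟨x, ρ, -, -, -, h5, h6⟩ := (setup φ q hφ hφ2').exists_aut_normal_form Js0 Js0_mem
    Js0_check Js0_check_rev oppJ disjWs (idx_not_dvd φ q hφ hφ2' hq hK) θ
  refine ⟨x, ?_⟩
  set θ' := θ.trans (MulAut.conj x⁻¹) with hθ'
  -- the permutation is trivial
  have hcard : ∀ J : {J : List ℕ // J ∈ (setup φ q hφ hφ2').Ws},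
      Nat.card ((setup φ q hφ hφ2').XJ J.1) = Nat.card ((setup φ q hφ hφ2').XJ (ρ J).1) := by
    intro J
    obtain ⟨rest, hok⟩ := (setup φ q hφ hφ2').jok J.1 J.2
    obtain ⟨rest', hok'⟩ := (setup φ q hφ hφ2').jok (ρ J).1 (ρ J).2
    rw [← TwSetup.card_subgroupOf_of_le ((setup φ q hφ hφ2').XJ_le_Q hok),
      ← TwSetup.card_subgroupOf_of_le ((setup φ q hφ hφ2').XJ_le_Q hok'), ← h5 J]
    exact Nat.card_congr (Subgroup.equivMapOfInjective _ _ θ'.injective).toEquiv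
  have hcomm : ∀ J J' : {J : List ℕ // J ∈ (setup φ q hφ hφ2').Ws},
      (∀ x ∈ (setup φ q hφ hφ2').XJ J.1, ∀ y ∈ (setup φ q hφ hφ2').XJ J'.1, x * y = y * x) →
      ∀ x ∈ (setup φ q hφ hφ2').XJ (ρ J).1, ∀ y ∈ (setup φ q hφ hφ2').XJ (ρ J').1,
        x * y = y * x := by
    intro J J' hc x hx y hy
    obtain ⟨rest, hok⟩ := (setup φ q hφ hφ2').jok (ρ J).1 (ρ J).2
    obtain ⟨rest', hok'⟩ := (setup φ q hφ hφ2').jok (ρ J').1 (ρ J').2
    have hxQ := (setup φ q hφ hφ2').XJ_le_Q hok hx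
    have hyQ := (setup φ q hφ hφ2').XJ_le_Q hok' hy
    have h1 : (⟨x, hxQ⟩ : ↥(setup φ q hφ hφ2').Q) ∈
        ((setup φ q hφ hφ2').XJ (ρ J).1).subgroupOf (setup φ q hφ hφ2').Q :=
      Subgroup.mem_subgroupOf.2 hx
    have h2 : (⟨y, hyQ⟩ : ↥(setup φ q hφ hφ2').Q) ∈
        ((setup φ q hφ hφ2').XJ (ρ J').1).subgroupOf (setup φ q hφ hφ2').Q :=
      Subgroup.mem_subgroupOf.2 hy
    rw [← h5 J] at h1
    rw [← h5 J'] at h2
    obtain ⟨x0, hx0, ex⟩ := h1
    obtain ⟨y0, hy0, ey⟩ := h2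
    have h3 : x0 * y0 = y0 * x0 :=
      Subtype.ext (hc _ (Subgroup.mem_subgroupOf.1 hx0) _ (Subgroup.mem_subgroupOf.1 hy0))
    have ex' : θ' x0 = ⟨x, hxQ⟩ := ex
    have ey' : θ' y0 = ⟨y, hyQ⟩ := ey
    have h4 : θ' x0 * θ' y0 = θ' y0 * θ' x0 :=
      (θ'.map_mul x0 y0).symm.trans ((congrArg θ' h3).trans (θ'.map_mul y0 x0))
    rw [ex', ey'] at h4
    exact congrArg Subtype.val h4
  have hne : Nat.card K ≠ Nat.card {u : K // u ^ q = u} := by
    rw [card_pow_fix q 2 hq.one_lt hK, Nat.card_eq_fintype_card, hK]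
    intro h
    have := Nat.pow_right_injective hq.one_lt (h.trans (pow_one q).symm)
    omega
  have hcases : ∀ J : {J : List ℕ // J ∈ (setup φ q hφ hφ2').Ws},
      J.1 = [0, 5] ∨ J.1 = [2, 4] ∨ J.1 = [3] ∨ J.1 = [1] := by
    intro J
    have := J.2
    change J.1 ∈ Ws at this
    simpa [Ws] using this
  have cA := card_XJ_A φ q hφ hφ2'
  have cB := card_XJ_B φ q hφ hφ2'
  have cC := card_XJ_C φ q hφ hφ2'
  have cE := card_XJ_E φ q hφ hφ2'
  -- the four orbits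
  set JA : {J : List ℕ // J ∈ (setup φ q hφ hφ2').Ws} := ⟨[0, 5], memA φ q hφ hφ2'⟩ with hJA
  set JB : {J : List ℕ // J ∈ (setup φ q hφ hφ2').Ws} := ⟨[2, 4], memB φ q hφ hφ2'⟩ with hJB
  set JC : {J : List ℕ // J ∈ (setup φ q hφ hφ2').Ws} := ⟨[3], memC φ q hφ hφ2'⟩ with hJC
  set JE : {J : List ℕ // J ∈ (setup φ q hφ hφ2').Ws} := ⟨[1], memE φ q hφ hφ2'⟩ with hJE
  have hbig : ∀ J : {J : List ℕ // J ∈ (setup φ q hφ hφ2').Ws},
      (J.1 = [0, 5] ∨ J.1 = [2, 4]) → ((ρ J).1 = [0, 5] ∨ (ρ J).1 = [2, 4]) := by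
    intro J hJ
    have hc := hcard J
    have hJc : Nat.card ((setup φ q hφ hφ2').XJ J.1) = Nat.card K := by
      rcases hJ with h | h <;> rw [h]
      · exact cA
      · exact cB
    rcases hcases (ρ J) with h | h | h | h
    · exact Or.inl h
    · exact Or.inr h
    · exfalso
      rw [hJc, h, cC] at hc
      exact hne hc
    · exfalso
      rw [hJc, h, cE] at hc
      exact hne hc
  have hsmall : ∀ J : {J : List ℕ // J ∈ (setup φ q hφ hφ2').Ws},
      (J.1 = [3] ∨ J.1 = [1]) → ((ρ J).1 = [3] ∨ (ρ J).1 = [1]) := by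
    intro J hJ
    have hc := hcard J
    have hJc : Nat.card ((setup φ q hφ hφ2').XJ J.1) = Nat.card {u : K // u ^ q = u} := by
      rcases hJ with h | h <;> rw [h]
      · exact cC
      · exact cE
    rcases hcases (ρ J) with h | h | h | h
    · exfalso
      rw [hJc, h, cA] at hc
      exact hne hc.symm
    · exfalso
      rw [hJc, h, cB] at hc
      exact hne hc.symm
    · exact Or.inl h
    · exact Or.inr h
  have hinj : ∀ J J' : {J : List ℕ // J ∈ (setup φ q hφ hφ2').Ws},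
      J.1 ≠ J'.1 → (ρ J).1 ≠ (ρ J').1 := by
    intro J J' hJJ h
    exact hJJ (congrArg Subtype.val (ρ.injective (Subtype.ext h)))
  have commEB := comm_of_nonadj φ q hφ hφ2' [1] [2, 4] (by decide)
  have commEA := comm_of_nonadj φ q hφ hφ2' [1] [0, 5] (by decide)
  have commCA := comm_of_nonadj φ q hφ hφ2' [3] [0, 5] (by decide)
  have hnot := not_comm_CB φ q hφ hφ2'
  have hρC : (ρ JC).1 = [3] := by
    rcases hsmall JC (Or.inl rfl) with h | h
    · exact h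
    · exfalso
      have hE : (ρ JE).1 = [3] := by
        rcases hsmall JE (Or.inr rfl) with h' | h'
        · exact h'
        · exact absurd (h.trans h'.symm) (hinj JC JE (by show ([3] : List ℕ) ≠ [1]; decide))
      have hAB := hinj JA JB (by show ([0, 5] : List ℕ) ≠ [2, 4]; decide)
      have h1 := hcomm JE JB commEB
      have h2 := hcomm JE JA commEA
      rw [hE] at h1 h2
      rcases hbig JB (Or.inr rfl) with hB | hB
      · rcases hbig JA (Or.inl rfl) with hA | hA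
        · exact hAB (hA.trans hB.symm)
        · rw [hA] at h2
          exact hnot h2
      · rw [hB] at h1
        exact hnot h1
  have hρE : (ρ JE).1 = [1] := by
    rcases hsmall JE (Or.inr rfl) with h | h
    · exact absurd (hρC.trans h.symm) (hinj JC JE (by show ([3] : List ℕ) ≠ [1]; decide))
    · exact h
  have hρB : (ρ JB).1 = [2, 4] := by
    rcases hbig JB (Or.inr rfl) with h | h
    · exfalso
      have hA : (ρ JA).1 = [2, 4] := by
        rcases hbig JA (Or.inl rfl) with h' | h'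
        · exact absurd (h'.trans h.symm) (hinj JA JB (by show ([0, 5] : List ℕ) ≠ [2, 4]; decide))
        · exact h'
      have h1 := hcomm JC JA commCA
      rw [hρC, hA] at h1
      exact hnot h1
    · exact h
  have hρA : (ρ JA).1 = [0, 5] := by
    rcases hbig JA (Or.inl rfl) with h | h
    · exact h
    · exact absurd (h.trans hρB.symm) (hinj JA JB (by show ([0, 5] : List ℕ) ≠ [2, 4]; decide))
  have hA5 := h5 JA
  have hA6 := h6 JA
  have hB5 := h5 JB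
  have hB6 := h6 JB
  have hC5 := h5 JC
  have hC6 := h6 JC
  have hE5 := h5 JE
  have hE6' := h6 JE
  rw [hρA] at hA5 hA6
  rw [hρB] at hB5 hB6
  rw [hρC] at hC5 hC6
  rw [hρE] at hE5 hE6'
  simp only [hJA, hJB, hJC, hJE] at hA5 hA6 hB5 hB6 hC5 hC6 hE5 hE6'
  refine ⟨?_, ?_, ?_, ?_, ?_, ?_, ?_, ?_⟩
  · intro t
    have h1 : θ' ⟨g2 56 36 q t, g2_mem 56 36 (by decide) q t⟩ ∈
        ((setup φ q hφ hφ2').XJ [0, 5]).subgroupOf (setup φ q hφ hφ2').Q := by
      rw [← hA5]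
      exact Subgroup.mem_map_of_mem _ (Subgroup.mem_subgroupOf.2 (gA_mem_XJ φ q hφ hφ2' t))
    exact exists_of_mem_XJ_A φ q hφ hφ2' _ (Subgroup.mem_subgroupOf.1 h1)
  · intro t
    have h1 : θ' ⟨g2 15 35 q t, g2_mem 15 35 (by decide) q t⟩ ∈
        ((setup φ q hφ hφ2').XmJ [0, 5]).subgroupOf (setup φ q hφ hφ2').Q := by
      rw [← hA6]
      exact Subgroup.mem_map_of_mem _ (Subgroup.mem_subgroupOf.2 (gAm_mem_XmJ φ q hφ hφ2' t))
    exact exists_of_mem_XmJ_A φ q hφ hφ2' _ (Subgroup.mem_subgroupOf.1 h1)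
  · intro t
    have h1 : θ' ⟨g2 42 37 q t, g2_mem 42 37 (by decide) q t⟩ ∈
        ((setup φ q hφ hφ2').XJ [2, 4]).subgroupOf (setup φ q hφ hφ2').Q := by
      rw [← hB5]
      exact Subgroup.mem_map_of_mem _ (Subgroup.mem_subgroupOf.2 (gB_mem_XJ φ q hφ hφ2' t))
    exact exists_of_mem_XJ_B φ q hφ hφ2' _ (Subgroup.mem_subgroupOf.1 h1)
  · intro t
    have h1 : θ' ⟨g2 29 34 q t, g2_mem 29 34 (by decide) q t⟩ ∈
        ((setup φ q hφ hφ2').XmJ [2, 4]).subgroupOf (setup φ q hφ hφ2').Q := by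
      rw [← hB6]
      exact Subgroup.mem_map_of_mem _ (Subgroup.mem_subgroupOf.2 (gBm_mem_XmJ φ q hφ hφ2' t))
    exact exists_of_mem_XmJ_B φ q hφ hφ2' _ (Subgroup.mem_subgroupOf.1 h1)
  · intro u hu
    have h1 : θ' ⟨g1 39 u, g1_mem 39 (by decide) q u hu⟩ ∈
        ((setup φ q hφ hφ2').XJ [3]).subgroupOf (setup φ q hφ hφ2').Q := by
      rw [← hC5]
      exact Subgroup.mem_map_of_mem _ (Subgroup.mem_subgroupOf.2 (gC_mem_XJ φ q hφ hφ2' u hu))
    exact exists_of_mem_XJ_C φ q hφ hφ2' _ (Subgroup.mem_subgroupOf.1 h1)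
  · intro u hu
    have h1 : θ' ⟨g1 32 u, g1_mem 32 (by decide) q u hu⟩ ∈
        ((setup φ q hφ hφ2').XmJ [3]).subgroupOf (setup φ q hφ hφ2').Q := by
      rw [← hC6]
      exact Subgroup.mem_map_of_mem _ (Subgroup.mem_subgroupOf.2 (gCm_mem_XmJ φ q hφ hφ2' u hu))
    exact exists_of_mem_XmJ_C φ q hφ hφ2' _ (Subgroup.mem_subgroupOf.1 h1)
  · intro u hu
    have h1 : θ' ⟨g1 46 u, g1_mem 46 (by decide) q u hu⟩ ∈
        ((setup φ q hφ hφ2').XJ [1]).subgroupOf (setup φ q hφ hφ2').Q := by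
      rw [← hE5]
      exact Subgroup.mem_map_of_mem _ (Subgroup.mem_subgroupOf.2 (gE_mem_XJ φ q hφ hφ2' u hu))
    exact exists_of_mem_XJ_E φ q hφ hφ2' _ (Subgroup.mem_subgroupOf.1 h1)
  · intro u hu
    have h1 : θ' ⟨g1 25 u, g1_mem 25 (by decide) q u hu⟩ ∈
        ((setup φ q hφ hφ2').XmJ [1]).subgroupOf (setup φ q hφ hφ2').Q := by
      rw [← hE6']
      exact Subgroup.mem_map_of_mem _ (Subgroup.mem_subgroupOf.2 (gEm_mem_XmJ φ q hφ hφ2' u hu))
    exact exists_of_mem_XmJ_E φ q hφ hφ2' _ (Subgroup.mem_subgroupOf.1 h1)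

end normal

end E6

end Cfsg.Agent.Lib.Helper5.Tw
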