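import Cfsg.Agent.Lib.Helper5.Tw.E6Aut
import Cfsg.Agent.Lib.Helper5.Tw.E6Torus
import Cfsg.Agent.Lib.Helper5.AutBN.OutCount
import Cfsg.Agent.Lib.Helper8.FA.FieldAutTw
import Mathlib

/-!
# Automorphisms of `²E₆(q)`: generators, field and diagonal automorphisms (helper5)
-/

set_option autoImplicit false
set_option maxRecDepth 100000
set_option linter.unusedSectionVars false

namespace Cfsg.Agent.Lib.Helper5.Tw

open Cfsg.Lie Cfsg.Agent.Lib.Helper5.ChevPerm Cfsg.Agent.Lib.Helper5.ChevPermB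
open Cfsg.Agent.Lib.Helper5.Chev Cfsg.Agent.Lib.Helper5.AutBN
open Cfsg.Agent.Lib.Helper8.FA Cfsg.Agent.ChevAut
open scoped Matrix

/-- conjugation by an element of the normaliser, as an automorphism of the subgroup -/
noncomputable def conjN {G : Type*} [Group G] (Q : Subgroup G) (g : G)
    (hg : g ∈ Subgroup.normalizer (Q : Set G)) : MulAut ↥Q where
  toFun y := ⟨g * y * g⁻¹, (Subgroup.mem_normalizer_iff.1 hg y).1 y.2⟩
  invFun y := ⟨g⁻¹ * y * g, by
    apply (Subgroup.mem_normalizer_iff.1 hg (g⁻¹ * y * g)).2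
    have : g * (g⁻¹ * (y : G) * g) * g⁻¹ = y := by group
    rw [this]
    exact y.2⟩
  left_inv y := Subtype.ext (by show g⁻¹ * (g * (y : G) * g⁻¹) * g = y; group)
  right_inv y := Subtype.ext (by show g * (g⁻¹ * (y : G) * g) * g⁻¹ = y; group)
  map_mul' a b := Subtype.ext (by
    show g * ((a : G) * (b : G)) * g⁻¹ = (g * (a : G) * g⁻¹) * (g * (b : G) * g⁻¹)
    group)

theorem conjN_val {G : Type*} [Group G] (Q : Subgroup G) (g : G)
    (hg : g ∈ Subgroup.normalizer (Q : Set G)) (y : ↥Q) :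
    ((conjN Q g hg y : ↥Q) : G) = g * y * g⁻¹ := rfl

namespace E6

/-- the pairs of roots of the generators of `²E₆(q)` -/
def pairs : List (ℕ × ℕ) := [(e6p1, e6p6), (e6m1, e6m6), (e6p3, e6p5), (e6m3, e6m5)]

/-- the single roots of the generators of `²E₆(q)` -/
def singles : List ℕ := [e6p2, e6m2, e6p4, e6m4]

section gensQ

variable {K : Type*} [Field K]

/-- the generators, as elements of the twisted group -/
noncomputable def q2 (rs : ℕ × ℕ) (hrs : rs ∈ pairs) (q : ℕ) (t : K) : ↥(twistedE6 K q) :=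
  ⟨g2 rs.1 rs.2 q t, g2_mem rs.1 rs.2 hrs q t⟩

open Classical in
noncomputable def q1 (r : ℕ) (hr : r ∈ singles) (q : ℕ) (u : K) : ↥(twistedE6 K q) :=
  if h : u ^ q = u then ⟨g1 r u, g1_mem r hr q u h⟩ else 1

theorem q1_val (r : ℕ) (hr : r ∈ singles) (q : ℕ) (u : K) (hu : u ^ q = u) :
    ((q1 r hr q u : ↥(twistedE6 K q)) : GL chevE6.Idx K) = g1 r u := by
  unfold q1
  rw [dif_pos hu]

/-- two homomorphisms of the twisted group which agree on the generators are equal -/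
theorem hom_ext_twisted {H : Type*} [Group H] (q : ℕ) (f1 f2 : ↥(twistedE6 K q) →* H)
    (h2 : ∀ rs (hrs : rs ∈ pairs) (t : K), f1 (q2 rs hrs q t) = f2 (q2 rs hrs q t))
    (h1 : ∀ r (hr : r ∈ singles) (u : K), u ^ q = u → f1 (q1 r hr q u) = f2 (q1 r hr q u)) :
    f1 = f2 := by
  have hadd := hadd' (K := K)
  have key : ∀ (y : GL chevE6.Idx K) (hy : y ∈ Subgroup.closure {g : GL chevE6.Idx K |
      ∃ w ∈ e6Words K q, (g : Matrix chevE6.Idx chevE6.Idx K) = chevE6.wordMat K w}),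
      f1 (⟨y, hy⟩ : ↥(twistedE6 K q)) = f2 (⟨y, hy⟩ : ↥(twistedE6 K q)) := by
    intro y hy
    induction hy using Subgroup.closure_induction with
    | mem y hy =>
      obtain ⟨w, hw, hyw⟩ := hy
      rcases hw with ⟨t, ht, r, hr, rfl⟩ | ⟨t, rs, hrs, rfl⟩
      · have e : (⟨y, Subgroup.subset_closure ⟨_, Or.inl ⟨t, ht, r, hr, rfl⟩, hyw⟩⟩ :
            ↥(twistedE6 K q)) = q1 r hr q t := by
          apply Subtype.ext
          rw [q1_val r hr q t ht]
          apply Units.ext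
          rw [hyw, g1, AllAdd.xU_val]
          simp [ChevalleyDatum.wordMat]
        rw [e]
        exact h1 r hr t ht
      · have e : (⟨y, Subgroup.subset_closure ⟨_, Or.inr ⟨t, rs, hrs, rfl⟩, hyw⟩⟩ :
            ↥(twistedE6 K q)) = q2 rs hrs q t := by
          apply Subtype.ext
          apply Units.ext
          rw [hyw]
          show _ = ((g2 rs.1 rs.2 q t : GL chevE6.Idx K) : Matrix chevE6.Idx chevE6.Idx K)
          rw [g2, AllAdd.wordU_val]
        rw [e]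
        exact h2 rs hrs t
    | one =>
      have e : (⟨1, Subgroup.one_mem _⟩ : ↥(twistedE6 K q)) = 1 := rfl
      rw [e, map_one, map_one]
    | mul a b ha hb iha ihb =>
      have e : (⟨a * b, Subgroup.mul_mem _ ha hb⟩ : ↥(twistedE6 K q))
          = (⟨a, ha⟩ : ↥(twistedE6 K q)) * ⟨b, hb⟩ := rfl
      rw [e, map_mul, map_mul, iha, ihb]
    | inv a ha iha =>
      have e : (⟨a⁻¹, Subgroup.inv_mem _ ha⟩ : ↥(twistedE6 K q))
          = (⟨a, ha⟩ : ↥(twistedE6 K q))⁻¹ := rfl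
      rw [e, map_inv, map_inv, iha]
  apply MonoidHom.ext
  rintro ⟨y, hy⟩
  exact key y hy

/-- the action of a field automorphism on the generators -/
theorem fieldAut_q2 (rs : ℕ × ℕ) (hrs : rs ∈ pairs) (q : ℕ) (ψ : K ≃+* K) (t : K) :
    fieldAutQE6 K q ψ (q2 rs hrs q t) = q2 rs hrs q (ψ t) := by
  apply Subtype.ext
  rw [fieldAutQE6_val]
  show Matrix.GeneralLinearGroup.map (ψ : K →+* K) (g2 rs.1 rs.2 q t) = g2 rs.1 rs.2 q (ψ t)
  rw [g2, map_wordU, g2]
  simp [mapWord, map_pow]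

theorem psi_fix (q : ℕ) (ψ : K ≃+* K) (u : K) (hu : u ^ q = u) : (ψ u) ^ q = ψ u := by
  rw [← map_pow, hu]

theorem fieldAut_q1 (r : ℕ) (hr : r ∈ singles) (q : ℕ) (ψ : K ≃+* K) (u : K) (hu : u ^ q = u) :
    fieldAutQE6 K q ψ (q1 r hr q u) = q1 r hr q (ψ u) := by
  apply Subtype.ext
  rw [fieldAutQE6_val, q1_val r hr q u hu, q1_val r hr q (ψ u) (psi_fix q ψ u hu), g1, map_xU, g1]

end gensQ

section diag

variable {K : Type*} [Field K]

/-- the character of the root lattice with prescribed values on the fundamental roots -/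
noncomputable def chi (c : I6 → Kˣ) : ℕ → Kˣ := chiC chevE6 ME6 3 c

theorem chi_root (c : I6 → Kˣ) : chevE6.IsRootCharacter (chi c) :=
  isRootCharacter_chiC chevE6 hE6 ME6 3 coordE6 c

theorem chi_simple (c : I6 → Kˣ) (i : ℕ) (hi : i < chevE6.rank) :
    chi c (chevE6.simple i) = c ⟨i, hi⟩ :=
  chiC_simple chevE6 ME6 3 (by norm_num) coordE6 c i hi

theorem chi_neg_simple (c : I6 → Kˣ) (i : ℕ) (hi : i < chevE6.rank) :
    chi c (chevE6.neg (chevE6.simple i)) = (c ⟨i, hi⟩)⁻¹ :=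
  chiC_neg_simple chevE6 hE6 ME6 3 (by norm_num) coordE6 c i hi

theorem chi_vals (c : I6 → Kˣ) :
    chi c 56 = c j0 ∧ chi c 46 = c j1 ∧ chi c 42 = c j2 ∧ chi c 39 = c j3 ∧ chi c 37 = c j4 ∧
    chi c 36 = c j5 ∧ chi c 15 = (c j0)⁻¹ ∧ chi c 25 = (c j1)⁻¹ ∧ chi c 29 = (c j2)⁻¹ ∧
    chi c 32 = (c j3)⁻¹ ∧ chi c 34 = (c j4)⁻¹ ∧ chi c 35 = (c j5)⁻¹ :=
  ⟨chi_simple c 0 (by decide), chi_simple c 1 (by decide), chi_simple c 2 (by decide),
    chi_simple c 3 (by decide), chi_simple c 4 (by decide), chi_simple c 5 (by decide),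
    chi_neg_simple c 0 (by decide), chi_neg_simple c 1 (by decide),
    chi_neg_simple c 2 (by decide), chi_neg_simple c 3 (by decide),
    chi_neg_simple c 4 (by decide), chi_neg_simple c 5 (by decide)⟩

/-- the diagonal matrix of the character -/
noncomputable def dG (c : I6 → Kˣ) : GL chevE6.Idx K := diagGL chevE6 (chi c)

theorem dG_conj_xU (c : I6 → Kˣ) (r : ℕ) (hr : r < chevE6.nroots) (t : K) :
    dG c * (hadd' (K := K)).xU r t * (dG c)⁻¹ = (hadd' (K := K)).xU r ((chi c r : K) * t) := by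
  apply Units.ext
  rw [Units.val_mul, Units.val_mul, dG, diagGL_val, diagGL_inv_val, AllAdd.xU_val, AllAdd.xU_val]
  exact Cfsg.Agent.S2157.result chevE6 hE6 (chi c) (chi_root c) r hr t

theorem dG_conj_g1 (c : I6 → Kˣ) (r : ℕ) (hr : r < chevE6.nroots) (u : K) :
    dG c * g1 r u * (dG c)⁻¹ = g1 r ((chi c r : K) * u) :=
  dG_conj_xU c r hr u

theorem dG_conj_g2 (c : I6 → Kˣ) (r s : ℕ) (hr : r < chevE6.nroots) (hs : s < chevE6.nroots)
    (q : ℕ) (hrs : (chi c s : K) = (chi c r : K) ^ q) (t : K) :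
    dG c * g2 r s q t * (dG c)⁻¹ = g2 r s q ((chi c r : K) * t) := by
  have h1 := conj_char_wordU (hadd' (K := K)) (dG c) (chi c)
    (fun s hs u => dG_conj_xU c s hs u) [(r, t), (s, t ^ q)] (by
      intro p hp
      simp only [List.mem_cons, List.not_mem_nil, or_false] at hp
      rcases hp with rfl | rfl
      · exact hr
      · exact hs)
  rw [g2, h1, g2]
  simp only [List.map_cons, List.map_nil]
  rw [hrs, mul_pow]

/-- the parameters fixed by the twist -/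
def TF (K : Type*) [Field K] (q : ℕ) : Subgroup (I6 → Kˣ) where
  carrier := {c | c j5 = c j0 ^ q ∧ c j4 = c j2 ^ q ∧ c j1 ^ q = c j1 ∧ c j3 ^ q = c j3}
  mul_mem' := by
    rintro a b ⟨a1, a2, a3, a4⟩ ⟨b1, b2, b3, b4⟩
    refine ⟨?_, ?_, ?_, ?_⟩
    · show a j5 * b j5 = (a j0 * b j0) ^ q
      rw [a1, b1, mul_pow]
    · show a j4 * b j4 = (a j2 * b j2) ^ q
      rw [a2, b2, mul_pow]
    · show (a j1 * b j1) ^ q = a j1 * b j1
      rw [mul_pow, a3, b3]
    · show (a j3 * b j3) ^ q = a j3 * b j3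
      rw [mul_pow, a4, b4]
  one_mem' := by
    refine ⟨?_, ?_, ?_, ?_⟩ <;> simp
  inv_mem' := by
    rintro a ⟨a1, a2, a3, a4⟩
    refine ⟨?_, ?_, ?_, ?_⟩
    · show (a j5)⁻¹ = ((a j0)⁻¹) ^ q
      rw [a1, inv_pow]
    · show (a j4)⁻¹ = ((a j2)⁻¹) ^ q
      rw [a2, inv_pow]
    · show ((a j1)⁻¹) ^ q = (a j1)⁻¹
      rw [inv_pow, a3]
    · show ((a j3)⁻¹) ^ q = (a j3)⁻¹
      rw [inv_pow, a4]

theorem chi_pair {q : ℕ} {c : I6 → Kˣ} (hc : c ∈ TF K q) (rs : ℕ × ℕ) (hrs : rs ∈ pairs) :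
    (chi c rs.2 : K) = (chi c rs.1 : K) ^ q := by
  obtain ⟨a1, a2, a3, a4⟩ := hc
  obtain ⟨v0, v1, v2, v3, v4, v5, w0, w1, w2, w3, w4, w5⟩ := chi_vals c
  simp only [pairs, e6p1, e6p6, e6m1, e6m6, e6p3, e6p5, e6m3, e6m5, List.mem_cons,
    List.not_mem_nil, or_false] at hrs
  rcases hrs with rfl | rfl | rfl | rfl
  · show (chi c 36 : K) = (chi c 56 : K) ^ q
    rw [v5, v0, a1, Units.val_pow_eq_pow_val]
  · show (chi c 35 : K) = (chi c 15 : K) ^ q
    rw [w5, w0, a1, ← Units.val_pow_eq_pow_val, inv_pow]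
  · show (chi c 37 : K) = (chi c 42 : K) ^ q
    rw [v4, v2, a2, Units.val_pow_eq_pow_val]
  · show (chi c 34 : K) = (chi c 29 : K) ^ q
    rw [w4, w2, a2, ← Units.val_pow_eq_pow_val, inv_pow]

theorem chi_single {q : ℕ} {c : I6 → Kˣ} (hc : c ∈ TF K q) (r : ℕ) (hr : r ∈ singles) :
    (chi c r : K) ^ q = (chi c r : K) := by
  obtain ⟨a1, a2, a3, a4⟩ := hc
  obtain ⟨v0, v1, v2, v3, v4, v5, w0, w1, w2, w3, w4, w5⟩ := chi_vals c
  simp only [singles, e6p2, e6m2, e6p4, e6m4, List.mem_cons, List.not_mem_nil, or_false] at hr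
  rcases hr with rfl | rfl | rfl | rfl
  · rw [v1, ← Units.val_pow_eq_pow_val, a3]
  · rw [w1, ← Units.val_pow_eq_pow_val, inv_pow, a3]
  · rw [v3, ← Units.val_pow_eq_pow_val, a4]
  · rw [w3, ← Units.val_pow_eq_pow_val, inv_pow, a4]

theorem pairs_lt : ∀ rs ∈ pairs, rs.1 < chevE6.nroots ∧ rs.2 < chevE6.nroots := by decide

theorem singles_lt : ∀ r ∈ singles, r < chevE6.nroots := by decide

theorem dG_conj_q2 {q : ℕ} {c : I6 → Kˣ} (hc : c ∈ TF K q) (rs : ℕ × ℕ) (hrs : rs ∈ pairs)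
    (t : K) : dG c * (q2 rs hrs q t : ↥(twistedE6 K q)) * (dG c)⁻¹
      = q2 rs hrs q ((chi c rs.1 : K) * t) :=
  dG_conj_g2 c rs.1 rs.2 (pairs_lt rs hrs).1 (pairs_lt rs hrs).2 q (chi_pair hc rs hrs) t

theorem dG_conj_q1 {q : ℕ} {c : I6 → Kˣ} (hc : c ∈ TF K q) (r : ℕ) (hr : r ∈ singles)
    (u : K) (hu : u ^ q = u) : dG c * (q1 r hr q u : ↥(twistedE6 K q)) * (dG c)⁻¹
      = q1 r hr q ((chi c r : K) * u) := by
  rw [q1_val r hr q u hu, q1_val r hr q _ (by rw [mul_pow, chi_single hc r hr, hu])]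
  exact dG_conj_g1 c r (singles_lt r hr) u

end diag

section dAut

variable {K : Type*} [Field K]

/-- the roots carrying the parameter of a generator -/
def lead8 : List ℕ := [56, 15, 42, 29, 46, 25, 39, 32]

theorem pairs_lead : ∀ rs ∈ pairs, rs.1 ∈ lead8 := by decide

theorem singles_lead : ∀ r ∈ singles, r ∈ lead8 := by decide

theorem chi_mul (c c' : I6 → Kˣ) (r : ℕ) (hr : r ∈ lead8) :
    chi (c * c') r = chi c r * chi c' r := by
  obtain ⟨v0, v1, v2, v3, v4, v5, w0, w1, w2, w3, w4, w5⟩ := chi_vals c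
  obtain ⟨v0', v1', v2', v3', v4', v5', w0', w1', w2', w3', w4', w5'⟩ := chi_vals c'
  obtain ⟨x0, x1, x2, x3, x4, x5, y0, y1, y2, y3, y4, y5⟩ := chi_vals (c * c')
  simp only [lead8, List.mem_cons, List.not_mem_nil, or_false] at hr
  rcases hr with rfl | rfl | rfl | rfl | rfl | rfl | rfl | rfl
  · rw [x0, v0, v0']; rfl
  · rw [y0, w0, w0', ← mul_inv]; rfl
  · rw [x2, v2, v2']; rfl
  · rw [y2, w2, w2', ← mul_inv]; rfl
  · rw [x1, v1, v1']; rfl
  · rw [y1, w1, w1', ← mul_inv]; rfl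
  · rw [x3, v3, v3']; rfl
  · rw [y3, w3, w3', ← mul_inv]; rfl

theorem chi_one (r : ℕ) (hr : r ∈ lead8) : chi (1 : I6 → Kˣ) r = 1 := by
  obtain ⟨v0, v1, v2, v3, v4, v5, w0, w1, w2, w3, w4, w5⟩ := chi_vals (1 : I6 → Kˣ)
  simp only [lead8, List.mem_cons, List.not_mem_nil, or_false] at hr
  rcases hr with rfl | rfl | rfl | rfl | rfl | rfl | rfl | rfl
  · rw [v0]; rfl
  · rw [w0]; simp
  · rw [v2]; rfl
  · rw [w2]; simp
  · rw [v1]; rfl
  · rw [w1]; simp
  · rw [v3]; rfl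
  · rw [w3]; simp

variable [Finite K]

theorem dG_mem_normalizer {q : ℕ} {c : I6 → Kˣ} (hc : c ∈ TF K q) :
    dG c ∈ Subgroup.normalizer (twistedE6 K q : Set (GL chevE6.Idx K)) := by
  apply TwSetup.mem_normalizer_of_cj_eq
  apply Subgroup.eq_of_le_of_card_ge
  · unfold cj
    rw [Subgroup.map_le_iff_le_comap]
    show Subgroup.closure {g : GL chevE6.Idx K |
      ∃ w ∈ e6Words K q, (g : Matrix chevE6.Idx chevE6.Idx K) = chevE6.wordMat K w} ≤ _
    rw [Subgroup.closure_le]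
    rintro y ⟨w, hw, hyw⟩
    rw [SetLike.mem_coe, Subgroup.mem_comap]
    show dG c * y * (dG c)⁻¹ ∈ twistedE6 K q
    rcases hw with ⟨t, ht, r, hr, rfl⟩ | ⟨t, rs, hrs, rfl⟩
    · have e : y = (q1 r hr q t : ↥(twistedE6 K q)) := by
        rw [q1_val r hr q t ht]
        apply Units.ext
        rw [hyw, g1, AllAdd.xU_val]
        simp [ChevalleyDatum.wordMat]
      rw [e, dG_conj_q1 hc r hr t ht]
      exact (q1 r hr q _).2
    · have e : y = (q2 rs hrs q t : ↥(twistedE6 K q)) := by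
        apply Units.ext
        rw [hyw]
        show _ = ((g2 rs.1 rs.2 q t : GL chevE6.Idx K) : Matrix chevE6.Idx chevE6.Idx K)
        rw [g2, AllAdd.wordU_val]
      rw [e, dG_conj_q2 hc rs hrs t]
      exact (q2 rs hrs q _).2
  · rw [card_cj]

/-- the diagonal automorphisms of `²E₆(q)` -/
noncomputable def dAut (q : ℕ) (c : ↥(TF K q)) : MulAut ↥(twistedE6 K q) :=
  conjN (twistedE6 K q) (dG c.1) (dG_mem_normalizer c.2)

theorem dAut_val (q : ℕ) (c : ↥(TF K q)) (y : ↥(twistedE6 K q)) :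
    ((dAut q c y : ↥(twistedE6 K q)) : GL chevE6.Idx K) = dG c.1 * y * (dG c.1)⁻¹ := rfl

theorem dAut_q2 (q : ℕ) (c : ↥(TF K q)) (rs : ℕ × ℕ) (hrs : rs ∈ pairs) (t : K) :
    dAut q c (q2 rs hrs q t) = q2 rs hrs q ((chi c.1 rs.1 : K) * t) :=
  Subtype.ext (dG_conj_q2 c.2 rs hrs t)

theorem dAut_q1 (q : ℕ) (c : ↥(TF K q)) (r : ℕ) (hr : r ∈ singles) (u : K) (hu : u ^ q = u) :
    dAut q c (q1 r hr q u) = q1 r hr q ((chi c.1 r : K) * u) :=
  Subtype.ext (dG_conj_q1 c.2 r hr u hu)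

/-- `c ↦ dAut c` as a homomorphism -/
noncomputable def dAutHom (K : Type*) [Field K] [Finite K] (q : ℕ) :
    ↥(TF K q) →* MulAut ↥(twistedE6 K q) where
  toFun c := dAut q c
  map_one' := by
    apply MulEquiv.toMonoidHom_injective
    apply hom_ext_twisted q
    · intro rs hrs t
      show dAut q 1 (q2 rs hrs q t) = q2 rs hrs q t
      rw [dAut_q2]
      show q2 rs hrs q ((chi (1 : I6 → Kˣ) rs.1 : K) * t) = _
      rw [chi_one _ (pairs_lead rs hrs), Units.val_one, one_mul]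
    · intro r hr u hu
      show dAut q 1 (q1 r hr q u) = q1 r hr q u
      rw [dAut_q1 q 1 r hr u hu]
      show q1 r hr q ((chi (1 : I6 → Kˣ) r : K) * u) = _
      rw [chi_one _ (singles_lead r hr), Units.val_one, one_mul]
  map_mul' c c' := by
    apply MulEquiv.toMonoidHom_injective
    apply hom_ext_twisted q
    · intro rs hrs t
      show dAut q (c * c') (q2 rs hrs q t) = dAut q c (dAut q c' (q2 rs hrs q t))
      rw [dAut_q2, dAut_q2, dAut_q2]
      show q2 rs hrs q ((chi (c.1 * c'.1) rs.1 : K) * t) = _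
      rw [chi_mul _ _ _ (pairs_lead rs hrs), Units.val_mul, mul_assoc]
    · intro r hr u hu
      show dAut q (c * c') (q1 r hr q u) = dAut q c (dAut q c' (q1 r hr q u))
      rw [dAut_q1 q _ r hr u hu, dAut_q1 q c' r hr u hu,
        dAut_q1 q c r hr _ (by rw [mul_pow, chi_single c'.2 r hr, hu])]
      show q1 r hr q ((chi (c.1 * c'.1) r : K) * u) = _
      rw [chi_mul _ _ _ (singles_lead r hr), Units.val_mul, mul_assoc]

theorem dAutHom_apply (q : ℕ) (c : ↥(TF K q)) : dAutHom K q c = dAut q c := rfl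

end dAut

end E6

end Cfsg.Agent.Lib.Helper5.Tw
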