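import Cfsg.Agent.Lib.Helper5.Tw.E6AutB
import Cfsg.Agent.Lib.Helper5.Tw.D4AutB
import Mathlib

/-!
# Automorphisms of `²E₆(q)`: the decomposition of the automorphisms (helper5)
-/

set_option autoImplicit false
set_option maxRecDepth 100000
set_option linter.unusedSectionVars false

namespace Cfsg.Agent.Lib.Helper5.Tw

open Cfsg.Lie Cfsg.Agent.Lib.Helper5.ChevPerm Cfsg.Agent.Lib.Helper5.ChevPermB
open Cfsg.Agent.Lib.Helper5.Chev Cfsg.Agent.Lib.Helper5.AutBN
open Cfsg.Agent.Lib.Helper8.FA Cfsg.Agent.ChevAut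
open scoped Matrix

namespace E6

/-- the shape of the automorphisms preserving the eight families of generators -/
def Shape (K : Type*) [Field K] (q : ℕ) : Prop :=
  ∀ θ : ↥(twistedE6 K q) ≃* ↥(twistedE6 K q),
    (∀ rs (hrs : rs ∈ pairs) (t : K), ∃ t' : K, θ (q2 rs hrs q t) = q2 rs hrs q t') →
    (∀ r (hr : r ∈ singles) (u : K), u ^ q = u →
      ∃ u' : K, u' ^ q = u' ∧ θ (q1 r hr q u) = q1 r hr q u') →
    ∃ (c : I6 → Kˣ) (ψ : K ≃+* K), c ∈ TF K q ∧
      (∀ rs (hrs : rs ∈ pairs) (t : K),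
        θ (q2 rs hrs q t) = q2 rs hrs q ((chi c rs.1 : K) * ψ t)) ∧
      (∀ r (hr : r ∈ singles) (u : K), u ^ q = u →
        θ (q1 r hr q u) = q1 r hr q ((chi c r : K) * ψ u))

section main

variable {K : Type*} [Field K] [Fintype K]
variable (q : ℕ) (hq : IsPrimePow q) (hK : Fintype.card K = q ^ 2)

include hq hK in
/-- every automorphism of `²E₆(q)` is the product of an inner, a diagonal and a field
automorphism -/
theorem aut_split (hshape : Shape K q) (θ : MulAut ↥(twistedE6 K q)) :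
    ∃ (x : ↥(twistedE6 K q)) (c : ↥(TF K q)) (ψ : K ≃+* K),
      θ = MulAut.conj x * dAutHom K q c * fieldAutQE6 K q ψ := by
  obtain ⟨x, h1, h2, h3, h4, h5, h6, h7, h8⟩ := exists_normal_form_E6 q hq hK θ
  obtain ⟨c, ψ, hc, k2, k1⟩ := hshape (θ.trans (MulAut.conj x⁻¹))
    (by
      intro rs hrs t
      have hrs' := hrs
      simp only [pairs, e6p1, e6p6, e6m1, e6m6, e6p3, e6p5, e6m3, e6m5, List.mem_cons,
        List.not_mem_nil, or_false] at hrs'
      rcases hrs' with rfl | rfl | rfl | rfl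
      · obtain ⟨t', e⟩ := h1 t
        exact ⟨t', Subtype.ext e⟩
      · obtain ⟨t', e⟩ := h2 t
        exact ⟨t', Subtype.ext e⟩
      · obtain ⟨t', e⟩ := h3 t
        exact ⟨t', Subtype.ext e⟩
      · obtain ⟨t', e⟩ := h4 t
        exact ⟨t', Subtype.ext e⟩)
    (by
      intro r hr u hu
      have hr' := hr
      simp only [singles, e6p2, e6m2, e6p4, e6m4, List.mem_cons, List.not_mem_nil,
        or_false] at hr'
      have key : ∀ (r : ℕ) (hr : r ∈ singles),
          (∃ u' : K, u' ^ q = u' ∧ ((θ.trans (MulAut.conj x⁻¹))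
            ⟨g1 r u, g1_mem r hr q u hu⟩ : GL chevE6.Idx K) = g1 r u') →
          ∃ u' : K, u' ^ q = u' ∧ (θ.trans (MulAut.conj x⁻¹)) (q1 r hr q u) = q1 r hr q u' := by
        intro r hr ⟨u', hu', e⟩
        refine ⟨u', hu', Subtype.ext ?_⟩
        rw [q1_val r hr q u' hu', ← e]
        congr 2
        exact Subtype.ext (q1_val r hr q u hu)
      rcases hr' with rfl | rfl | rfl | rfl
      · exact key _ hr (h7 u hu)
      · exact key _ hr (h8 u hu)
      · exact key _ hr (h5 u hu)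
      · exact key _ hr (h6 u hu))
  refine ⟨x, ⟨c, hc⟩, ψ, ?_⟩
  have hhom : (θ.trans (MulAut.conj x⁻¹)).toMonoidHom
      = (dAutHom K q ⟨c, hc⟩ * fieldAutQE6 K q ψ).toMonoidHom := by
    apply hom_ext_twisted q
    · intro rs hrs t
      show (θ.trans (MulAut.conj x⁻¹)) (q2 rs hrs q t)
        = dAut q ⟨c, hc⟩ (fieldAutQE6 K q ψ (q2 rs hrs q t))
      rw [k2 rs hrs t, fieldAut_q2, dAut_q2]
    · intro r hr u hu
      show (θ.trans (MulAut.conj x⁻¹)) (q1 r hr q u)
        = dAut q ⟨c, hc⟩ (fieldAutQE6 K q ψ (q1 r hr q u))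
      rw [k1 r hr u hu, fieldAut_q1 r hr q ψ u hu, dAut_q1 q _ r hr _ (psi_fix q ψ u hu)]
  apply MulEquiv.ext
  intro y
  have h9 := congrArg (fun f : ↥(twistedE6 K q) →* ↥(twistedE6 K q) => f y) hhom
  have h10 : x⁻¹ * θ y * x⁻¹⁻¹ = dAutHom K q ⟨c, hc⟩ (fieldAutQE6 K q ψ y) := h9
  show θ y = x * (dAutHom K q ⟨c, hc⟩ (fieldAutQE6 K q ψ y)) * x⁻¹
  rw [← h10]
  group

end main

section kernel

variable {K : Type*} [Field K]

/-- conjugation of a generator by an element acting on the root elements through a character -/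
theorem conj_g2_of_char (g : GL chevE6.Idx K) (χ : ℕ → Kˣ)
    (hχ : ∀ s < chevE6.nroots, ∀ u : K, g * (hadd' (K := K)).xU s u * g⁻¹
      = (hadd' (K := K)).xU s ((χ s : K) * u))
    (r s : ℕ) (hr : r < chevE6.nroots) (hs : s < chevE6.nroots) (q : ℕ) (t : K) :
    g * g2 r s q t * g⁻¹
      = (hadd' (K := K)).wordU [(r, (χ r : K) * t), (s, (χ s : K) * t ^ q)] := by
  have h1 := conj_char_wordU (hadd' (K := K)) g χ hχ [(r, t), (s, t ^ q)] (by
      intro p hp
      simp only [List.mem_cons, List.not_mem_nil, or_false] at hp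
      rcases hp with rfl | rfl
      · exact hr
      · exact hs)
  rw [g2, h1]
  simp only [List.map_cons, List.map_nil]

/-- a subgroup generated by root subgroups is stable under conjugation by the diagonal matrix of a
character -/
theorem dG_roots_le (c : I6 → Kˣ) (P : ℕ → Prop) (hP : ∀ r, P r → r < chevE6.nroots)
    {g : GL chevE6.Idx K}
    (hg : g ∈ Subgroup.closure {x : GL chevE6.Idx K | ∃ (r : ℕ) (t : K), P r ∧
        (x : Matrix chevE6.Idx chevE6.Idx K) = chevE6.x K r t}) :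
    dG c * g * (dG c)⁻¹ ∈
      Subgroup.closure {x : GL chevE6.Idx K | ∃ (r : ℕ) (t : K), P r ∧
        (x : Matrix chevE6.Idx chevE6.Idx K) = chevE6.x K r t} := by
  have hle : Subgroup.closure {x : GL chevE6.Idx K | ∃ (r : ℕ) (t : K), P r ∧
        (x : Matrix chevE6.Idx chevE6.Idx K) = chevE6.x K r t} ≤
      (Subgroup.closure {x : GL chevE6.Idx K | ∃ (r : ℕ) (t : K), P r ∧
        (x : Matrix chevE6.Idx chevE6.Idx K) = chevE6.x K r t}).comap
        (MulAut.conj (dG c)).toMonoidHom := by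
    rw [Subgroup.closure_le]
    rintro x ⟨r, t, hr, hx⟩
    have hx' : x = (hadd' (K := K)).xU r t := Units.ext hx
    subst hx'
    rw [SetLike.mem_coe, Subgroup.mem_comap]
    show dG c * (hadd' (K := K)).xU r t * (dG c)⁻¹ ∈ _
    rw [dG_conj_xU c r (hP r hr)]
    exact Subgroup.subset_closure ⟨r, _, hr, rfl⟩
  exact hle hg

variable [Fintype K]
variable (q : ℕ) (hq : IsPrimePow q) (hK : Fintype.card K = q ^ 2)

include hq hK in
/-- if the product of a diagonal and a field automorphism is inner then the field automorphism is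
trivial and the inner automorphism is induced by an element of `H¹` -/
theorem ker_analysis (c : ↥(TF K q)) (ψ : K ≃+* K) (x : ↥(twistedE6 K q))
    (h : dAutHom K q c * fieldAutQE6 K q ψ = MulAut.conj x) :
    ψ = 1 ∧ (x : GL chevE6.Idx K) ∈ chevE6.diagonalSubgroup K := by
  obtain ⟨φ, hφ, hφ2⟩ := exists_frob hq hK
  have hφ2' : ∀ t, φ (φ t) = t := fun t => hφ2 t
  have hadd := hadd' (K := K)
  have key : ∀ (g : GL chevE6.Idx K) (hg : g ∈ twistedE6 K q),
      (x : GL chevE6.Idx K) * g * (x : GL chevE6.Idx K)⁻¹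
        = dG c.1 * Matrix.GeneralLinearGroup.map (ψ : K →+* K) g * (dG c.1)⁻¹ := by
    intro g hg
    have h1 := congrArg (fun f : MulAut ↥(twistedE6 K q) => ((f ⟨g, hg⟩ : ↥(twistedE6 K q)) :
      GL chevE6.Idx K)) h
    simp only [MulAut.mul_apply, dAutHom_apply, dAut_val, fieldAutQE6_val,
      MulAut.conj_apply] at h1
    rw [h1]
    rfl
  have hmapQ : ∀ (g : GL chevE6.Idx K), g ∈ twistedE6 K q →
      Matrix.GeneralLinearGroup.map (ψ : K →+* K) g ∈ twistedE6 K q := by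
    intro g hg
    have := (fieldAutQE6 K q ψ ⟨g, hg⟩).2
    rw [fieldAutQE6_val] at this
    exact this
  have hdQ : ∀ (g : GL chevE6.Idx K), g ∈ twistedE6 K q →
      dG c.1 * g * (dG c.1)⁻¹ ∈ twistedE6 K q := by
    intro g hg
    exact (Subgroup.mem_normalizer_iff.1 (dG_mem_normalizer c.2) g).1 hg
  -- `x` normalises `U¹` and `V¹`
  have hU : cj (x : GL chevE6.Idx K) (setup φ q hφ hφ2').U1 = (setup φ q hφ hφ2').U1 := by
    apply Subgroup.eq_of_le_of_card_ge
    · intro y hy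
      rw [mem_cj] at hy
      have hyQ := (setup φ q hφ hφ2').U1_le_Q hy
      have e : y = (x : GL chevE6.Idx K) * ((x : GL chevE6.Idx K)⁻¹ * y * x) *
          (x : GL chevE6.Idx K)⁻¹ := by group
      rw [e, key _ hyQ]
      exact ⟨dG_roots_le c.1 _ (fun r hr => hr.1) (glMap_roots_le hadd ψ _ hy.1),
        twisted_le_fix φ q hφ hφ2' (hdQ _ (hmapQ _ hyQ))⟩
    · rw [card_cj]
  have hV : cj (x : GL chevE6.Idx K) (setup φ q hφ hφ2').V1 = (setup φ q hφ hφ2').V1 := by
    apply Subgroup.eq_of_le_of_card_ge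
    · intro y hy
      rw [mem_cj] at hy
      have hyQ := (setup φ q hφ hφ2').V1_le_Q Js0 Js0_mem Js0_check hy
      have e : y = (x : GL chevE6.Idx K) * ((x : GL chevE6.Idx K)⁻¹ * y * x) *
          (x : GL chevE6.Idx K)⁻¹ := by group
      rw [e, key _ hyQ]
      exact ⟨dG_roots_le c.1 _ (fun r hr => hr.1) (glMap_roots_le hadd ψ _ hy.1),
        twisted_le_fix φ q hφ hφ2' (hdQ _ (hmapQ _ hyQ))⟩
    · rw [card_cj]
  have hxH := (setup φ q hφ hφ2').mem_H1_of_normalizes Js0 Js0_mem Js0_check Js0_check_rev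
    (x : GL chevE6.Idx K) x.2 hU hV
  refine ⟨?_, hxH.1⟩
  obtain ⟨χ, -, hχ⟩ := diag_conj_char chevE6 hE6 (x : GL chevE6.Idx K) hxH.1
  have hform : ∀ t : K, (χ 56 : K) * t = (chi c.1 56 : K) * ψ t := by
    intro t
    have h1 := conj_g2_of_char (x : GL chevE6.Idx K) χ hχ 56 36 (by decide) (by decide) q t
    have h2 := key (g2 56 36 q t) (g2_mem 56 36 (by decide) q t)
    have h3 : Matrix.GeneralLinearGroup.map (ψ : K →+* K) (g2 56 36 q t) = g2 56 36 q (ψ t) := by
      rw [g2, map_wordU, g2]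
      simp [mapWord, map_pow]
    rw [h3, dG_conj_g2 c.1 56 36 (by decide) (by decide) q
      (chi_pair c.2 (56, 36) (by decide)), h1, g2] at h2
    have h4 := (setup φ q hφ hφ2').XJ_wordL_inj jokA
      (fun r => if r = 56 then (χ 56 : K) * t else (χ 36 : K) * t ^ q)
      (fun r => if r = 56 then (chi c.1 56 : K) * ψ t else ((chi c.1 56 : K) * ψ t) ^ q)
      (by
        rw [mapA]
        simpa [wordL] using h2) 56 (by rw [mapA]; simp)
    simpa using h4
  have h1 : (χ 56 : K) = (chi c.1 56 : K) := by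
    have := hform 1
    rw [map_one, mul_one, mul_one] at this
    exact this
  apply RingEquiv.ext
  intro t
  have h2 := hform t
  rw [h1] at h2
  exact (mul_left_cancel₀ (Units.ne_zero _) h2).symm

end kernel

section torus

variable {K : Type*} [Field K] [Fintype K]
variable (q : ℕ) (hq : IsPrimePow q) (hK : Fintype.card K = q ^ 2)

include hq hK in
/-- the inner automorphism induced by an element of `H¹` is a diagonal automorphism -/
theorem exists_TF_of_H1 (x : ↥(twistedE6 K q))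
    (hx : (x : GL chevE6.Idx K) ∈ chevE6.diagonalSubgroup K) :
    ∃ c : ↥(TF K q), dAutHom K q c = MulAut.conj x := by
  obtain ⟨φ, hφ, hφ2⟩ := exists_frob hq hK
  have hφ2' : ∀ t, φ (φ t) = t := fun t => hφ2 t
  have hadd := hadd' (K := K)
  have hxH : (x : GL chevE6.Idx K) ∈ (setup φ q hφ hφ2').H1 := ⟨hx, x.2⟩
  obtain ⟨χ, hroot, e1, e2⟩ := exists_char_of_mem hE6 (x : GL chevE6.Idx K) hx
  have hχ : ∀ s < chevE6.nroots, ∀ u : K, (x : GL chevE6.Idx K) * hadd.xU s u *
      (x : GL chevE6.Idx K)⁻¹ = hadd.xU s ((χ s : K) * u) := by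
    intro s hs u
    apply Units.ext
    rw [Units.val_mul, Units.val_mul, e1, e2, AllAdd.xU_val, AllAdd.xU_val]
    exact Cfsg.Agent.S2157.result chevE6 hE6 χ hroot s hs u
  -- the conjugate of an element of the subgroup of an orbit
  have hcjmem : ∀ (J : List ℕ) (rest : List (List ℕ)),
      JOK chevE6 (setup φ q hφ hφ2').Bs (setup φ q hφ hφ2').sg J rest →
      ∀ g ∈ (setup φ q hφ hφ2').XJ J, (x : GL chevE6.Idx K) * g * (x : GL chevE6.Idx K)⁻¹
        ∈ (setup φ q hφ hφ2').XJ J := by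
    intro J rest hok g hg
    rw [← (setup φ q hφ hφ2').cj_H1_XJ hok hxH, mem_cj]
    have e : (x : GL chevE6.Idx K)⁻¹ * ((x : GL chevE6.Idx K) * g * (x : GL chevE6.Idx K)⁻¹) *
        (x : GL chevE6.Idx K) = g := by group
    rw [e]
    exact hg
  -- the two positive pairs
  have hA : (χ 36 : K) = (χ 56 : K) ^ q := by
    have h1 := hcjmem [0, 5] _ jokA _ (gA_mem_XJ φ q hφ hφ2' 1)
    obtain ⟨t', ht'⟩ := exists_of_mem_XJ_A φ q hφ hφ2' _ h1
    rw [conj_g2_of_char _ χ hχ 56 36 (by decide) (by decide) q 1, g2] at ht'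
    have h4 := (setup φ q hφ hφ2').XJ_wordL_inj jokA
      (fun r => if r = 56 then (χ 56 : K) * 1 else (χ 36 : K) * 1 ^ q)
      (fun r => if r = 56 then t' else t' ^ q)
      (by
        rw [mapA]
        simpa [wordL] using ht')
    have h5 := h4 56 (by rw [mapA]; simp)
    have h6 := h4 36 (by rw [mapA]; simp)
    simp at h5 h6
    rw [h6, ← h5]
  have hB : (χ 37 : K) = (χ 42 : K) ^ q := by
    have h1 := hcjmem [2, 4] _ jokB _ (gB_mem_XJ φ q hφ hφ2' 1)
    obtain ⟨t', ht'⟩ := exists_of_mem_XJ_B φ q hφ hφ2' _ h1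
    rw [conj_g2_of_char _ χ hχ 42 37 (by decide) (by decide) q 1, g2] at ht'
    have h4 := (setup φ q hφ hφ2').XJ_wordL_inj jokB
      (fun r => if r = 42 then (χ 42 : K) * 1 else (χ 37 : K) * 1 ^ q)
      (fun r => if r = 42 then t' else t' ^ q)
      (by
        rw [mapB]
        simpa [wordL] using ht')
    have h5 := h4 42 (by rw [mapB]; simp)
    have h6 := h4 37 (by rw [mapB]; simp)
    simp at h5 h6
    rw [h6, ← h5]
  have hC : (χ 39 : K) ^ q = (χ 39 : K) := by
    have h1 := hcjmem [3] _ jokC _ (gC_mem_XJ φ q hφ hφ2' 1 (one_pow q))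
    obtain ⟨u', hu', e⟩ := exists_of_mem_XJ_C φ q hφ hφ2' _ h1
    have h2 : (x : GL chevE6.Idx K) * g1 39 (1 : K) * (x : GL chevE6.Idx K)⁻¹
        = g1 39 ((χ 39 : K) * 1) := hχ 39 (by decide) 1
    rw [h2] at e
    have := g1_injective 39 (by decide) e
    rw [mul_one] at this
    rw [this, hu']
  have hE : (χ 46 : K) ^ q = (χ 46 : K) := by
    have h1 := hcjmem [1] _ jokE _ (gE_mem_XJ φ q hφ hφ2' 1 (one_pow q))
    obtain ⟨u', hu', e⟩ := exists_of_mem_XJ_E φ q hφ hφ2' _ h1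
    have h2 : (x : GL chevE6.Idx K) * g1 46 (1 : K) * (x : GL chevE6.Idx K)⁻¹
        = g1 46 ((χ 46 : K) * 1) := hχ 46 (by decide) 1
    rw [h2] at e
    have := g1_injective 46 (by decide) e
    rw [mul_one] at this
    rw [this, hu']
  -- the negative roots
  have n56 : χ 15 = (χ 56)⁻¹ := hroot.1 56 (by decide)
  have n36 : χ 35 = (χ 36)⁻¹ := hroot.1 36 (by decide)
  have n42 : χ 29 = (χ 42)⁻¹ := hroot.1 42 (by decide)
  have n37 : χ 34 = (χ 37)⁻¹ := hroot.1 37 (by decide)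
  have n39 : χ 32 = (χ 39)⁻¹ := hroot.1 39 (by decide)
  have n46 : χ 25 = (χ 46)⁻¹ := hroot.1 46 (by decide)
  have hA' : χ 36 = χ 56 ^ q := Units.ext (by rw [hA, Units.val_pow_eq_pow_val])
  have hB' : χ 37 = χ 42 ^ q := Units.ext (by rw [hB, Units.val_pow_eq_pow_val])
  have hC' : χ 39 ^ q = χ 39 := Units.ext (by rw [Units.val_pow_eq_pow_val, hC])
  have hE' : χ 46 ^ q = χ 46 := Units.ext (by rw [Units.val_pow_eq_pow_val, hE])
  -- the parameters
  set c : I6 → Kˣ := fun i => χ (chevE6.simple i.val) with hc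
  have hcTF : c ∈ TF K q := by
    refine ⟨?_, ?_, ?_, ?_⟩
    · show χ 36 = χ 56 ^ q
      exact hA'
    · show χ 37 = χ 42 ^ q
      exact hB'
    · show χ 46 ^ q = χ 46
      exact hE'
    · show χ 39 ^ q = χ 39
      exact hC'
  obtain ⟨v0, v1, v2, v3, v4, v5, w0, w1, w2, w3, w4, w5⟩ := chi_vals c
  have c0 : c j0 = χ 56 := rfl
  have c1 : c j1 = χ 46 := rfl
  have c2 : c j2 = χ 42 := rfl
  have c3 : c j3 = χ 39 := rfl
  have hlead : ∀ r ∈ lead8, chi c r = χ r := by
    intro r hr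
    simp only [lead8, List.mem_cons, List.not_mem_nil, or_false] at hr
    rcases hr with rfl | rfl | rfl | rfl | rfl | rfl | rfl | rfl
    · rw [v0, c0]
    · rw [w0, c0, n56]
    · rw [v2, c2]
    · rw [w2, c2, n42]
    · rw [v1, c1]
    · rw [w1, c1, n46]
    · rw [v3, c3]
    · rw [w3, c3, n39]
  have hpair : ∀ rs ∈ pairs, (χ rs.2 : K) = (χ rs.1 : K) ^ q := by
    intro rs hrs
    simp only [pairs, e6p1, e6p6, e6m1, e6m6, e6p3, e6p5, e6m3, e6m5, List.mem_cons,
      List.not_mem_nil, or_false] at hrs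
    rcases hrs with rfl | rfl | rfl | rfl
    · exact hA
    · show (χ 35 : K) = (χ 15 : K) ^ q
      rw [n36, n56, hA', ← Units.val_pow_eq_pow_val, inv_pow]
    · exact hB
    · show (χ 34 : K) = (χ 29 : K) ^ q
      rw [n37, n42, hB', ← Units.val_pow_eq_pow_val, inv_pow]
  refine ⟨⟨c, hcTF⟩, ?_⟩
  apply MulEquiv.toMonoidHom_injective
  apply hom_ext_twisted q
  · intro rs hrs t
    show dAut q ⟨c, hcTF⟩ (q2 rs hrs q t) = x * q2 rs hrs q t * x⁻¹
    rw [dAut_q2]
    apply Subtype.ext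
    show g2 rs.1 rs.2 q ((chi c rs.1 : K) * t)
      = (x : GL chevE6.Idx K) * g2 rs.1 rs.2 q t * (x : GL chevE6.Idx K)⁻¹
    rw [conj_g2_of_char _ χ hχ rs.1 rs.2 (pairs_lt rs hrs).1 (pairs_lt rs hrs).2 q t,
      hlead _ (pairs_lead rs hrs), g2, hpair rs hrs, mul_pow]
  · intro r hr u hu
    show dAut q ⟨c, hcTF⟩ (q1 r hr q u) = x * q1 r hr q u * x⁻¹
    rw [dAut_q1 q _ r hr u hu]
    apply Subtype.ext
    rw [q1_val r hr q _ (by rw [mul_pow, chi_single hcTF r hr, hu])]
    show g1 r ((chi c r : K) * u)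
      = (x : GL chevE6.Idx K) * (q1 r hr q u : ↥(twistedE6 K q)) * (x : GL chevE6.Idx K)⁻¹
    rw [q1_val r hr q u hu, hlead _ (singles_lead r hr)]
    exact (hχ r (singles_lt r hr) u).symm

end torus

end E6

end Cfsg.Agent.Lib.Helper5.Tw
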