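import Cfsg.Agent.Lib.Helper5.Tw.E6AutC
import Cfsg.Agent.Lib.Helper5.AutBN.OutTools
import Mathlib

/-!
# Automorphisms of `²E₆(q)`: the order of the outer automorphism group (helper5)
-/

set_option autoImplicit false
set_option maxRecDepth 100000
set_option linter.unusedSectionVars false

namespace Cfsg.Agent.Lib.Helper5.Tw

open Cfsg.Lie Cfsg.Agent.Lib.Helper5.ChevPerm Cfsg.Agent.Lib.Helper5.ChevPermB
open Cfsg.Agent.Lib.Helper5.Chev Cfsg.Agent.Lib.Helper5.AutBN
open Cfsg.Agent.Lib.Helper8.FA Cfsg.Agent.ChevAut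
open scoped Matrix Pointwise

namespace E6

section count

variable {K : Type*} [Field K] [Fintype K]
variable (q : ℕ) (hq : IsPrimePow q) (hK : Fintype.card K = q ^ 2)

include hq hK in
/-- the centre of `²E₆(q)` is trivial: the conjugation map is injective -/
theorem conj_injective :
    Function.Injective (MulAut.conj : ↥(twistedE6 K q) →* MulAut ↥(twistedE6 K q)) := by
  rw [injective_iff_map_eq_one]
  intro z hz
  have h1 : dAutHom K q 1 * fieldAutQE6 K q 1 = MulAut.conj z := by
    rw [map_one, map_one, one_mul, hz]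
  obtain ⟨-, hzH⟩ := ker_analysis q hq hK 1 1 z h1
  have hcomm : ∀ y : ↥(twistedE6 K q), z * y * z⁻¹ = y := by
    intro y
    have := congrArg (fun f : MulAut ↥(twistedE6 K q) => f y) hz
    exact this
  have h2 : (z : GL chevE6.Idx K) = 1 := by
    apply core hq hK
    intro y hy
    have h3 := congrArg Subtype.val (hcomm ⟨y, hy⟩)
    have h4 : (z : GL chevE6.Idx K) * y * (z : GL chevE6.Idx K)⁻¹ = y := h3
    have h5 : y * (z : GL chevE6.Idx K) * y⁻¹ = z := by
      calc y * (z : GL chevE6.Idx K) * y⁻¹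
          = ((z : GL chevE6.Idx K) * y * (z : GL chevE6.Idx K)⁻¹) * z * y⁻¹ := by rw [h4]
        _ = z := by group
    rw [h5]
    have hle : chevE6.diagonalSubgroup K ≤ chevE6.borelSubgroup K := le_sup_right
    exact hle hzH
  exact Subtype.ext h2

include hq hK in
/-- the diagonal automorphisms depend faithfully on the parameters -/
theorem dAutHom_injective : Function.Injective (dAutHom K q) := by
  obtain ⟨φ, hφ, hφ2⟩ := exists_frob hq hK
  have hφ2' : ∀ t, φ (φ t) = t := fun t => hφ2 t
  rw [injective_iff_map_eq_one]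
  intro c hc
  obtain ⟨v0, v1, v2, v3, v4, v5, -⟩ := chi_vals c.1
  obtain ⟨a1, a2, a3, a4⟩ := c.2
  have k2 : ∀ rs (hrs : rs ∈ pairs), q2 (K := K) rs hrs q ((chi c.1 rs.1 : K) * 1)
      = q2 rs hrs q 1 := by
    intro rs hrs
    have := congrArg (fun f : MulAut ↥(twistedE6 K q) => f (q2 rs hrs q 1)) hc
    simp only [dAutHom_apply, dAut_q2, MulAut.one_apply] at this
    exact this
  have k1 : ∀ r (hr : r ∈ singles), q1 (K := K) r hr q ((chi c.1 r : K) * 1) = q1 r hr q 1 := by
    intro r hr
    have := congrArg (fun f : MulAut ↥(twistedE6 K q) => f (q1 r hr q 1)) hc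
    simp only [dAutHom_apply, MulAut.one_apply] at this
    rw [dAut_q1 q c r hr 1 (one_pow q)] at this
    exact this
  have e0 : c.1 j0 = 1 := by
    have := congrArg Subtype.val (k2 (56, 36) (by decide))
    have h := gA_injective φ q hφ hφ2' this
    rw [mul_one, v0] at h
    exact Units.ext h
  have e2 : c.1 j2 = 1 := by
    have := congrArg Subtype.val (k2 (42, 37) (by decide))
    have h := gB_injective φ q hφ hφ2' this
    rw [mul_one, v2] at h
    exact Units.ext h
  have e1 : c.1 j1 = 1 := by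
    have := congrArg Subtype.val (k1 46 (by decide))
    rw [q1_val 46 _ q _ (by rw [mul_one, chi_single c.2 46 (by decide)]),
      q1_val 46 _ q 1 (one_pow q)] at this
    have h := g1_injective 46 (by decide) this
    rw [mul_one, v1] at h
    exact Units.ext h
  have e3 : c.1 j3 = 1 := by
    have := congrArg Subtype.val (k1 39 (by decide))
    rw [q1_val 39 _ q _ (by rw [mul_one, chi_single c.2 39 (by decide)]),
      q1_val 39 _ q 1 (one_pow q)] at this
    have h := g1_injective 39 (by decide) this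
    rw [mul_one, v3] at h
    exact Units.ext h
  apply Subtype.ext
  funext i
  revert i
  apply forall_I6
  · exact e0
  · exact e1
  · exact e2
  · exact e3
  · show c.1 j4 = 1
    rw [a2, e2, one_pow]
  · show c.1 j5 = 1
    rw [a1, e0, one_pow]

end count

section card

variable {K : Type*} [Field K] [Fintype K]
variable (q : ℕ) (hq : IsPrimePow q) (hK : Fintype.card K = q ^ 2)

include hq hK in
/-- the number of the parameters of the diagonal automorphisms -/
theorem card_TF : Nat.card ↥(TF K q) = (Nat.card K - 1) ^ 2 * (q - 1) ^ 2 := by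
  obtain ⟨φ, hφ, hφ2⟩ := exists_frob hq hK
  have hφ2' : ∀ t, φ (φ t) = t := fun t => hφ2 t
  have hqfix : Nat.card {a : K // φ a = a} = q := by
    rw [← card_pow_fix q 2 hq.one_lt hK]
    exact Nat.card_congr (Equiv.subtypeEquivRight (fun a => by rw [hφ]))
  rw [← card_tauFix φ q hφ hφ2' hqfix]
  apply Nat.card_congr
  apply Equiv.subtypeEquivRight
  intro c
  have hu : ∀ u : Kˣ, Units.map (φ : K →* K) u = u ^ q := by
    intro u
    apply Units.ext
    rw [Units.val_pow_eq_pow_val]
    exact hφ u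
  have hu2 : ∀ u : Kˣ, (u ^ q) ^ q = u := by
    intro u
    rw [← hu, ← hu]
    apply Units.ext
    exact hφ2' u
  obtain ⟨t0, t1, t2, t3, t4, t5⟩ := tau_vals φ q hφ hφ2' c
  constructor
  · rintro ⟨a1, a2, a3, a4⟩
    funext i
    revert i
    apply forall_I6
    · rw [t0, hu, a1, hu2]
    · rw [t1, hu, a3]
    · rw [t2, hu, a2, hu2]
    · rw [t3, hu, a4]
    · rw [t4, hu, a2]
    · rw [t5, hu, a1]
  · intro h
    have h0 := congrFun h j0
    have h1 := congrFun h j1
    have h2 := congrFun h j2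
    have h3 := congrFun h j3
    have h4 := congrFun h j4
    have h5 := congrFun h j5
    rw [t0, hu] at h0
    rw [t1, hu] at h1
    rw [t2, hu] at h2
    rw [t3, hu] at h3
    rw [t4, hu] at h4
    rw [t5, hu] at h5
    exact ⟨h5.symm, h4.symm, h1, h3⟩

include hq hK in
/-- the outer automorphism group of `²E₆(q)`: the count, assuming the shape of the automorphisms
preserving the generators -/
theorem card_out_aux (hshape : Shape K q) :
    Nat.card (Cfsg.Out ↥(twistedE6 K q)) = Nat.gcd 3 (q + 1) * Nat.card (K ≃+* K) := by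
  classical
  obtain ⟨φ, hφ, hφ2⟩ := exists_frob hq hK
  have hφ2' : ∀ t, φ (φ t) = t := fun t => hφ2 t
  have hqfix : Nat.card {a : K // φ a = a} = q := by
    rw [← card_pow_fix q 2 hq.one_lt hK]
    exact Nat.card_congr (Equiv.subtypeEquivRight (fun a => by rw [hφ]))
  set π : MulAut ↥(twistedE6 K q) →* Cfsg.Out ↥(twistedE6 K q) :=
    QuotientGroup.mk' (Cfsg.Inn ↥(twistedE6 K q)) with hπ
  have hπ1 : ∀ θ : MulAut ↥(twistedE6 K q), π θ = 1 ↔ θ ∈ Cfsg.Inn ↥(twistedE6 K q) := by
    intro θ
    exact QuotientGroup.eq_one_iff θ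
  have hπconj : ∀ x : ↥(twistedE6 K q), π (MulAut.conj x) = 1 := by
    intro x
    rw [hπ1]
    exact ⟨x, rfl⟩
  set fD : ↥(TF K q) →* Cfsg.Out ↥(twistedE6 K q) := π.comp (dAutHom K q) with hfD
  set fΦ : (K ≃+* K) →* Cfsg.Out ↥(twistedE6 K q) := π.comp (fieldAutQE6 K q) with hfΦ
  -- the two subgroups are complements
  have hdisj : Disjoint fD.range fΦ.range := by
    rw [Subgroup.disjoint_def]
    rintro o ⟨c, rfl⟩ ⟨ψ, hψ⟩
    have h1 : π ((dAutHom K q c)⁻¹ * fieldAutQE6 K q ψ) = 1 := by
      rw [map_mul, map_inv]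
      have : π (fieldAutQE6 K q ψ) = π (dAutHom K q c) := hψ
      rw [this, inv_mul_cancel]
    rw [hπ1] at h1
    obtain ⟨x, hx⟩ := h1
    have h2 : dAutHom K q c⁻¹ * fieldAutQE6 K q ψ = MulAut.conj x := by
      rw [map_inv]
      exact hx.symm
    obtain ⟨hψ1, -⟩ := ker_analysis q hq hK c⁻¹ ψ x h2
    rw [hψ1] at hψ
    show π (dAutHom K q c) = 1
    have : π (fieldAutQE6 K q 1) = π (dAutHom K q c) := hψ
    rw [← this, map_one, map_one]
  have hmul : ((fD.range : Subgroup (Cfsg.Out ↥(twistedE6 K q))) : Set (Cfsg.Out ↥(twistedE6 K q)))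
      * ((fΦ.range : Subgroup (Cfsg.Out ↥(twistedE6 K q))) : Set (Cfsg.Out ↥(twistedE6 K q)))
      = Set.univ := by
    rw [Set.eq_univ_iff_forall]
    intro o
    obtain ⟨θ, rfl⟩ := QuotientGroup.mk_surjective o
    obtain ⟨x, c, ψ, e⟩ := aut_split q hq hK hshape θ
    refine Set.mem_mul.2 ⟨fD c, ⟨c, rfl⟩, fΦ ψ, ⟨ψ, rfl⟩, ?_⟩
    show π (dAutHom K q c) * π (fieldAutQE6 K q ψ) = π θ
    rw [e, map_mul, map_mul, hπconj, one_mul]
  have hcompl := Subgroup.isComplement'_of_disjoint_and_mul_eq_univ hdisj hmul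
  have hcard := hcompl.card_mul_card
  -- the field automorphisms
  have hΦinj : Function.Injective fΦ := by
    rw [injective_iff_map_eq_one]
    intro ψ hψ
    have h1 : fieldAutQE6 K q ψ ∈ Cfsg.Inn ↥(twistedE6 K q) := (hπ1 _).1 hψ
    obtain ⟨x, hx⟩ := h1
    have h2 : dAutHom K q 1 * fieldAutQE6 K q ψ = MulAut.conj x := by
      rw [map_one, one_mul]
      exact hx.symm
    exact (ker_analysis q hq hK 1 ψ x h2).1
  have hΦcard : Nat.card fΦ.range = Nat.card (K ≃+* K) :=
    Nat.card_congr (MonoidHom.ofInjective hΦinj).toEquiv.symm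
  -- the diagonal automorphisms
  have hDcard : Nat.card ↥(TF K q) = Nat.card fD.range * Nat.card fD.ker := by
    rw [Subgroup.card_eq_card_quotient_mul_card_subgroup fD.ker]
    congr 1
    exact Nat.card_congr (QuotientGroup.quotientKerEquivRange fD).toEquiv
  have hker : ∀ c : ↥(TF K q), c ∈ fD.ker ↔
      ∃ x : ↥(twistedE6 K q), dAutHom K q c = MulAut.conj x := by
    intro c
    rw [MonoidHom.mem_ker]
    show π (dAutHom K q c) = 1 ↔ _
    rw [hπ1]
    constructor
    · rintro ⟨x, hx⟩
      exact ⟨x, hx.symm⟩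
    · rintro ⟨x, hx⟩
      exact ⟨x, hx.symm⟩
  have hkercard : Nat.card fD.ker = Nat.card ↥(chevE6.diagonalSubgroup K ⊓ twistedE6 K q) := by
    apply le_antisymm
    · -- an injection from the kernel
      have hch : ∀ c : fD.ker, ∃ x : ↥(twistedE6 K q), dAutHom K q c.1 = MulAut.conj x :=
        fun c => (hker c.1).1 c.2
      choose xf hxf using hch
      have hxH : ∀ c : fD.ker, (xf c : GL chevE6.Idx K) ∈ chevE6.diagonalSubgroup K := by
        intro c
        have h2 : dAutHom K q c.1 * fieldAutQE6 K q 1 = MulAut.conj (xf c) := by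
          rw [map_one, mul_one]
          exact hxf c
        exact (ker_analysis q hq hK c.1 1 (xf c) h2).2
      apply Nat.card_le_card_of_injective
        (fun c : fD.ker => (⟨(xf c : GL chevE6.Idx K), ⟨hxH c, (xf c).2⟩⟩ :
          ↥(chevE6.diagonalSubgroup K ⊓ twistedE6 K q)))
      intro c c' h
      have h1 : (xf c : GL chevE6.Idx K) = xf c' :=
        congrArg (fun z : ↥(chevE6.diagonalSubgroup K ⊓ twistedE6 K q) => (z : GL chevE6.Idx K)) h
      have h2 : xf c = xf c' := Subtype.ext h1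
      have h3 : dAutHom K q c.1 = dAutHom K q c'.1 := by rw [hxf c, hxf c', h2]
      exact Subtype.ext (dAutHom_injective q hq hK h3)
    · -- an injection into the kernel
      have hch : ∀ h : ↥(chevE6.diagonalSubgroup K ⊓ twistedE6 K q),
          ∃ c : ↥(TF K q), dAutHom K q c = MulAut.conj (⟨h.1, h.2.2⟩ : ↥(twistedE6 K q)) :=
        fun h => exists_TF_of_H1 q hq hK ⟨h.1, h.2.2⟩ h.2.1
      choose cf hcf using hch
      apply Nat.card_le_card_of_injective
        (fun h : ↥(chevE6.diagonalSubgroup K ⊓ twistedE6 K q) =>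
          (⟨cf h, (hker _).2 ⟨_, hcf h⟩⟩ : fD.ker))
      intro h h' e
      have h1 : cf h = cf h' := congrArg (fun z : fD.ker => (z : ↥(TF K q))) e
      have h2 : MulAut.conj (⟨h.1, h.2.2⟩ : ↥(twistedE6 K q))
          = MulAut.conj (⟨h'.1, h'.2.2⟩ : ↥(twistedE6 K q)) := by
        rw [← hcf h, ← hcf h', h1]
      have h3 := conj_injective q hq hK h2
      have h4 : (h : GL chevE6.Idx K) = h' :=
        congrArg (fun z : ↥(twistedE6 K q) => (z : GL chevE6.Idx K)) h3
      exact Subtype.ext h4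
  -- the count
  have hH1 := card_H1 φ q hφ hφ2' hq.one_lt.le
    (by rw [Nat.card_eq_fintype_card]; exact hK) hqfix
  have hTF := card_TF q hq hK
  rw [hkercard] at hDcard
  have hpos : 0 < Nat.card ↥(chevE6.diagonalSubgroup K ⊓ twistedE6 K q) := Nat.card_pos
  have hD : Nat.card fD.range = Nat.gcd 3 (q + 1) := by
    apply Nat.eq_of_mul_eq_mul_right hpos
    rw [← hDcard, hTF, hH1]
  rw [← hcard, hD, hΦcard]

end card

end E6

end Cfsg.Agent.Lib.Helper5.Tw
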