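import Cfsg.Agent.Lib.Helper5.Tw.E6AutD
import Cfsg.Agent.Lib.Lead.TwE6Shape
import Mathlib

/-!
# Automorphisms of `²E₆(q)`: the shape of the automorphisms preserving the generators (helper5)

The hypothesis `Shape K q` of `card_out_aux`, from lead's `e6_shape`.
-/

set_option autoImplicit false
set_option maxRecDepth 100000
set_option linter.unusedSectionVars false

namespace Cfsg.Agent.Lib.Helper5.Tw

open Cfsg.Lie Cfsg.Agent.Lib.Helper5.ChevPerm Cfsg.Agent.Lib.Helper5.ChevPermB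
open Cfsg.Agent.Lib.Helper5.Chev Cfsg.Agent.Lib.Helper5.AutBN
open Cfsg.Agent.Lib.Helper8.FA Cfsg.Agent.ChevAut
open scoped Matrix

namespace E6

section vals

variable {K : Type*} [Field K]

theorem q2_mat (rs : ℕ × ℕ) (hrs : rs ∈ pairs) (q : ℕ) (t : K) :
    (((q2 rs hrs q t : ↥(twistedE6 K q)) : GL chevE6.Idx K) : Matrix chevE6.Idx chevE6.Idx K)
      = chevE6.x K rs.1 t * chevE6.x K rs.2 (t ^ q) := by
  show ((g2 rs.1 rs.2 q t : GL chevE6.Idx K) : Matrix chevE6.Idx chevE6.Idx K) = _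
  rw [g2, AllAdd.wordU_val]
  simp [ChevalleyDatum.wordMat]

theorem q1_mat (r : ℕ) (hr : r ∈ singles) (q : ℕ) (u : K) (hu : u ^ q = u) :
    (((q1 r hr q u : ↥(twistedE6 K q)) : GL chevE6.Idx K) : Matrix chevE6.Idx chevE6.Idx K)
      = chevE6.x K r u := by
  rw [q1_val r hr q u hu, g1, AllAdd.xU_val]

end vals

/-- the shape of the automorphisms of `²E₆(q)` preserving the eight families of generators -/
theorem shape_E6 {K : Type*} [Field K] [Fintype K] (p f : ℕ) [Fact p.Prime] [CharP K p]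
    (hK : Fintype.card K = p ^ (2 * f)) (hf : 1 ≤ f) : Shape K (p ^ f) := by
  intro θ h2 h1
  have mA : ((56, 36) : ℕ × ℕ) ∈ pairs := by
    simp [pairs, e6p1, e6p6, e6m1, e6m6, e6p3, e6p5, e6m3, e6m5]
  have mA' : ((15, 35) : ℕ × ℕ) ∈ pairs := by
    simp [pairs, e6p1, e6p6, e6m1, e6m6, e6p3, e6p5, e6m3, e6m5]
  have mB : ((42, 37) : ℕ × ℕ) ∈ pairs := by
    simp [pairs, e6p1, e6p6, e6m1, e6m6, e6p3, e6p5, e6m3, e6m5]
  have mB' : ((29, 34) : ℕ × ℕ) ∈ pairs := by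
    simp [pairs, e6p1, e6p6, e6m1, e6m6, e6p3, e6p5, e6m3, e6m5]
  have mC : (39 : ℕ) ∈ singles := by simp [singles, e6p2, e6m2, e6p4, e6m4]
  have mC' : (32 : ℕ) ∈ singles := by simp [singles, e6p2, e6m2, e6p4, e6m4]
  have mE : (46 : ℕ) ∈ singles := by simp [singles, e6p2, e6m2, e6p4, e6m4]
  have mE' : (25 : ℕ) ∈ singles := by simp [singles, e6p2, e6m2, e6p4, e6m4]
  obtain ⟨cA, cB, cC, cE, ψ, hA0, hB0, hC0, hCq, hE0, hEq, kxA, kyA, kxB, kyB, kxC, kyC, kxE,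
      kyE⟩ :=
    Cfsg.Agent.TwRankOne.E6.e6_shape p f hK hf (twistedE6 K (p ^ f)).subtype
      Subtype.val_injective
      (q2 (56, 36) mA (p ^ f)) (q2 (15, 35) mA' (p ^ f)) (q2 (42, 37) mB (p ^ f))
      (q2 (29, 34) mB' (p ^ f)) (q1 39 mC (p ^ f)) (q1 32 mC' (p ^ f)) (q1 46 mE (p ^ f))
      (q1 25 mE' (p ^ f))
      (fun t => q2_mat (56, 36) mA (p ^ f) t) (fun t => q2_mat (15, 35) mA' (p ^ f) t)
      (fun t => q2_mat (42, 37) mB (p ^ f) t) (fun t => q2_mat (29, 34) mB' (p ^ f) t)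
      (fun u hu => q1_mat 39 mC (p ^ f) u hu) (fun u hu => q1_mat 32 mC' (p ^ f) u hu)
      (fun u hu => q1_mat 46 mE (p ^ f) u hu) (fun u hu => q1_mat 25 mE' (p ^ f) u hu)
      θ (h2 _ mA) (h2 _ mA') (h2 _ mB) (h2 _ mB') (h1 _ mC) (h1 _ mC') (h1 _ mE) (h1 _ mE')
  set uA : Kˣ := Units.mk0 cA hA0 with huA
  set uB : Kˣ := Units.mk0 cB hB0 with huB
  set uC : Kˣ := Units.mk0 cC hC0 with huC
  set uE : Kˣ := Units.mk0 cE hE0 with huE
  set c : I6 → Kˣ := mk6 uA uE uB uC (uB ^ (p ^ f)) (uA ^ (p ^ f)) with hc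
  obtain ⟨v56, v46, v42, v39, v37, v36, v15, v25, v29, v32, v34, v35⟩ := chi_vals c
  have e56 : ((chi c 56 : Kˣ) : K) = cA := by rw [v56, hc, mk6_0]; rfl
  have e15 : ((chi c 15 : Kˣ) : K) = cA⁻¹ := by
    rw [v15, hc, mk6_0, Units.val_inv_eq_inv_val]; rfl
  have e42 : ((chi c 42 : Kˣ) : K) = cB := by rw [v42, hc, mk6_2]; rfl
  have e29 : ((chi c 29 : Kˣ) : K) = cB⁻¹ := by
    rw [v29, hc, mk6_2, Units.val_inv_eq_inv_val]; rfl
  have e39 : ((chi c 39 : Kˣ) : K) = cC := by rw [v39, hc, mk6_3]; rfl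
  have e32 : ((chi c 32 : Kˣ) : K) = cC⁻¹ := by
    rw [v32, hc, mk6_3, Units.val_inv_eq_inv_val]; rfl
  have e46 : ((chi c 46 : Kˣ) : K) = cE := by rw [v46, hc, mk6_1]; rfl
  have e25 : ((chi c 25 : Kˣ) : K) = cE⁻¹ := by
    rw [v25, hc, mk6_1, Units.val_inv_eq_inv_val]; rfl
  refine ⟨c, ψ, ?_, ?_, ?_⟩
  · refine ⟨?_, ?_, ?_, ?_⟩
    · rw [hc, mk6_5, mk6_0]
    · rw [hc, mk6_4, mk6_2]
    · rw [hc, mk6_1]
      apply Units.ext
      rw [Units.val_pow_eq_pow_val]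
      exact hEq
    · rw [hc, mk6_3]
      apply Units.ext
      rw [Units.val_pow_eq_pow_val]
      exact hCq
  · intro rs hrs t
    have hrs' := hrs
    simp only [pairs, e6p1, e6p6, e6m1, e6m6, e6p3, e6p5, e6m3, e6m5, List.mem_cons,
      List.not_mem_nil, or_false] at hrs'
    rcases hrs' with rfl | rfl | rfl | rfl
    · rw [e56]; exact kxA t
    · rw [e15]; exact kyA t
    · rw [e42]; exact kxB t
    · rw [e29]; exact kyB t
  · intro r hr u hu
    have hr' := hr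
    simp only [singles, e6p2, e6m2, e6p4, e6m4, List.mem_cons, List.not_mem_nil,
      or_false] at hr'
    rcases hr' with rfl | rfl | rfl | rfl
    · rw [e46]; exact kxE u hu
    · rw [e25]; exact kyE u hu
    · rw [e39]; exact kxC u hu
    · rw [e32]; exact kyC u hu

end E6

end Cfsg.Agent.Lib.Helper5.Tw
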