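import Cfsg.Agent.Lib.Helper5.Tw.D4
import Cfsg.Agent.Lib.Helper5.Chev.HsE6
import Cfsg.Prelude.Def_LieTwisted
import Mathlib

/-!
# The twisted group of type `E₆`: the data (helper5)
-/

set_option autoImplicit false
set_option maxRecDepth 100000

namespace Cfsg.Agent.Lib.Helper5.Tw

open Cfsg.Lie Cfsg.Agent.Lib.Helper5.ChevPerm Cfsg.Agent.Lib.Helper5.ChevPermB
open Cfsg.Agent.Lib.Helper5.Chev
open scoped Matrix

namespace E6

def pi : List ℕ := [5, 1, 4, 3, 2, 0]
def sg : List ℕ := [0, 1, 2, 5, 16, 3, 6, 17, 8, 19, 22, 11, 26, 30, 33, 35, 4, 7, 18, 9, 20, 23, 10, 21, 24, 25, 12, 27, 31, 34, 13, 28, 32, 14, 29, 15, 56, 42, 57, 39, 43, 58, 37, 40, 44, 59, 46, 47, 50, 61, 48, 51, 62, 53, 64, 67, 36, 38, 41, 45, 60, 49, 52, 63, 54, 65, 68, 55, 66, 69, 70, 71]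
def ep : List ℤ := [1, 1, 1, 1, -1, 1, 1, -1, 1, -1, -1, 1, -1, 1, -1, 1, -1, -1, 1, -1, 1, 1, -1, 1, 1, 1, -1, 1, -1, 1, 1, -1, 1, -1, 1, 1, 1, 1, -1, 1, -1, 1, 1, -1, 1, -1, 1, 1, 1, -1, 1, 1, -1, 1, -1, -1, 1, -1, 1, -1, 1, -1, -1, 1, -1, 1, 1, -1, 1, 1, 1, 1]

theorem cert : GraphCert chevE6 pi sg ep := cert_of_certb _ _ _ _ (by decide +kernel)

theorem hsgi : ∀ r < chevE6.nroots, sg.getD (sg.getD r 0) 0 = r := by decide +kernel

def bsA : List (List ℕ) := [[56, 36], [39], [42, 37], [46], [43, 40], [47], [57, 38], [44], [50, 48], [58, 41], [51], [59, 45], [61, 49], [53], [60], [62, 52], [63], [64, 54], [65], [67, 55], [68, 66], [69], [70], [71]]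
def bsB : List (List ℕ) := [[42, 37], [39], [46], [56, 36], [43, 40], [47], [57, 38], [44], [50, 48], [58, 41], [51], [59, 45], [61, 49], [53], [60], [62, 52], [63], [64, 54], [65], [67, 55], [68, 66], [69], [70], [71]]
def bsC : List (List ℕ) := [[39], [42, 37], [46], [56, 36], [43, 40], [47], [57, 38], [44], [50, 48], [58, 41], [51], [59, 45], [61, 49], [53], [60], [62, 52], [63], [64, 54], [65], [67, 55], [68, 66], [69], [70], [71]]
def bsE : List (List ℕ) := [[46], [39], [42, 37], [56, 36], [43, 40], [47], [57, 38], [44], [50, 48], [58, 41], [51], [59, 45], [61, 49], [53], [60], [62, 52], [63], [64, 54], [65], [67, 55], [68, 66], [69], [70], [71]]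

theorem blockA : ∀ b ∈ bsA, BlockOK chevE6 sg b := by decide +kernel
theorem blockB : ∀ b ∈ bsB, BlockOK chevE6 sg b := by decide +kernel
theorem blockC : ∀ b ∈ bsC, BlockOK chevE6 sg b := by decide +kernel
theorem blockE : ∀ b ∈ bsE, BlockOK chevE6 sg b := by decide +kernel
theorem blockN0 : BlockOK chevE6 sg [35, 15] := by decide +kernel
theorem blockN1 : BlockOK chevE6 sg [34, 29] := by decide +kernel
theorem ordA : OrdOK chevE6 bsA.flatten :=
  ⟨by decide +kernel, by decide +kernel, by decide +kernel, by decide +kernel⟩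
theorem ordB : OrdOK chevE6 bsB.flatten :=
  ⟨by decide +kernel, by decide +kernel, by decide +kernel, by decide +kernel⟩
theorem ordC : OrdOK chevE6 bsC.flatten :=
  ⟨by decide +kernel, by decide +kernel, by decide +kernel, by decide +kernel⟩
theorem ordE : OrdOK chevE6 bsE.flatten :=
  ⟨by decide +kernel, by decide +kernel, by decide +kernel, by decide +kernel⟩
theorem shapeA : ∀ b ∈ bsA, shapeOK ep sg 2 b := by decide +kernel
theorem nodupA : bsA.flatten.Nodup := by decide +kernel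
theorem nodupB : bsB.flatten.Nodup := by decide +kernel
theorem nodupC : bsC.flatten.Nodup := by decide +kernel
theorem nodupE : bsE.flatten.Nodup := by decide +kernel

def Js : List (List ℕ) := [[56, 36], [42, 37], [39], [46]]
def Ws : List (List ℕ) := [[0, 5], [2, 4], [3], [1]]
def rcert : List (ℕ × List ℕ) := [(0, []), (2, []), (1, []), (3, []), (1, [2]), (2, [3]), (0, [1]), (2, [1]), (1, [3, 2]), (0, [2, 1]), (2, [3, 1]), (0, [1, 2, 1]), (0, [3, 2, 1]), (2, [2, 3, 1]), (2, [0, 1]), (0, [3, 1, 2, 1]), (2, [3, 0, 1]), (0, [2, 3, 1, 2, 1]), (2, [2, 3, 0, 1]), (0, [1, 2, 3, 1, 2, 1]), (0, [0, 1, 2, 3, 1, 2, 1]), (2, [1, 2, 3, 0, 1]), (2, [2, 1, 2, 3, 0, 1]), (2, [3, 2, 1, 2, 3, 0, 1])]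

theorem reachA : reachOK BsE6.Bs Js Ws bsA rcert := by decide +kernel

end E6

end Cfsg.Agent.Lib.Helper5.Tw
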