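import Cfsg.Agent.Lib.Helper5.Tw.Setup
import Mathlib

/-!
# Products of rank one identities over a set of pairwise orthogonal roots (helper5)
-/

set_option autoImplicit false

namespace Cfsg.Agent.Lib.Helper5.Tw

open Cfsg.Lie Cfsg.Agent.Lib.Helper5.ChevPerm Cfsg.Agent.Lib.Helper5.ChevPermB
open Cfsg.Agent.Lib.Helper5.Chev
open scoped Matrix

section

variable {K : Type*} [Field K] {D : ChevalleyDatum} {T : FD}

theorem rearr3 {G : Type*} [Group G] (a b A B : G) (haA : Commute a A) (haB : Commute a B)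
    (hbA : Commute b A) : a * b * a * (A * B * A) = (a * A) * (b * B) * (a * A) := by
  calc a * b * a * (A * B * A) = a * b * (a * A) * B * A := by group
    _ = a * b * (A * a) * B * A := by rw [haA.eq]
    _ = a * (b * A) * (a * B) * A := by group
    _ = a * (A * b) * (B * a) * A := by rw [hbA.eq, haB.eq]
    _ = (a * A) * (b * B) * (a * A) := by group

/-- the rank one identity `x_{-r}(s) = x_r(s⁻¹) n_r(-s⁻¹) x_r(s⁻¹)` -/
theorem rank_one_id (hadd : AllAdd K D) (r : ℕ) (s : K) (_hs : s ≠ 0) :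
    hadd.xU (D.neg r) s = hadd.xU r s⁻¹ * nUt hadd r (-s⁻¹) * hadd.xU r s⁻¹ := by
  unfold nUt
  have e1 : hadd.xU r s⁻¹ * hadd.xU r (-s⁻¹) = 1 := by
    rw [xU_mul, add_neg_cancel]
    exact Units.ext (x_zero r)
  have e2 : hadd.xU r (-s⁻¹) * hadd.xU r s⁻¹ = 1 := by
    rw [xU_mul, neg_add_cancel]
    exact Units.ext (x_zero r)
  have e3 : -(-s⁻¹)⁻¹ = s := by
    rw [inv_neg, neg_neg, inv_inv]
  rw [e3]
  calc hadd.xU (D.neg r) s = (hadd.xU r s⁻¹ * hadd.xU r (-s⁻¹)) * hadd.xU (D.neg r) s *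
        (hadd.xU r (-s⁻¹) * hadd.xU r s⁻¹) := by rw [e1, e2, one_mul, mul_one]
    _ = _ := by group

/-- the commutation of all root elements of two roots -/
def CommR (hadd : AllAdd K D) (r r' : ℕ) : Prop :=
  ∀ a b : K, Commute (hadd.xU r a) (hadd.xU r' b)

/-- two strongly orthogonal roots -/
def SOrth2 (hadd : AllAdd K D) (r r' : ℕ) : Prop :=
  CommR hadd r r' ∧ CommR hadd r (D.neg r') ∧ CommR hadd (D.neg r) r' ∧
    CommR hadd (D.neg r) (D.neg r')

theorem SOrth2.nUt_right {hadd : AllAdd K D} {r r' : ℕ} (h : SOrth2 hadd r r') (a b : K) :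
    Commute (hadd.xU r a) (nUt hadd r' b) := by
  unfold nUt
  exact ((h.1 a _).mul_right (h.2.1 a _)).mul_right (h.1 a _)

theorem SOrth2.nUt_right' {hadd : AllAdd K D} {r r' : ℕ} (h : SOrth2 hadd r r') (a b : K) :
    Commute (hadd.xU (D.neg r) a) (nUt hadd r' b) := by
  unfold nUt
  exact ((h.2.2.1 a _).mul_right (h.2.2.2 a _)).mul_right (h.2.2.1 a _)

theorem SOrth2.nUt_left {hadd : AllAdd K D} {r r' : ℕ} (h : SOrth2 hadd r r') (a b : K) :
    Commute (nUt hadd r a) (hadd.xU r' b) := by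
  unfold nUt
  exact ((h.1 _ b).mul_left (h.2.2.1 _ b)).mul_left (h.1 _ b)

theorem SOrth2.nUt_nUt {hadd : AllAdd K D} {r r' : ℕ} (h : SOrth2 hadd r r') (a b : K) :
    Commute (nUt hadd r a) (nUt hadd r' b) := by
  unfold nUt
  exact ((h.nUt_right _ b).mul_left (h.nUt_right' _ b)).mul_left (h.nUt_right _ b)

/-- the product of the `x_{-r}(s_r)` -/
def negW (hadd : AllAdd K D) (R : List ℕ) (s : ℕ → K) : GL D.Idx K :=
  (R.map fun r => hadd.xU (D.neg r) (s r)).prod

/-- the product of the `x_r(s_r⁻¹)` -/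
def posW (hadd : AllAdd K D) (R : List ℕ) (s : ℕ → K) : GL D.Idx K :=
  (R.map fun r => hadd.xU r (s r)⁻¹).prod

/-- the product of the `n_r(-s_r⁻¹)` -/
def nPr (hadd : AllAdd K D) (R : List ℕ) (s : ℕ → K) : GL D.Idx K :=
  (R.map fun r => nUt hadd r (-(s r)⁻¹)).prod

/-- the product of the `h_r(-s_r⁻¹)` -/
def hPr (hadd : AllAdd K D) (R : List ℕ) (s : ℕ → K) : GL D.Idx K :=
  (R.map fun r => nUt hadd r (-(s r)⁻¹) * nUt hadd r (-1)).prod

/-- the product of the `n_r(1)` -/
def nOne (hadd : AllAdd K D) (R : List ℕ) : GL D.Idx K :=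
  (R.map fun r => nUt hadd r (1 : K)).prod

theorem commute_list_prod {G : Type*} [Monoid G] (a : G) (L : List G)
    (h : ∀ x ∈ L, Commute a x) : Commute a L.prod := by
  induction L with
  | nil => exact Commute.one_right a
  | cons x L ih =>
    rw [List.prod_cons]
    exact (h x List.mem_cons_self).mul_right (ih fun y hy => h y (List.mem_cons_of_mem _ hy))

/-- the product of the rank one identities -/
theorem negW_eq (hadd : AllAdd K D) :
    ∀ (R : List ℕ) (s : ℕ → K), (R.Pairwise fun r r' => SOrth2 hadd r r') →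
      (∀ r ∈ R, s r ≠ 0) → negW hadd R s = posW hadd R s * nPr hadd R s * posW hadd R s
  | [], _, _, _ => by simp [negW, posW, nPr]
  | r :: R, s, horth, hs => by
    rw [List.pairwise_cons] at horth
    have ih := negW_eq hadd R s horth.2 (fun r' hr' => hs r' (List.mem_cons_of_mem _ hr'))
    have e1 : negW hadd (r :: R) s = hadd.xU (D.neg r) (s r) * negW hadd R s := by
      simp [negW]
    have e2 : posW hadd (r :: R) s = hadd.xU r (s r)⁻¹ * posW hadd R s := by simp [posW]
    have e3 : nPr hadd (r :: R) s = nUt hadd r (-(s r)⁻¹) * nPr hadd R s := by simp [nPr]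
    rw [e1, e2, e3, ih, rank_one_id hadd r (s r) (hs r List.mem_cons_self)]
    apply rearr3
    · unfold posW
      apply commute_list_prod
      intro x hx
      rw [List.mem_map] at hx
      obtain ⟨r', hr', rfl⟩ := hx
      exact (horth.1 r' hr').1 _ _
    · unfold nPr
      apply commute_list_prod
      intro x hx
      rw [List.mem_map] at hx
      obtain ⟨r', hr', rfl⟩ := hx
      exact (horth.1 r' hr').nUt_right _ _
    · unfold posW
      apply commute_list_prod
      intro x hx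
      rw [List.mem_map] at hx
      obtain ⟨r', hr', rfl⟩ := hx
      exact (horth.1 r' hr').nUt_left _ _

theorem nUt_neg_one_mul (hadd : AllAdd K D) (r : ℕ) : nUt hadd r (-1 : K) * nUt hadd r 1 = 1 := by
  rw [← nUt_inv hadd r (1 : K), inv_mul_cancel]

/-- `∏ n_r(a_r) = ∏ h_r(a_r) ∏ n_r(1)` -/
theorem nPr_eq (hadd : AllAdd K D) :
    ∀ (R : List ℕ) (s : ℕ → K), (R.Pairwise fun r r' => SOrth2 hadd r r') →
      nPr hadd R s = hPr hadd R s * nOne hadd R
  | [], _, _ => by simp [nPr, hPr, nOne]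
  | r :: R, s, horth => by
    rw [List.pairwise_cons] at horth
    have ih := nPr_eq hadd R s horth.2
    have e1 : nPr hadd (r :: R) s = nUt hadd r (-(s r)⁻¹) * nPr hadd R s := by simp [nPr]
    have e2 : hPr hadd (r :: R) s
        = nUt hadd r (-(s r)⁻¹) * nUt hadd r (-1) * hPr hadd R s := by simp [hPr]
    have e3 : nOne hadd (r :: R) = nUt hadd r (1 : K) * nOne hadd R := by simp [nOne]
    rw [e1, e2, e3, ih]
    have hc : Commute (nUt hadd r (1 : K)) (hPr hadd R s) := by
      unfold hPr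
      apply commute_list_prod
      intro x hx
      rw [List.mem_map] at hx
      obtain ⟨r', hr', rfl⟩ := hx
      exact ((horth.1 r' hr').nUt_nUt _ _).mul_right ((horth.1 r' hr').nUt_nUt _ _)
    calc nUt hadd r (-(s r)⁻¹) * (hPr hadd R s * nOne hadd R)
        = nUt hadd r (-(s r)⁻¹) * (nUt hadd r (-1) * nUt hadd r 1) *
            (hPr hadd R s * nOne hadd R) := by rw [nUt_neg_one_mul, mul_one]
      _ = nUt hadd r (-(s r)⁻¹) * nUt hadd r (-1) * (nUt hadd r 1 * hPr hadd R s) *
            nOne hadd R := by group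
      _ = nUt hadd r (-(s r)⁻¹) * nUt hadd r (-1) * (hPr hadd R s * nUt hadd r 1) *
            nOne hadd R := by rw [hc.eq]
      _ = _ := by group

theorem hPr_mem (hadd : AllAdd K D) (R : List ℕ) (hR : ∀ r ∈ R, r < D.nroots) (s : ℕ → K)
    (hs : ∀ r ∈ R, s r ≠ 0) : hPr hadd R s ∈ D.diagonalSubgroup K := by
  unfold hPr
  apply Subgroup.list_prod_mem
  intro x hx
  rw [List.mem_map] at hx
  obtain ⟨r, hr, rfl⟩ := hx
  exact hU_mem hadd r (hR r hr) _ (neg_ne_zero.2 (inv_ne_zero (hs r hr)))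

theorem posW_mem (hadd : AllAdd K D) (R : List ℕ) (s : ℕ → K) : posW hadd R s ∈ UL K D R := by
  unfold posW
  apply Subgroup.list_prod_mem
  intro x hx
  rw [List.mem_map] at hx
  obtain ⟨r, hr, rfl⟩ := hx
  exact xU_mem_UL hadd R r hr _

/-- the product of the `n_i` over a list of fundamental reflections -/
theorem nOne_eq (hA : T.Agrees D) (hadd : AllAdd K D) (J : List ℕ) (hJ : ∀ i ∈ J, i < D.rank) :
    nOne hadd (J.map D.simple) = nWordU hA hadd J := by
  unfold nOne nWordU
  rw [List.map_map]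
  congr 1
  apply List.map_congr_left
  intro i hi
  apply Units.ext
  rw [Function.comp_apply, nUt_val, nUi_val hA hadd (hJ i hi)]

end

end Cfsg.Agent.Lib.Helper5.Tw
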