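import Cfsg.Agent.Lib.Helper5.Tw.RankOneProd
import Mathlib

/-!
# The rank one subgroups of a twisted group (helper5)
-/

set_option autoImplicit false
set_option linter.unusedSectionVars false

namespace Cfsg.Agent.Lib.Helper5.Tw

open Cfsg.Lie Cfsg.Agent.Lib.Helper5.ChevPerm Cfsg.Agent.Lib.Helper5.ChevPermB
open Cfsg.Agent.Lib.Helper5.Chev
open scoped Matrix

section

variable {K : Type*} [Field K] {D : ChevalleyDatum} {T : FD}

/-- conjugation by the inverse of a word of the `n_i` -/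
theorem conj_UL_inv (hA : T.Agrees D) (hadd : AllAdd K D) (Bs : List ℕ)
    (hB : ∀ i < D.rank, ReflChecks T D i (Bs.getD i 0)) (W : List ℕ) (hW : ∀ i ∈ W, i < D.rank)
    (b : List ℕ) (hb : ∀ r ∈ b, r < D.nroots) (g : GL D.Idx K) (hg : g ∈ UL K D b) :
    (nWordU hA hadd W)⁻¹ * g * nWordU hA hadd W ∈ UL K D (b.map (wW' Bs W)) := by
  unfold UL at hg
  induction hg using Subgroup.closure_induction with
  | mem x hx =>
    obtain ⟨r, hr, t, hx⟩ := hx
    have hx' : x = hadd.xU r t := Units.ext hx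
    obtain ⟨-, t', h2⟩ := conj_word' hA hadd Bs hB W hW r (hb r hr) t
    rw [hx', h2]
    exact xU_mem_UL hadd _ _ (List.mem_map.2 ⟨r, hr, rfl⟩) _
  | one =>
    rw [mul_one, inv_mul_cancel]
    exact Subgroup.one_mem _
  | mul x y _ _ hx hy =>
    have : (nWordU hA hadd W)⁻¹ * (x * y) * nWordU hA hadd W
        = ((nWordU hA hadd W)⁻¹ * x * nWordU hA hadd W) *
          ((nWordU hA hadd W)⁻¹ * y * nWordU hA hadd W) := by group
    rw [this]
    exact Subgroup.mul_mem _ hx hy
  | inv x _ hx =>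
    have : (nWordU hA hadd W)⁻¹ * x⁻¹ * nWordU hA hadd W
        = ((nWordU hA hadd W)⁻¹ * x * nWordU hA hadd W)⁻¹ := by group
    rw [this]
    exact Subgroup.inv_mem _ hx

theorem wW'_eq_reverse (Bs : List ℕ) : ∀ (L : List ℕ) (s : ℕ), wW' Bs L s = wW Bs L.reverse s
  | [], _ => rfl
  | i :: L, s => by
    show wW' Bs L (wOf (Bs.getD i 0) s) = wW Bs (i :: L).reverse s
    rw [List.reverse_cons, wW_concat, wW'_eq_reverse Bs L]

theorem CommOK.commR (hD : D ∈ [chevG2, chevB2, chevD4, chevF4, chevE6, chevE7, chevE8])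
    (hadd : AllAdd K D) {a b : ℕ} (h : CommOK D a b) : CommR hadd a b :=
  fun t u => xU_commute hD hadd a b h.1 h.2.1 h.2.2.1 h.2.2.2.1 h.2.2.2.2 t u

theorem SO.sOrth2 (hD : D ∈ [chevG2, chevB2, chevD4, chevF4, chevE6, chevE7, chevE8])
    (hadd : AllAdd K D) {r s : ℕ} (h : SO D r s) : SOrth2 hadd r s :=
  ⟨h.1.commR hD hadd, h.2.1.commR hD hadd, h.2.2.1.commR hD hadd, h.2.2.2.commR hD hadd⟩

/-- the conjugate of an ordered product by a word of the `n_i` -/
theorem conj_wordL (hD : D ∈ [chevG2, chevB2, chevD4, chevF4, chevE6, chevE7, chevE8])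
    (hA : T.Agrees D) (hadd : AllAdd K D) (Bs : List ℕ)
    (hB : ∀ i < D.rank, ReflChecks T D i (Bs.getD i 0)) (W : List ℕ) (hW : ∀ i ∈ W, i < D.rank)
    (t : ℕ → K) :
    ∀ (R : List ℕ), (∀ r ∈ R, r < D.nroots) → R.Nodup →
      ∃ s : ℕ → K, nWordU hA hadd W * hadd.wordU (wordL R t) * (nWordU hA hadd W)⁻¹
          = (R.map fun r => hadd.xU (wW Bs W r) (s r)).prod ∧ ∀ r ∈ R, s r = 0 → t r = 0
  | [], _, _ => ⟨fun _ => 0, by simp [wordL, AllAdd.wordU], fun r hr => absurd hr List.not_mem_nil⟩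
  | r :: R, hR, hnd => by
    classical
    rw [List.nodup_cons] at hnd
    obtain ⟨s', e', hz'⟩ := conj_wordL hD hA hadd Bs hB W hW t R
      (fun r' hr' => hR r' (List.mem_cons_of_mem _ hr')) hnd.2
    have hr := hR r List.mem_cons_self
    obtain ⟨-, t', e⟩ := conj_word hA hadd Bs hB W hW r hr (t r)
    refine ⟨Function.update s' r t', ?_, ?_⟩
    · have e1 : hadd.wordU (wordL (r :: R) t) = hadd.xU r (t r) * hadd.wordU (wordL R t) := by
        simp [wordL, AllAdd.wordU]
      have e2 : (R.map fun r' => hadd.xU (wW Bs W r') (Function.update s' r t' r'))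
          = R.map fun r' => hadd.xU (wW Bs W r') (s' r') := by
        apply List.map_congr_left
        intro r' hr'
        rw [Function.update_of_ne]
        rintro rfl
        exact hnd.1 hr'
      rw [List.map_cons, List.prod_cons, Function.update_self, e2, ← e', ← e, e1]
      group
    · intro r' hr' h0
      rw [List.mem_cons] at hr'
      rcases hr' with rfl | hr'
      · rw [Function.update_self] at h0
        rw [h0] at e
        have e3 : hadd.xU (wW Bs W r') (0 : K) = 1 := Units.ext (x_zero _)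
        rw [e3] at e
        have e4 : hadd.xU r' (t r') = 1 := by
          have : hadd.xU r' (t r') = (nWordU hA hadd W)⁻¹ *
              (nWordU hA hadd W * hadd.xU r' (t r') * (nWordU hA hadd W)⁻¹) * nWordU hA hadd W := by
            group
          rw [this, e]
          group
        exact xInj_all (F := K) D hD r' hr _ (congrArg Units.val e4)
      · rw [Function.update_of_ne] at h0
        · exact hz' r' hr' h0
        · rintro rfl
          exact hnd.1 hr'

end

namespace TwSetup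

variable {K : Type*} [Field K] [Finite K] {D : ChevalleyDatum} (S : TwSetup K D)

/-- the fixed points of the subgroup of the roots of an orbit -/
noncomputable def XJ (J : List ℕ) : Subgroup (GL D.Idx K) :=
  UL K D (J.map D.simple) ⊓ fixS S.c S.φ

/-- the fixed points of the subgroup of the other positive roots -/
noncomputable def YJ (rest : List (List ℕ)) : Subgroup (GL D.Idx K) :=
  UL K D rest.flatten ⊓ fixS S.c S.φ

include S

theorem UL_le_pos {J : List ℕ} {rest : List (List ℕ)} (hok : JOK D S.Bs S.sg J rest)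
    (L : List ℕ) (hL : ∀ r ∈ L, r ∈ ((J.map D.simple) :: rest).flatten) :
    UL K D L ≤ D.posUnipotent K := by
  rw [← UL_eq_posUnipotent (K := K) hok.ord]
  exact UL_mono hL

theorem XJ_le_U1 {J : List ℕ} {rest : List (List ℕ)} (hok : JOK D S.Bs S.sg J rest) :
    S.XJ J ≤ S.U1 := by
  intro g hg
  refine ⟨S.UL_le_pos hok _ ?_ hg.1, hg.2⟩
  intro r hr
  rw [List.flatten_cons]
  exact List.mem_append_left _ hr

theorem YJ_le_U1 {J : List ℕ} {rest : List (List ℕ)} (hok : JOK D S.Bs S.sg J rest) :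
    S.YJ rest ≤ S.U1 := by
  intro g hg
  refine ⟨S.UL_le_pos hok _ ?_ hg.1, hg.2⟩
  intro r hr
  rw [List.flatten_cons]
  exact List.mem_append_right _ hr

/-- a fixed element of `U` is a product of a fixed element of the subgroup of the orbit and a
fixed element of the subgroup of the other roots -/
theorem U1_split {J : List ℕ} {rest : List (List ℕ)} (hok : JOK D S.Bs S.sg J rest)
    (g : GL D.Idx K) (hg : g ∈ S.U1) : ∃ x ∈ S.XJ J, ∃ y ∈ S.YJ rest, g = x * y := by
  obtain ⟨hg1, hg2⟩ := hg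
  rw [← UL_eq_posUnipotent (K := K) hok.ord] at hg1
  obtain ⟨t, rfl⟩ := exists_wordL S.hD S.hadd _ hok.ord.good _ hg1
  have hfix := (fixed_iff S.hD S.c S.φ S.hadd S.sgi S.hsgi _ hok.block hok.ord t).1 hg2
  rw [List.flatten_cons, wordL_append, wordU_append] at hg2 ⊢
  have hx : S.hadd.wordU (wordL (J.map D.simple) t) ∈ S.XJ J := by
    refine ⟨wordU_wordL_mem S.hadd _ _ (fun r hr => hr) _, ?_⟩
    show _ ∈ fixS S.c S.φ
    rw [mem_fixS, sigma_block S.hD S.c S.φ S.hadd S.sgi S.hsgi _ (hok.block _ List.mem_cons_self)]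
    congr 1
    apply wordL_congr
    intro r hr
    apply hfix r
    rw [List.flatten_cons]
    exact List.mem_append_left _ hr
  refine ⟨_, hx, _, ⟨wordU_wordL_mem S.hadd _ _ (fun r hr => hr) _, ?_⟩, rfl⟩
  have : S.hadd.wordU (wordL rest.flatten t)
      = (S.hadd.wordU (wordL (J.map D.simple) t))⁻¹ *
        (S.hadd.wordU (wordL (J.map D.simple) t) * S.hadd.wordU (wordL rest.flatten t)) := by
    group
  rw [this]
  exact Subgroup.mul_mem _ (Subgroup.inv_mem _ hx.2) hg2

/-- the same with the factors in the other order -/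
theorem U1_split' {J : List ℕ} {rest : List (List ℕ)} (hok : JOK D S.Bs S.sg J rest)
    (g : GL D.Idx K) (hg : g ∈ S.U1) : ∃ y ∈ S.YJ rest, ∃ x ∈ S.XJ J, g = y * x := by
  obtain ⟨x, hx, y, hy, e⟩ := S.U1_split hok g⁻¹ (Subgroup.inv_mem _ hg)
  refine ⟨y⁻¹, Subgroup.inv_mem _ hy, x⁻¹, Subgroup.inv_mem _ hx, ?_⟩
  rw [← mul_inv_rev, ← e, inv_inv]

theorem rest_lt {J : List ℕ} {rest : List (List ℕ)} (hok : JOK D S.Bs S.sg J rest) :
    ∀ r ∈ rest.flatten, r < D.nroots := by
  intro r hr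
  have := hok.ord.pos r (by rw [List.flatten_cons]; exact List.mem_append_right _ hr)
  exact this.1

theorem rJ_lt {J : List ℕ} {rest : List (List ℕ)} (hok : JOK D S.Bs S.sg J rest) :
    ∀ r ∈ J.map D.simple, r < D.nroots := by
  intro r hr
  have := hok.ord.pos r (by rw [List.flatten_cons]; exact List.mem_append_left _ hr)
  exact this.1

/-- `n_J` normalises the fixed points of the subgroup of the other roots -/
theorem nJ_conj_YJ {J : List ℕ} (hJ : J ∈ S.Ws) {rest : List (List ℕ)}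
    (hok : JOK D S.Bs S.sg J rest) (y : GL D.Idx K) (hy : y ∈ S.YJ rest) :
    S.nW J * y * (S.nW J)⁻¹ ∈ S.YJ rest ∧ (S.nW J)⁻¹ * y * S.nW J ∈ S.YJ rest := by
  have hJw : ∀ i ∈ J, i < D.rank := fun i hi => (S.isWord_iff J).1 (S.O.word J hJ) i hi
  have hnf : S.nW J ∈ fixS S.c S.φ := S.hQfix (S.hnQ J hJ)
  constructor
  · refine ⟨?_, Subgroup.mul_mem _ (Subgroup.mul_mem _ hnf hy.2) (Subgroup.inv_mem _ hnf)⟩
    have := conj_UL S.hA S.hadd S.Bs S.hB J hJw rest.flatten (S.rest_lt hok) y hy.1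
    refine UL_mono ?_ this
    intro r hr
    rw [List.mem_map] at hr
    obtain ⟨r', hr', rfl⟩ := hr
    exact (hok.stab r' hr').1
  · refine ⟨?_, Subgroup.mul_mem _ (Subgroup.mul_mem _ (Subgroup.inv_mem _ hnf) hy.2) hnf⟩
    have := conj_UL_inv S.hA S.hadd S.Bs S.hB J hJw rest.flatten (S.rest_lt hok) y hy.1
    refine UL_mono ?_ this
    intro r hr
    rw [List.mem_map] at hr
    obtain ⟨r', hr', rfl⟩ := hr
    exact (hok.stab r' hr').2

/-- the fixed elements of the subgroup of an orbit, in coordinates -/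
theorem XJ_param {J : List ℕ} {rest : List (List ℕ)} (hok : JOK D S.Bs S.sg J rest)
    (x : GL D.Idx K) (hx : x ∈ S.XJ J) :
    ∃ t : ℕ → K, x = S.hadd.wordU (wordL (J.map D.simple) t) ∧
      ∀ r ∈ J.map D.simple, twP S.φ S.ep S.sgi t r = t r :=
  fix_first_block S.hD S.c S.φ S.hadd S.sgi S.hsgi _ rest hok.block hok.ord hok.nodup x hx

/-- the coordinates of a fixed element of the subgroup of an orbit are all zero or all non-zero -/
theorem XJ_coord_ne {J : List ℕ} (hJ : J ∈ S.Ws) (t : ℕ → K)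
    (hfix : ∀ r ∈ J.map D.simple, twP S.φ S.ep S.sgi t r = t r) {r0 : ℕ}
    (hr0 : r0 ∈ J.map D.simple) (h0 : t r0 ≠ 0) : ∀ r ∈ J.map D.simple, t r ≠ 0 := by
  rw [List.mem_map] at hr0
  obtain ⟨i, hi, rfl⟩ := hr0
  intro r hr
  rw [List.mem_map] at hr
  obtain ⟨j, hj, rfl⟩ := hr
  obtain ⟨k, -, hk⟩ := S.O.orbit J hJ i hi j hj
  have key : ∀ k : ℕ, (fun x => S.pi.getD x 0)^[k] i ∈ J ∧
      t (D.simple ((fun x => S.pi.getD x 0)^[k] i)) ≠ 0 := by
    intro k
    induction k with
    | zero => exact ⟨hi, h0⟩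
    | succ k ih =>
      rw [Function.iterate_succ_apply']
      set i' := (fun x => S.pi.getD x 0)^[k] i with hi'
      have hi'J := ih.1
      have hi'l : i' < D.rank := (S.isWord_iff J).1 (S.O.word J hJ) i' hi'J
      have hpi : S.pi.getD i' 0 < D.rank := S.c.pi_lt i' hi'l
      have hmem := S.O.stable J hJ i' hi'J
      refine ⟨hmem, ?_⟩
      have e1 : S.sg.getD (D.simple i') 0 = D.simple (S.pi.getD i' 0) := by
        have := S.G.sg_p i' (by show i' < S.T.rank; rw [S.hl]; exact hi'l)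
        rw [FD.simple_eq' S.hA i' hi'l, FD.simple_eq' S.hA _ hpi]
        exact this
      have e2 := hfix (D.simple (S.pi.getD i' 0)) (List.mem_map.2 ⟨_, hmem, rfl⟩)
      unfold twP at e2
      rw [← e1, S.hsgi _ (simple_lt' S.hA hi'l)] at e2
      rw [← e1, ← e2]
      apply mul_ne_zero (epF_ne_zero S.c _ (simple_lt' S.hA hi'l))
      rw [Ne, map_eq_zero_iff S.φ S.hφ.1]
      exact ih.2
  rw [← hk]
  exact (key k).2

/-- the rank one decomposition: a non-trivial element of the opposite subgroup of an orbit lies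
in `X_J H n_J X_J` -/
theorem rank_one {J : List ℕ} (hJ : J ∈ S.Ws) {rest : List (List ℕ)}
    (hok : JOK D S.Bs S.sg J rest) (x : GL D.Idx K) (hx : x ∈ S.XJ J) (hx1 : x ≠ 1) :
    ∃ a ∈ S.XJ J, ∃ h ∈ D.diagonalSubgroup K ⊓ S.Q,
      S.nW J * x * (S.nW J)⁻¹ = a * (h * S.nW J) * a := by
  have hadd := S.hadd
  have hJw : ∀ i ∈ J, i < D.rank := fun i hi => (S.isWord_iff J).1 (S.O.word J hJ) i hi
  have hnQ : S.nW J ∈ S.Q := S.hnQ J hJ
  have hnf : S.nW J ∈ fixS S.c S.φ := S.hQfix hnQ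
  have hxQ : x ∈ S.Q := S.U1_le_Q (S.XJ_le_U1 hok hx)
  obtain ⟨t, rfl, hfix⟩ := S.XJ_param hok x hx
  -- the coordinates are non-zero
  have hex : ∃ r0 ∈ J.map D.simple, t r0 ≠ 0 := by
    by_contra hcon
    push Not at hcon
    exact hx1 (wordU_wordL_zero S.hadd _ _ hcon)
  obtain ⟨r0, hr0, h0⟩ := hex
  have hne := S.XJ_coord_ne hJ t hfix hr0 h0
  have hnd : (J.map D.simple).Nodup := by
    have := hok.nodup
    rw [List.flatten_cons, List.nodup_append] at this
    exact this.1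
  obtain ⟨s, es, hs0⟩ := conj_wordL S.hD S.hA S.hadd S.Bs S.hB J hJw t (J.map D.simple)
    (S.rJ_lt hok) hnd
  have hsne : ∀ r ∈ J.map D.simple, s r ≠ 0 := fun r hr h => hne r hr (hs0 r hr h)
  have e1 : ((J.map D.simple).map fun r => S.hadd.xU (wW S.Bs J r) (s r)).prod
      = negW S.hadd (J.map D.simple) s := by
    unfold negW
    congr 1
    apply List.map_congr_left
    intro r hr
    rw [(hok.negJ r hr).1]
  have horth : (J.map D.simple).Pairwise fun r r' => SOrth2 S.hadd r r' :=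
    hok.orth.imp fun h => h.sOrth2 S.hD S.hadd
  have e2 : nWordU S.hA S.hadd J = S.nW J := rfl
  rw [e1, negW_eq S.hadd _ s horth hsne, nPr_eq S.hadd _ s horth, nOne_eq S.hA S.hadd J hJw, e2]
    at es
  set a := posW S.hadd (J.map D.simple) s with ha
  set h := hPr S.hadd (J.map D.simple) s with hh
  have haUL : a ∈ UL K D (J.map D.simple) := posW_mem S.hadd _ s
  have hhH : h ∈ D.diagonalSubgroup K := hPr_mem S.hadd _ (S.rJ_lt hok) s hsne
  have haU : a ∈ D.posUnipotent K := S.UL_le_pos hok _ (by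
    intro r hr
    rw [List.flatten_cons]
    exact List.mem_append_left _ hr) haUL
  have hmN : h * S.nW J ∈ D.monomialSubgroup K := Subgroup.mul_mem _ (S.hHN hhH) (S.nW_mem J)
  -- `a` lies in `U_m⁻`
  have haneg : a ∈ Subgroup.closure (unegSet K D (h * S.nW J)) := by
    have hle : UL K D (J.map D.simple) ≤ Subgroup.closure (unegSet K D (h * S.nW J)) := by
      apply Subgroup.closure_mono
      rintro g ⟨r, hr, u, hg⟩
      apply unegSet_diag_mul S.hD _ h hhH
      have hrlt := S.rJ_lt hok r hr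
      have hrpos : D.IsPosRoot r := hok.ord.pos r (by
        rw [List.flatten_cons]
        exact List.mem_append_left _ hr)
      refine ⟨r, u, hrpos, ?_, hg⟩
      have := (map_root_le_neg_iff S.hD S.hA S.hadd S.Bs S.hB J hJw 1 (Subgroup.one_mem _) r
        hrlt).2 (by
          rw [(hok.negJ r hr).1, FD.neg_eq' S.hA r hrlt, ← S.hn]
          have h2 := (S.hV.neg_sign r (by show r < S.T.nroots; rw [S.hn]; exact hrlt)).2 (by
            show S.T.nroots / 2 ≤ r
            rw [S.hn]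
            exact (pos_iff_all D S.hD r hrlt).1 hrpos)
          exact h2)
      rw [mul_one] at this
      exact this
    exact hle haUL
  -- the conjugate is fixed
  have hyfix : sigma S.c S.φ (a * (h * S.nW J) * a) = a * (h * S.nW J) * a := by
    rw [← es]
    have : S.nW J * S.hadd.wordU (wordL (J.map D.simple) t) * (S.nW J)⁻¹ ∈ fixS S.c S.φ :=
      Subgroup.mul_mem _ (Subgroup.mul_mem _ hnf hx.2) (Subgroup.inv_mem _ hnf)
    exact this
  rw [map_mul, map_mul] at hyfix
  have hs1 := sigma_pos_mem S.c S.φ S.hadd S.hpos S.hD a haU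
  have hs2 := sigma_mono_mem S.c S.φ S.hadd S.hφ.1 _ hmN
  have hs3 := sigma_uneg_mem S.c S.φ S.hadd S.hpos S.hD S.hφ.2 _ a haneg
  have hnn := bruhat_sharp_unique D S.hD _ _ _ _ _ _ hs1 haU hs2 hmN hs3 haneg hyfix
  have huu := (bruhat_unique_all D S.hD _ _ _ _ _ _ (S.hUB hs1) (S.hUB haU) hs2 hmN hs3 haneg
    hyfix).2 hnn
  have haX : a ∈ S.XJ J := ⟨haUL, huu.1⟩
  have haQ : a ∈ S.Q := S.U1_le_Q (S.XJ_le_U1 hok haX)
  refine ⟨a, haX, h, ⟨hhH, ?_⟩, es⟩
  have : h = a⁻¹ * (S.nW J * S.hadd.wordU (wordL (J.map D.simple) t) * (S.nW J)⁻¹) * a⁻¹ *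
      (S.nW J)⁻¹ := by
    rw [es]
    group
  rw [this]
  exact Subgroup.mul_mem _ (Subgroup.mul_mem _ (Subgroup.mul_mem _ (Subgroup.inv_mem _ haQ)
    (Subgroup.mul_mem _ (Subgroup.mul_mem _ hnQ hxQ) (Subgroup.inv_mem _ hnQ)))
    (Subgroup.inv_mem _ haQ)) (Subgroup.inv_mem _ hnQ)

end TwSetup

end Cfsg.Agent.Lib.Helper5.Tw
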