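import Cfsg.Agent.Lib.Helper5.Tw.Count
import Mathlib

/-!
# The fixed points in `U` lie in the subgroup generated by the fixed points of the fundamental blocks (helper5)
-/

set_option autoImplicit false

namespace Cfsg.Agent.Lib.Helper5.Tw

open Cfsg.Lie Cfsg.Agent.Lib.Helper5.ChevPerm Cfsg.Agent.Lib.Helper5.ChevPermB
open Cfsg.Agent.Lib.Helper5.Chev
open scoped Matrix

section

variable {K : Type*} [Field K] {D : ChevalleyDatum} {T : FD} {pi sg : List ℕ} {ep : List ℤ}

theorem wW_lt' (hA : T.Agrees D) (Bs : List ℕ)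
    (hB : ∀ i < D.rank, ReflChecks T D i (Bs.getD i 0)) (W : List ℕ) (hW : ∀ i ∈ W, i < D.rank)
    (s : ℕ) (hs : s < D.nroots) : wW Bs W s < D.nroots := by
  induction W with
  | nil => exact hs
  | cons i W ih =>
    exact ((hB i (hW i List.mem_cons_self)).cert hA).w_lt _
      (ih (fun j hj => hW j (List.mem_cons_of_mem _ hj)))

theorem wW'_wW (hA : T.Agrees D) (Bs : List ℕ)
    (hB : ∀ i < D.rank, ReflChecks T D i (Bs.getD i 0)) (W : List ℕ) (hW : ∀ i ∈ W, i < D.rank)
    (s : ℕ) (hs : s < D.nroots) : wW' Bs W (wW Bs W s) = s := by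
  induction W with
  | nil => rfl
  | cons i W ih =>
    have hW' : ∀ j ∈ W, j < D.rank := fun j hj => hW j (List.mem_cons_of_mem _ hj)
    show wW' Bs W (wOf (Bs.getD i 0) (wOf (Bs.getD i 0) (wW Bs W s))) = s
    rw [((hB i (hW i List.mem_cons_self)).cert hA).w_w _ (wW_lt' hA Bs hB W hW' s hs), ih hW']

/-- conjugation by a word of the `n_i` carries the subgroup of a list of roots into the subgroup
of the image list -/
theorem conj_UL (hA : T.Agrees D) (hadd : AllAdd K D) (Bs : List ℕ)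
    (hB : ∀ i < D.rank, ReflChecks T D i (Bs.getD i 0)) (W : List ℕ) (hW : ∀ i ∈ W, i < D.rank)
    (b : List ℕ) (hb : ∀ r ∈ b, r < D.nroots) (g : GL D.Idx K) (hg : g ∈ UL K D b) :
    nWordU hA hadd W * g * (nWordU hA hadd W)⁻¹ ∈ UL K D (b.map (wW Bs W)) := by
  unfold UL at hg
  induction hg using Subgroup.closure_induction with
  | mem x hx =>
    obtain ⟨r, hr, t, hx⟩ := hx
    have hx' : x = hadd.xU r t := Units.ext hx
    obtain ⟨-, t', h2⟩ := conj_word hA hadd Bs hB W hW r (hb r hr) t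
    rw [hx', h2]
    exact xU_mem_UL hadd _ _ (List.mem_map.2 ⟨r, hr, rfl⟩) _
  | one =>
    rw [mul_one, mul_inv_cancel]
    exact Subgroup.one_mem _
  | mul x y _ _ hx hy =>
    have : nWordU hA hadd W * (x * y) * (nWordU hA hadd W)⁻¹
        = (nWordU hA hadd W * x * (nWordU hA hadd W)⁻¹) *
          (nWordU hA hadd W * y * (nWordU hA hadd W)⁻¹) := by group
    rw [this]
    exact Subgroup.mul_mem _ hx hy
  | inv x _ hx =>
    have : nWordU hA hadd W * x⁻¹ * (nWordU hA hadd W)⁻¹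
        = (nWordU hA hadd W * x * (nWordU hA hadd W)⁻¹)⁻¹ := by group
    rw [this]
    exact Subgroup.inv_mem _ hx

theorem conj_UL' (hA : T.Agrees D) (hadd : AllAdd K D) (Bs : List ℕ)
    (hB : ∀ i < D.rank, ReflChecks T D i (Bs.getD i 0)) (W : List ℕ) (hW : ∀ i ∈ W, i < D.rank)
    (b : List ℕ) (hb : ∀ r ∈ b, r < D.nroots) (g : GL D.Idx K)
    (hg : g ∈ UL K D (b.map (wW Bs W))) :
    (nWordU hA hadd W)⁻¹ * g * nWordU hA hadd W ∈ UL K D b := by
  unfold UL at hg
  induction hg using Subgroup.closure_induction with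
  | mem x hx =>
    obtain ⟨r', hr', t, hx⟩ := hx
    obtain ⟨r, hr, rfl⟩ := List.mem_map.1 hr'
    have hx' : x = hadd.xU (wW Bs W r) t := Units.ext hx
    obtain ⟨-, t', h2⟩ := conj_word' hA hadd Bs hB W hW _ (wW_lt' hA Bs hB W hW r (hb r hr)) t
    rw [hx', h2, wW'_wW hA Bs hB W hW r (hb r hr)]
    exact xU_mem_UL hadd _ _ hr _
  | one =>
    rw [mul_one, inv_mul_cancel]
    exact Subgroup.one_mem _
  | mul x y _ _ hx hy =>
    have : (nWordU hA hadd W)⁻¹ * (x * y) * nWordU hA hadd W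
        = ((nWordU hA hadd W)⁻¹ * x * nWordU hA hadd W) *
          ((nWordU hA hadd W)⁻¹ * y * nWordU hA hadd W) := by group
    rw [this]
    exact Subgroup.mul_mem _ hx hy
  | inv x _ hx =>
    have : (nWordU hA hadd W)⁻¹ * x⁻¹ * nWordU hA hadd W
        = ((nWordU hA hadd W)⁻¹ * x * nWordU hA hadd W)⁻¹ := by group
    rw [this]
    exact Subgroup.inv_mem _ hx

/-- the fixed elements of the subgroup of a block conjugate to a block whose fixed elements lie in
`Q` lie in `Q` -/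
theorem fix_block_le (hA : T.Agrees D) (hadd : AllAdd K D) (Bs : List ℕ)
    (hB : ∀ i < D.rank, ReflChecks T D i (Bs.getD i 0)) (c : GraphCert D pi sg ep) (φ : K →+* K)
    (Q : Subgroup (GL D.Idx K)) (hQ : Q ≤ fixS c φ) (J b W : List ℕ)
    (hJ : UL K D J ⊓ fixS c φ ≤ Q) (hWQ : nWordU hA hadd W ∈ Q) (hW : ∀ i ∈ W, i < D.rank)
    (hJlt : ∀ r ∈ J, r < D.nroots) (hb : ∀ r ∈ b, r ∈ J.map (wW Bs W)) :
    UL K D b ⊓ fixS c φ ≤ Q := by
  rintro g ⟨hg1, hg2⟩
  have hg1' : g ∈ UL K D (J.map (wW Bs W)) := UL_mono hb hg1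
  have h1 := conj_UL' hA hadd Bs hB W hW J hJlt g hg1'
  have hnf : nWordU hA hadd W ∈ fixS c φ := hQ hWQ
  have h2 : (nWordU hA hadd W)⁻¹ * g * nWordU hA hadd W ∈ fixS c φ :=
    Subgroup.mul_mem _ (Subgroup.mul_mem _ (Subgroup.inv_mem _ hnf) hg2) hnf
  have h3 := hJ ⟨h1, h2⟩
  have : g = nWordU hA hadd W * ((nWordU hA hadd W)⁻¹ * g * nWordU hA hadd W) *
      (nWordU hA hadd W)⁻¹ := by group
  rw [this]
  exact Subgroup.mul_mem _ (Subgroup.mul_mem _ hWQ h3) (Subgroup.inv_mem _ hWQ)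

theorem wordU_flatten (hadd : AllAdd K D) (bs : List (List ℕ)) (t : ℕ → K) :
    hadd.wordU (wordL bs.flatten t) = (bs.map fun b => hadd.wordU (wordL b t)).prod := by
  induction bs with
  | nil => rfl
  | cons b bs ih =>
    rw [List.flatten_cons, wordL_append, wordU_append, ih, List.map_cons, List.prod_cons]

/-- the fixed elements of `U` lie in a subgroup containing the fixed elements of the blocks -/
theorem fix_le_of_blocks [Finite K]
    (hD : D ∈ [chevG2, chevB2, chevD4, chevF4, chevE6, chevE7, chevE8])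
    (c : GraphCert D pi sg ep) (φ : K →+* K) (hadd : AllAdd K D) (sgi : List ℕ)
    (hsgi : ∀ r < D.nroots, sgi.getD (sg.getD r 0) 0 = r) (bs : List (List ℕ))
    (hb : ∀ b ∈ bs, BlockOK D sg b) (hord : OrdOK D bs.flatten)
    (Q : Subgroup (GL D.Idx K)) (hblock : ∀ b ∈ bs, UL K D b ⊓ fixS c φ ≤ Q) :
    D.posUnipotent K ⊓ fixS c φ ≤ Q := by
  rintro g ⟨hg1, hg2⟩
  have hU := UL_eq_posUnipotent (K := K) hord
  rw [← hU] at hg1
  obtain ⟨t, rfl⟩ := exists_wordL hD hadd _ hord.good _ hg1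
  have hfix := (fixed_iff hD c φ hadd sgi hsgi bs hb hord t).1 hg2
  rw [wordU_flatten]
  apply Subgroup.list_prod_mem
  intro x hx
  rw [List.mem_map] at hx
  obtain ⟨b, hbm, rfl⟩ := hx
  apply hblock b hbm
  refine ⟨wordU_wordL_mem hadd _ _ (fun r hr => hr) _, ?_⟩
  show hadd.wordU (wordL b t) ∈ fixS c φ
  rw [mem_fixS, sigma_block hD c φ hadd sgi hsgi b (hb b hbm)]
  congr 1
  apply wordL_congr
  intro r hr
  exact hfix r (List.mem_flatten.2 ⟨b, hbm, hr⟩)

theorem nWordU_append (hA : T.Agrees D) (hadd : AllAdd K D) (A B : List ℕ) :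
    nWordU hA hadd (A ++ B) = nWordU hA hadd A * nWordU hA hadd B := by
  unfold nWordU
  rw [List.map_append, List.prod_append]

/-- the certificate that each block is the image of a fundamental block under a word in the
fundamental orbit words -/
def reachOK (Bs : List ℕ) (Js Ws : List (List ℕ)) (bs : List (List ℕ))
    (cert : List (ℕ × List ℕ)) : Prop :=
  bs.length = cert.length ∧ ∀ k < bs.length,
    (cert.getD k (0, [])).1 < Js.length ∧ (∀ j ∈ (cert.getD k (0, [])).2, j < Ws.length) ∧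
    ∀ r ∈ bs.getD k [], r ∈ (Js.getD (cert.getD k (0, [])).1 []).map
      (wW Bs ((cert.getD k (0, [])).2.flatMap fun j => Ws.getD j []))

instance (Bs : List ℕ) (Js Ws : List (List ℕ)) (bs : List (List ℕ)) (cert : List (ℕ × List ℕ)) :
    Decidable (reachOK Bs Js Ws bs cert) := by
  unfold reachOK
  infer_instance

theorem fix_le_of_reach [Finite K]
    (hD : D ∈ [chevG2, chevB2, chevD4, chevF4, chevE6, chevE7, chevE8])
    (hA : T.Agrees D) (hadd : AllAdd K D) (Bs : List ℕ)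
    (hB : ∀ i < D.rank, ReflChecks T D i (Bs.getD i 0))
    (c : GraphCert D pi sg ep) (φ : K →+* K) (sgi : List ℕ)
    (hsgi : ∀ r < D.nroots, sgi.getD (sg.getD r 0) 0 = r) (bs : List (List ℕ))
    (hb : ∀ b ∈ bs, BlockOK D sg b) (hord : OrdOK D bs.flatten)
    (Q : Subgroup (GL D.Idx K)) (hQ : Q ≤ fixS c φ) (Js Ws : List (List ℕ))
    (cert : List (ℕ × List ℕ)) (hreach : reachOK Bs Js Ws bs cert)
    (hJ : ∀ J ∈ Js, (∀ r ∈ J, r < D.nroots) ∧ UL K D J ⊓ fixS c φ ≤ Q)
    (hW : ∀ W ∈ Ws, (∀ i ∈ W, i < D.rank) ∧ nWordU hA hadd W ∈ Q) :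
    D.posUnipotent K ⊓ fixS c φ ≤ Q := by
  apply fix_le_of_blocks hD c φ hadd sgi hsgi bs hb hord Q
  intro b hbm
  obtain ⟨k, hk, rfl⟩ := List.mem_iff_getElem.1 hbm
  obtain ⟨h1, h2, h3⟩ := hreach.2 k hk
  rw [List.getD_eq_getElem _ _ hk] at h3
  set j0 := (cert.getD k (0, [])).1
  set js := (cert.getD k (0, [])).2
  have hJm : Js.getD j0 [] ∈ Js := by
    rw [List.getD_eq_getElem _ _ h1]
    exact List.getElem_mem _
  have hWs : ∀ js' : List ℕ, (∀ j ∈ js', j < Ws.length) →
      (∀ i ∈ js'.flatMap fun j => Ws.getD j [], i < D.rank) ∧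
        nWordU hA hadd (js'.flatMap fun j => Ws.getD j []) ∈ Q := by
    intro js'
    induction js' with
    | nil =>
      intro _
      refine ⟨fun i hi => absurd hi List.not_mem_nil, ?_⟩
      rw [List.flatMap_nil]
      exact Subgroup.one_mem _
    | cons j js' ih =>
      intro hlt
      obtain ⟨ih1, ih2⟩ := ih (fun j' hj' => hlt j' (List.mem_cons_of_mem _ hj'))
      have hjm : Ws.getD j [] ∈ Ws := by
        rw [List.getD_eq_getElem _ _ (hlt j List.mem_cons_self)]
        exact List.getElem_mem _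
      obtain ⟨hw1, hw2⟩ := hW _ hjm
      rw [List.flatMap_cons]
      refine ⟨?_, ?_⟩
      · intro i hi
        rcases List.mem_append.1 hi with h | h
        · exact hw1 i h
        · exact ih1 i h
      · rw [nWordU_append]
        exact Subgroup.mul_mem _ hw2 ih2
  obtain ⟨hw1, hw2⟩ := hWs js h2
  exact fix_block_le hA hadd Bs hB c φ Q hQ (Js.getD j0 []) bs[k] _ (hJ _ hJm).2 hw2 hw1
    (hJ _ hJm).1 h3


theorem wordU_wordL_zero (hadd : AllAdd K D) (L : List ℕ) (t : ℕ → K) (h : ∀ r ∈ L, t r = 0) :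
    hadd.wordU (wordL L t) = 1 := by
  induction L with
  | nil => rfl
  | cons r L ih =>
    have e1 : wordL (r :: L) t = (r, t r) :: wordL L t := rfl
    rw [e1, wordU_cons, ih (fun s hs => h s (List.mem_cons_of_mem _ hs)), h r List.mem_cons_self,
      mul_one]
    exact Units.ext (x_zero r)

theorem GoodL_of_pairwise : ∀ (b : List ℕ), (∀ r ∈ b, r < D.nroots) →
    (b.Pairwise fun r s => s ≠ r ∧ s ≠ D.neg r ∧ D.commTerms r s = []) → GoodL D b
  | [], _, _ => trivial
  | r :: b, hlt, hp => by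
    rw [List.pairwise_cons] at hp
    refine ⟨⟨hlt r List.mem_cons_self, fun s hs => ?_⟩,
      GoodL_of_pairwise b (fun s hs => hlt s (List.mem_cons_of_mem _ hs)) hp.2⟩
    obtain ⟨h1, h2, h3⟩ := hp.1 s hs
    refine ⟨hlt s (List.mem_cons_of_mem _ hs), h1, h2, ?_⟩
    intro c hc
    rw [h3] at hc
    exact absurd hc List.not_mem_nil

/-- the fixed elements of the subgroup of the first block of an order, in coordinates -/
theorem fix_first_block [Finite K]
    (hD : D ∈ [chevG2, chevB2, chevD4, chevF4, chevE6, chevE7, chevE8])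
    (c : GraphCert D pi sg ep) (φ : K →+* K) (hadd : AllAdd K D) (sgi : List ℕ)
    (hsgi : ∀ r < D.nroots, sgi.getD (sg.getD r 0) 0 = r) (J : List ℕ) (rest : List (List ℕ))
    (hb : ∀ b ∈ J :: rest, BlockOK D sg b) (hord : OrdOK D (J :: rest).flatten)
    (hnd : (J :: rest).flatten.Nodup) (g : GL D.Idx K) (hg : g ∈ UL K D J ⊓ fixS c φ) :
    ∃ t : ℕ → K, g = hadd.wordU (wordL J t) ∧ ∀ r ∈ J, twP φ ep sgi t r = t r := by
  classical
  have hJ := hb J List.mem_cons_self
  obtain ⟨t1, ht1⟩ := exists_wordL hD hadd J (GoodL_of_pairwise J hJ.lt hJ.comm) g hg.1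
  have hc : wordL J (fun r => if r ∈ J then t1 r else 0) = wordL J t1 :=
    wordL_congr _ _ _ (fun r hr => if_pos hr)
  rw [List.flatten_cons, List.nodup_append] at hnd
  have hz : hadd.wordU (wordL rest.flatten (fun r => if r ∈ J then t1 r else 0)) = 1 := by
    apply wordU_wordL_zero
    intro r hr
    exact if_neg (fun h => hnd.2.2 r h r hr rfl)
  have hfull : hadd.wordU (wordL (J :: rest).flatten (fun r => if r ∈ J then t1 r else 0)) = g := by
    rw [List.flatten_cons, wordL_append, wordU_append, hz, mul_one, hc, ← ht1]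
  have hfix : hadd.wordU (wordL (J :: rest).flatten (fun r => if r ∈ J then t1 r else 0))
      ∈ fixS c φ := by rw [hfull]; exact hg.2
  have h2 := (fixed_iff hD c φ hadd sgi hsgi (J :: rest) hb hord _).1 hfix
  refine ⟨fun r => if r ∈ J then t1 r else 0, by rw [hc, ← ht1], ?_⟩
  intro r hr
  apply h2 r
  rw [List.flatten_cons]
  exact List.mem_append_left _ hr

end

end Cfsg.Agent.Lib.Helper5.Tw
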