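import Cfsg.Agent.Lib.Helper5.Tw.WeylFixSum
import Mathlib

/-!
# The sum over the fixed elements along a chain of parabolic subgroups (helper5)
-/

set_option autoImplicit false

namespace Cfsg.Agent.Lib.Helper5.Tw

open Cfsg.Lie Cfsg.Agent.Lib.Helper5.Chev

/-- the fixed representatives -/
def fixCerts (W : WD) (piL : List ℕ) (certs : List PcEntry) : List PcEntry :=
  certs.filter fun c => decide (FixS W piL c.1)

/-- the product of the sums `∑ q ^ l(x)` over the fixed representatives -/
def chainPolyF (W : WD) (piL : List ℕ) (q : ℕ) : PcChainData → ℕ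
  | [] => 1
  | (_, certs) :: rest =>
    ((fixCerts W piL certs).map fun c => q ^ c.1.length).sum * chainPolyF W piL q rest

/-- the product of the polynomials of the levels -/
def chainZF (W : WD) (piL : List ℕ) : PcChainData → List ℤ
  | [] => [1]
  | (_, certs) :: rest =>
    mulZ (histo ((fixCerts W piL certs).map fun c => c.1.length)) (chainZF W piL rest)

theorem cast_chainPolyF (W : WD) (piL : List ℕ) (q : ℕ) :
    ∀ ch : PcChainData, ((chainPolyF W piL q ch : ℕ) : ℤ) = evalZ (chainZF W piL ch) q
  | [] => by simp [chainPolyF, chainZF, evalZ]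
  | (_, certs) :: rest => by
    rw [chainPolyF, chainZF, evalZ_mulZ, Nat.cast_mul, cast_chainPolyF W piL q rest, evalZ_histo]
    congr 1
    rw [List.map_map]
    induction (fixCerts W piL certs) with
    | nil => simp
    | cons c certs ih =>
      rw [List.map_cons, List.sum_cons, Nat.cast_add, ih, List.map_cons, List.sum_cons]
      simp

/-- a subset stable under the graph automorphism -/
def stableL (piL piiL : List ℕ) (K : List ℕ) : Prop :=
  ∀ i ∈ K, piL.getD i 0 ∈ K ∧ piiL.getD i 0 ∈ K

instance (piL piiL K : List ℕ) : Decidable (stableL piL piiL K) := by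
  unfold stableL
  infer_instance

/-- the subsets of a chain are stable -/
def chainStable (piL piiL : List ℕ) : PcChainData → Prop
  | [] => True
  | (K', _) :: rest => stableL piL piiL K' ∧ chainStable piL piiL rest

instance (piL piiL : List ℕ) : (ch : PcChainData) → Decidable (chainStable piL piiL ch)
  | [] => isTrue trivial
  | (K', _) :: rest => by
    unfold chainStable
    haveI := instDecidableChainStable piL piiL rest
    infer_instance

section

variable {T : FD} {D : ChevalleyDatum}

variable (hD : D ∈ [chevG2, chevB2, chevD4, chevF4, chevE6, chevE7, chevE8])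
  (hA : T.Agrees D) (Bs : List ℕ) (mLL : List (List ℕ))
  (hB : ∀ i < D.rank, ReflChecks T D i (Bs.getD i 0)) (h1 : Cox1 T Bs)
  (h2 : ∀ i < T.rank, ∀ j < T.rank, i ≠ j → Cox2 T Bs mLL i j)
  {piL piiL sgL sgiL : List ℕ}

include hD hA hB h1 h2 in
/-- a step along the chain, from the check -/
theorem psumF_step_check (G : GraphW (wdOf T Bs mLL) piL piiL sgL sgiL) (KL KL' : List ℕ)
    (hK : stableL piL piiL KL) (hK' : stableL piL piiL KL') (certs : List PcEntry)
    (hc : levelOK (wdOf T Bs mLL) KL KL' certs = true) (q : ℕ) :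
    psumF (wdOf T Bs mLL) sgL {i | i ∈ KL'} q
      = ((fixCerts (wdOf T Bs mLL) piL certs).map fun c => q ^ c.1.length).sum *
        psumF (wdOf T Bs mLL) sgL {i | i ∈ KL} q := by
  obtain ⟨hok, hasc⟩ := repsOK_of_check Bs mLL KL KL' certs hc
  have hV := wdOf_valid hA Bs mLL hB h1 h2
  have key := psumF_step hD hA Bs mLL hB h1 h2 G {i | i ∈ KL} {i | i ∈ KL'}
    (fun i _ hi => hK i hi) (fun i _ hi => (hK' i hi).1) _ hok q
  rw [key]
  congr 1
  unfold fixCerts
  rw [List.filter_map, List.map_map]
  apply congrArg List.sum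
  apply List.map_congr_left
  intro c hcm
  have hcm' := (List.mem_filter.1 hcm).1
  show q ^ (wdOf T Bs mLL).inv c.1 = q ^ c.1.length
  rw [hV.inv_eq_length c.1 (hasc c hcm').1 (hasc c hcm').2]

include hD hA hB h1 h2 in
/-- the sum along a chain -/
theorem psumF_chain (G : GraphW (wdOf T Bs mLL) piL piiL sgL sgiL) (q : ℕ) :
    ∀ (K : List ℕ) (ch : PcChainData), stableL piL piiL K → chainStable piL piiL ch →
    chainOK (wdOf T Bs mLL) K ch = true →
    psumF (wdOf T Bs mLL) sgL {i | i ∈ lastK K ch} q
      = chainPolyF (wdOf T Bs mLL) piL q ch * psumF (wdOf T Bs mLL) sgL {i | i ∈ K} q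
  | K, [], _, _, _ => by rw [lastK, chainPolyF, one_mul]
  | K, (K', certs) :: rest, hK, hst, h => by
    rw [chainOK, Bool.and_eq_true] at h
    rw [lastK, chainPolyF, psumF_chain G q K' rest hst.1 hst.2 h.2,
      psumF_step_check hD hA Bs mLL hB h1 h2 G K K' hK hst.1 certs h.1 q]
    ring

include hD hA hB h1 h2 in
/-- the sum over the fixed elements of the whole group along a chain from the empty set -/
theorem psumF_univ_chain (G : GraphW (wdOf T Bs mLL) piL piiL sgL sgiL) (q : ℕ)
    (ch : PcChainData) (hst : chainStable piL piiL ch)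
    (hch : chainOK (wdOf T Bs mLL) [] ch = true) (hall : ∀ i < T.rank, i ∈ lastK [] ch) :
    psumF (wdOf T Bs mLL) sgL Set.univ q = chainPolyF (wdOf T Bs mLL) piL q ch := by
  rw [psumF_congr _ _ Set.univ {i | i ∈ lastK [] ch}
      (fun i hi => ⟨fun _ => hall i hi, fun _ => trivial⟩),
    psumF_chain hD hA Bs mLL hB h1 h2 G q [] ch (fun i hi => absurd hi (by simp)) hst hch,
    psumF_congr _ _ {i | i ∈ ([] : List ℕ)} ∅ (fun i _ => by simp), psumF_empty, mul_one]

end

end Cfsg.Agent.Lib.Helper5.Tw
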