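import Cfsg.Agent.Lib.Helper5.Tw.BruhatFix
import Cfsg.Agent.Lib.Helper5.Tw.WeylFixChain
import Cfsg.Agent.Lib.Helper5.Tw.Reach
import Cfsg.Agent.Lib.Helper5.Chev.ChevCard
import Mathlib

/-!
# The setting of a twisted group inside a Chevalley group (helper5)
-/

set_option autoImplicit false

namespace Cfsg.Agent.Lib.Helper5.Tw

open Cfsg.Lie Cfsg.Agent.Lib.Helper5.ChevPerm Cfsg.Agent.Lib.Helper5.ChevPermB
open Cfsg.Agent.Lib.Helper5.Chev
open scoped Matrix

/-- the decidable condition for the commutation of the root elements of two roots -/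
def CommOK (D : ChevalleyDatum) (a b : ℕ) : Prop :=
  a < D.nroots ∧ b < D.nroots ∧ b ≠ a ∧ b ≠ D.neg a ∧ D.commTerms a b = []

instance (D : ChevalleyDatum) (a b : ℕ) : Decidable (CommOK D a b) := by
  unfold CommOK
  infer_instance

/-- two strongly orthogonal roots, decidably -/
def SO (D : ChevalleyDatum) (r s : ℕ) : Prop :=
  CommOK D r s ∧ CommOK D r (D.neg s) ∧ CommOK D (D.neg r) s ∧ CommOK D (D.neg r) (D.neg s)

instance (D : ChevalleyDatum) (r s : ℕ) : Decidable (SO D r s) := by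
  unfold SO
  infer_instance

/-- the data attached to an orbit `J` of fundamental roots: an order of the positive roots in
blocks, starting with the block of `J` -/
structure JOK (D : ChevalleyDatum) (Bs : List ℕ) (sg : List ℕ) (J : List ℕ)
    (rest : List (List ℕ)) : Prop where
  block : ∀ b ∈ (J.map D.simple) :: rest, BlockOK D sg b
  ord : OrdOK D ((J.map D.simple) :: rest).flatten
  nodup : ((J.map D.simple) :: rest).flatten.Nodup
  stab : ∀ r ∈ rest.flatten, wW Bs J r ∈ rest.flatten ∧ wW' Bs J r ∈ rest.flatten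
  negJ : ∀ r ∈ J.map D.simple, wW Bs J r = D.neg r ∧ wW' Bs J r = D.neg r
  orth : (J.map D.simple).Pairwise fun r s => SO D r s

/-- the setting: a Chevalley group with the checked data, a graph automorphism, a field
automorphism, and a subgroup `Q` of fixed points containing the fixed points of `U` and the
elements `n_J` -/
structure TwSetup (K : Type*) [Field K] (D : ChevalleyDatum) where
  hD : D ∈ [chevG2, chevB2, chevD4, chevF4, chevE6, chevE7, chevE8]
  T : FD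
  hA : T.Agrees D
  Bs : List ℕ
  mLL : List (List ℕ)
  hB : ∀ i < D.rank, ReflChecks T D i (Bs.getD i 0)
  h1 : Cox1 T Bs
  h2 : ∀ i < T.rank, ∀ j < T.rank, i ≠ j → Cox2 T Bs mLL i j
  gH : ℕ
  baseH : List ℕ
  fuel : ℕ
  hr : reachb T Bs gH baseH fuel = true
  hbase : ∀ s ∈ baseH, ∃ j < D.rank, s = D.simple j
  pi : List ℕ
  pii : List ℕ
  sg : List ℕ
  sgi : List ℕ
  ep : List ℤ
  c : GraphCert D pi sg ep
  G : GraphW (wdOf T Bs mLL) pi pii sg sgi
  Ws : List (List ℕ)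
  O : OrbOK (wdOf T Bs mLL) pi Ws
  hep : ∀ i < D.rank, ep.getD (D.simple i) 1 = 1
  jok : ∀ J ∈ Ws, ∃ rest, JOK D Bs sg J rest
  Jne : ∀ J ∈ Ws, J ≠ []
  winj : ∀ J ∈ Ws, ∀ J' ∈ Ws,
    (∀ k < D.rank, wW Bs J (D.simple k) = wW Bs J' (D.simple k)) → J = J'
  φ : K →+* K
  hφ : Function.Bijective φ
  Q : Subgroup (GL D.Idx K)
  hQG : Q ≤ D.group K
  hQfix : Q ≤ fixS c φ
  hUQ : D.posUnipotent K ⊓ fixS c φ ≤ Q
  hnQ : ∀ J ∈ Ws, nWordU hA (allAdd_all D hD) J ∈ Q

namespace TwSetup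

variable {K : Type*} [Field K] {D : ChevalleyDatum} (S : TwSetup K D)

include S

theorem hadd : AllAdd K D := allAdd_all D S.hD

theorem hH : ∀ s < D.nroots, HForm K D s := hform_all' D S.hD

theorem hl : S.T.rank = D.rank := S.hA.rank_eq

theorem hn : S.T.nroots = D.nroots := S.hA.nroots_eq

/-- the data of the Weyl group -/
def W : WD := wdOf S.T S.Bs S.mLL

theorem hV : S.W.Valid := wdOf_valid S.hA S.Bs S.mLL S.hB S.h1 S.h2

theorem hR : S.W.RankTwo := wdOf_rankTwo S.hA S.Bs S.mLL S.hB S.h1 S.h2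

theorem hm : ∀ i < S.W.l, ∀ j < S.W.l, i ≠ j → 1 ≤ S.W.m i j :=
  fun i hi j hj hij => (S.h2 i hi j hj hij).m_pos

theorem hpos : ∀ r < D.nroots, (D.nroots / 2 ≤ S.sg.getD r 0 ↔ D.nroots / 2 ≤ r) := by
  intro r hr
  have := S.G.sg_pos r (by show r < S.T.nroots; rw [S.hn]; exact hr)
  show D.nroots / 2 ≤ S.sg.getD r 0 ↔ D.nroots / 2 ≤ r
  rw [← S.hn]
  exact this

theorem hsgi : ∀ r < D.nroots, S.sgi.getD (S.sg.getD r 0) 0 = r := by
  intro r hr
  exact S.G.sgi_sg r (by show r < S.T.nroots; rw [S.hn]; exact hr)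

theorem isWord_iff (L : List ℕ) : S.W.IsWord L ↔ ∀ i ∈ L, i < D.rank := by
  unfold WD.IsWord
  show (∀ x ∈ L, x < S.T.rank) ↔ _
  rw [S.hl]

/-- the word of `n_i` -/
noncomputable def nW (L : List ℕ) : GL D.Idx K := nWordU S.hA S.hadd L

theorem nW_mem (L : List ℕ) : S.nW L ∈ D.monomialSubgroup K := nWordU_mem S.hA S.hadd L

theorem nW_append (A B : List ℕ) : S.nW (A ++ B) = S.nW A * S.nW B :=
  nWordU_append S.hA S.hadd A B

theorem hNH : D.monomialSubgroup K ≤ Subgroup.normalizer (D.diagonalSubgroup K : Set (GL D.Idx K)) :=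
  (Subgroup.normal_subgroupOf_iff_le_normalizer le_sup_left).1 (diagonal_normal_all D S.hD)

theorem hHU : D.diagonalSubgroup K ≤ Subgroup.normalizer (D.posUnipotent K : Set (GL D.Idx K)) :=
  (borel_semidirect_all (F := K) D S.hD).1

theorem hUB : D.posUnipotent K ≤ D.borelSubgroup K := le_sup_left

theorem hHB : D.diagonalSubgroup K ≤ D.borelSubgroup K := le_sup_right

theorem hHN : D.diagonalSubgroup K ≤ D.monomialSubgroup K := le_sup_left

/-- the fixed points of `U` -/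
noncomputable def U1 : Subgroup (GL D.Idx K) := D.posUnipotent K ⊓ fixS S.c S.φ

theorem U1_le_Q : S.U1 ≤ S.Q := S.hUQ

theorem U1_le_B : S.U1 ≤ D.borelSubgroup K := inf_le_left.trans S.hUB

/-- an element of `B ∩ Q` is a product of a fixed element of `U` and an element of `H ∩ Q` -/
theorem borel1_decomp (b : GL D.Idx K) (hb : b ∈ D.borelSubgroup K ⊓ S.Q) :
    ∃ u ∈ S.U1, ∃ h ∈ D.diagonalSubgroup K ⊓ S.Q, b = u * h := by
  obtain ⟨u, hu, h, hh, rfl, e1, e2⟩ := borel_fix S.hD S.c S.φ S.hφ S.hpos b hb.1 (S.hQfix hb.2)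
  have hu1 : u ∈ S.U1 := ⟨hu, e1⟩
  refine ⟨u, hu1, h, ⟨hh, ?_⟩, rfl⟩
  have : h = u⁻¹ * (u * h) := by group
  rw [this]
  exact Subgroup.mul_mem _ (Subgroup.inv_mem _ (S.U1_le_Q hu1)) hb.2

/-- the image of `n_i` under the twisting endomorphism -/
theorem sigma_nUi (i : ℕ) (hi : i < D.rank) :
    sigma S.c S.φ (nUi S.hA S.hadd i) = nUi S.hA S.hadd (S.pi.getD i 0) := by
  have hpi : S.pi.getD i 0 < D.rank := S.c.pi_lt i hi
  have e : ∀ j < D.rank, nUi S.hA S.hadd j = nUt S.hadd (D.simple j) 1 := by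
    intro j hj
    apply Units.ext
    rw [nUi_val S.hA S.hadd hj, nUt_val]
  rw [e i hi, e _ hpi, sigma_nUt S.c S.φ S.hadd _ (simple_lt' S.hA hi), map_one, mul_one]
  have e1 : S.sg.getD (D.simple i) 0 = D.simple (S.pi.getD i 0) := by
    have := S.G.sg_p i (by show i < S.T.rank; rw [S.hl]; exact hi)
    rw [FD.simple_eq' S.hA i hi, FD.simple_eq' S.hA _ hpi]
    exact this
  have e2 : epF K S.ep (D.simple i) = 1 := by
    unfold epF
    rw [S.hep i hi]
    simp
  rw [e1, e2]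

theorem sigma_nW (L : List ℕ) (hL : ∀ i ∈ L, i < D.rank) :
    sigma S.c S.φ (S.nW L) = S.nW (mapW S.pi L) := by
  induction L with
  | nil =>
    show sigma S.c S.φ (nWordU S.hA S.hadd []) = nWordU S.hA S.hadd []
    simp [nWordU]
  | cons i L ih =>
    have e1 : S.nW (i :: L) = nUi S.hA S.hadd i * S.nW L := by
      show nWordU S.hA S.hadd (i :: L) = _
      simp [nWordU, nW]
    have e2 : S.nW (mapW S.pi (i :: L)) = nUi S.hA S.hadd (S.pi.getD i 0) * S.nW (mapW S.pi L) := by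
      show nWordU S.hA S.hadd (mapW S.pi (i :: L)) = _
      simp [nWordU, nW, mapW]
    rw [e1, e2, map_mul, S.sigma_nUi i (hL i List.mem_cons_self),
      ih (fun j hj => hL j (List.mem_cons_of_mem _ hj))]

/-- a fixed element `n_L h` of `N`: the word acts as a fixed element of the Weyl group -/
theorem mono_fixw (L : List ℕ) (hL : ∀ i ∈ L, i < D.rank) (h : GL D.Idx K)
    (hh : h ∈ D.diagonalSubgroup K) (hfix : sigma S.c S.φ (S.nW L * h) = S.nW L * h) :
    Fixw S.W S.pi L := by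
  have hLw : S.W.IsWord L := (S.isWord_iff L).2 hL
  have hL'w : S.W.IsWord (mapW S.pi L) := mapW_isWord S.G hLw
  rw [map_mul, S.sigma_nW L hL] at hfix
  have hsh := sigma_diag_mem S.c S.φ S.hadd S.hφ.1 h hh
  have hmem : (S.nW L)⁻¹ * S.nW (mapW S.pi L) ∈ D.diagonalSubgroup K := by
    have : (S.nW L)⁻¹ * S.nW (mapW S.pi L) = h * (sigma S.c S.φ h)⁻¹ := by
      calc (S.nW L)⁻¹ * S.nW (mapW S.pi L)
          = (S.nW L)⁻¹ * (S.nW (mapW S.pi L) * sigma S.c S.φ h) * (sigma S.c S.φ h)⁻¹ := by group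
        _ = _ := by rw [hfix]; group
    rw [this]
    exact Subgroup.mul_mem _ hh (Subgroup.inv_mem _ hsh)
  have := act_eq_of_inv_mul_mem S.hD S.hA S.hadd S.Bs S.mLL S.hB S.h1 S.h2 S.hH L (mapW S.pi L)
    hLw hL'w hmem
  intro r hr
  exact (this r hr).symm

/-- the products of the `n_J` lie in `Q` -/
theorem nJs_mem (Js : List (List ℕ)) (hJs : ∀ J ∈ Js, J ∈ S.Ws) : S.nW Js.flatten ∈ S.Q := by
  induction Js with
  | nil =>
    show nWordU S.hA S.hadd [] ∈ S.Q
    simp [nWordU]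
  | cons J Js ih =>
    rw [List.flatten_cons, S.nW_append]
    exact Subgroup.mul_mem _ (S.hnQ J (hJs J List.mem_cons_self))
      (ih (fun J' hJ' => hJs J' (List.mem_cons_of_mem _ hJ')))

/-- an element of `N ∩ Q` is a word in the `n_i`, acting as a fixed element, times an element of
`H` -/
theorem mono1_word (n : GL D.Idx K) (hn : n ∈ D.monomialSubgroup K ⊓ S.Q) :
    ∃ L : List ℕ, (∀ i ∈ L, i < D.rank) ∧ Fixw S.W S.pi L ∧
      ∃ h ∈ D.diagonalSubgroup K, n = S.nW L * h := by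
  obtain ⟨L, hL, h, hh, rfl⟩ := monomial_le_NWH S.hA S.hadd S.Bs S.hB S.hH S.gH S.baseH S.fuel
    S.hr S.hbase hn.1
  exact ⟨L, hL, S.mono_fixw L hL h hh (S.hQfix hn.2), h, hh, rfl⟩

/-- an element of `N ∩ Q` is a product of the `n_J` times an element of `H ∩ Q` -/
theorem mono1_decomp (n : GL D.Idx K) (hn : n ∈ D.monomialSubgroup K ⊓ S.Q) :
    ∃ Js : List (List ℕ), (∀ J ∈ Js, J ∈ S.Ws) ∧
      ∃ h ∈ D.diagonalSubgroup K ⊓ S.Q, n = S.nW Js.flatten * h := by
  obtain ⟨L, hL, hf, h, hh, rfl⟩ := S.mono1_word n hn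
  have hLw : S.W.IsWord L := (S.isWord_iff L).2 hL
  obtain ⟨Js, hJs, hact⟩ := fixw_gen S.hA S.Bs S.mLL S.hB S.h1 S.h2 S.G S.O _ L hLw hf rfl
  have hJw : S.W.IsWord Js.flatten := by
    intro x hx
    rw [List.mem_flatten] at hx
    obtain ⟨J, hJ, hxJ⟩ := hx
    exact S.O.word J (hJs J hJ) x hxJ
  have hmem := nWordU_inv_mul_mem_of_act_eq S.hD S.hA S.hadd S.Bs S.mLL S.hB S.h1 S.h2
    Js.flatten L hJw hLw (fun r hr => (hact r hr).symm)
  have hQ1 := S.nJs_mem Js hJs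
  refine ⟨Js, hJs, (S.nW Js.flatten)⁻¹ * S.nW L * h, ⟨Subgroup.mul_mem _ hmem hh, ?_⟩, by group⟩
  have : (S.nW Js.flatten)⁻¹ * S.nW L * h = (S.nW Js.flatten)⁻¹ * (S.nW L * h) := by group
  rw [this]
  exact Subgroup.mul_mem _ (Subgroup.inv_mem _ hQ1) hn.2

end TwSetup

end Cfsg.Agent.Lib.Helper5.Tw
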