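import Cfsg.Agent.Lib.Helper5.ChevPermB
import Cfsg.Agent.Lib.Helper5.Chev.Groups
import Mathlib

/-!
# The twisting endomorphism of a Chevalley group (helper5)

A graph symmetry (given by a checked certificate) composed with a field endomorphism.
-/

set_option autoImplicit false

namespace Cfsg.Agent.Lib.Helper5.Tw

open Cfsg.Lie Cfsg.Agent.Lib.Helper5.ChevPerm Cfsg.Agent.Lib.Helper5.ChevPermB
open Cfsg.Agent.Lib.Helper5.Chev
open scoped Matrix

variable {K : Type*} [Field K] {D : ChevalleyDatum} {pi sg : List ℕ} {ep : List ℤ}

/-- the root elements have entries polynomial in the parameter with integer coefficients -/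
theorem xMat_map (φ : K →+* K) (r : Fin D.nroots) (t : K) :
    (D.xMat K r t).map φ = D.xMat K r (φ t) := by
  ext row col
  simp only [Matrix.map_apply, ChevalleyDatum.xMat, Matrix.of_apply]
  rcases col with i | s
  · rcases row with i' | u
    · simp only
      split_ifs <;> simp
    · simp only
      split_ifs <;> simp
  · simp only
    split_ifs
    · rcases row with i' | u
      · simp
      · simp only
        split_ifs <;> simp
    · rcases row with i' | u
      · simp
      · simp only
        split_ifs <;> simp
    · rcases row with i' | u
      · simp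
      · simp only [map_add, map_list_sum, List.map_map]
        congr 1
        · split_ifs <;> simp
        · congr 1
          apply List.map_congr_left
          intro km _
          simp

/-- the twisting endomorphism of the general linear group: the field endomorphism on the entries
followed by conjugation with the signed permutation matrix of the graph symmetry -/
noncomputable def sigma (c : GraphCert D pi sg ep) (φ : K →+* K) : GL D.Idx K →* GL D.Idx K :=
  (MulAut.conj (Punit K c)).toMonoidHom.comp (Matrix.GeneralLinearGroup.map φ)

theorem sigma_val (c : GraphCert D pi sg ep) (φ : K →+* K) (g : GL D.Idx K) :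
    ((sigma c φ g : GL D.Idx K) : Matrix D.Idx D.Idx K)
      = Pmat K c * (g : Matrix D.Idx D.Idx K).map φ * Qmat K c := by
  unfold sigma
  rw [MonoidHom.comp_apply, MulEquiv.coe_toMonoidHom, MulAut.conj_apply, Units.val_mul, Units.val_mul]
  rfl

/-- the image of a root element -/
theorem sigma_xU (c : GraphCert D pi sg ep) (φ : K →+* K) (hadd : AllAdd K D) (r : ℕ)
    (hr : r < D.nroots) (t : K) :
    sigma c φ (hadd.xU r t) = hadd.xU (sg.getD r 0) (epF K ep r * φ t) := by
  apply Units.ext
  rw [sigma_val, AllAdd.xU_val, AllAdd.xU_val, x_eq_xMat r hr, xMat_map,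
    conj_xMat c ⟨r, hr⟩ (φ t), x_eq_xMat _ (c.sg_lt r hr)]
  rfl

/-- the fixed points of the twisting endomorphism -/
noncomputable def fixS (c : GraphCert D pi sg ep) (φ : K →+* K) : Subgroup (GL D.Idx K) :=
  (sigma c φ).eqLocus (MonoidHom.id _)

theorem mem_fixS (c : GraphCert D pi sg ep) (φ : K →+* K) (g : GL D.Idx K) :
    g ∈ fixS c φ ↔ sigma c φ g = g := Iff.rfl

end Cfsg.Agent.Lib.Helper5.Tw
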