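import Cfsg.Agent.Lib.Helper5.Tw.FixAll
import Cfsg.Agent.Lib.Helper5.Tw.SurjTw
import Cfsg.Agent.Lib.Helper5.Tw.SimpleData
import Cfsg.Agent.Lib.Helper5.Tw.D4Order
import Mathlib

/-!
# The fixed points of the triality graph automorphism of `D₄(K)` (helper5)

The general setting of the twisted groups with the trivial field automorphism: the group
`twistedD4 K (Fintype.card K)` (generated by `x_{±p₂}(t)` and `x_{±p₁}(t) x_{±p₃}(t) x_{±p₄}(t)`)
is the group of all fixed points of the graph automorphism, and every surjective homomorphism from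
it onto a group of the order of `G₂(K)` is bijective.
-/

set_option autoImplicit false
set_option maxRecDepth 100000
set_option linter.unusedSectionVars false

namespace Cfsg.Agent.Lib.Helper5.Tw

open Cfsg.Lie Cfsg.Agent.Lib.Helper5.ChevPerm Cfsg.Agent.Lib.Helper5.ChevPermB
open Cfsg.Agent.Lib.Helper5.Chev
open scoped Matrix

namespace D4

section tri

variable {K : Type*} [Field K] [Fintype K]

theorem id_pow (t : K) : (RingHom.id K) t = t ^ Fintype.card K := (FiniteField.pow_card t).symm

theorem id3 (t : K) : (RingHom.id K) ((RingHom.id K) ((RingHom.id K) t)) = t := rfl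

/-- the setting of the fixed points of the graph automorphism of `D₄(K)` -/
noncomputable def triSetup : TwSetup K chevD4 :=
  setup (RingHom.id K) (Fintype.card K) id_pow id3

theorem triSetup_Q : (triSetup (K := K)).Q = twistedD4 K (Fintype.card K) := rfl

/-- the group generated by the orbit elements is the group of all fixed points -/
theorem tri_fix_eq :
    chevD4.group K ⊓ fixS cert (RingHom.id K) = twistedD4 K (Fintype.card K) :=
  ((triSetup (K := K)).Q_eq_fix negOK permWs (coh (RingHom.id K) (Fintype.card K) id_pow id3)).symm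

theorem tri_hqfix : Nat.card {a : K // (RingHom.id K) a = a} = Fintype.card K := by
  rw [← Nat.card_eq_fintype_card]
  exact Nat.card_congr (Equiv.subtypeUnivEquiv (fun _ => rfl))

/-- the order of `B¹` -/
theorem tri_card_B1 :
    Nat.card ↥(triSetup (K := K)).B1 = Fintype.card K ^ 6 * (Fintype.card K - 1) ^ 2 := by
  have hadd := hadd' (K := K)
  have hU : Nat.card (triSetup (K := K)).U1 = Fintype.card K ^ 6 := by
    show Nat.card ↥(chevD4.posUnipotent K ⊓ fixS cert (RingHom.id K)) = _
    rw [card_fix_eq hD4 cert (RingHom.id K) hadd sgi hsgi bsA blockA ordA,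
      card_sol_blocks (RingHom.id K) sgi 3 (Fintype.card K) (fun _ => rfl) tri_hqfix bsA shapeA
        nodupA, Nat.card_eq_fintype_card]
    simp only [bsA, List.map_cons, List.map_nil, List.prod_cons, List.prod_nil, List.length_cons,
      List.length_nil]
    norm_num
    ring
  have hH : Nat.card (triSetup (K := K)).H1 = (Fintype.card K - 1) ^ 2 := by
    show Nat.card ↥(chevD4.diagonalSubgroup K ⊓ twistedD4 K (Fintype.card K)) = _
    rw [card_H1 (RingHom.id K) (Fintype.card K) id_pow id3 tri_hqfix, Nat.card_eq_fintype_card, sq]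
  rw [(triSetup (K := K)).card_B1, hU, hH]

theorem tri_core (g : GL chevD4.Idx K)
    (hg : ∀ y ∈ twistedD4 K (Fintype.card K), y * g * y⁻¹ ∈ chevD4.borelSubgroup K) : g = 1 :=
  (triSetup (K := K)).core_trivial Js0 Js0_mem Js0_check HcD4.Mt HcD4.hC g hg

theorem tri_num (q : ℕ) (hq : 2 ≤ q) :
    q ^ 6 * (q - 1) ^ 2 < q ^ 6 * (q ^ 2 - 1) * (q ^ 6 - 1) := by
  obtain ⟨k, rfl⟩ : ∃ k, q = k + 2 := ⟨q - 2, by omega⟩
  have e1 : k + 2 - 1 = k + 1 := by omega
  have e2 : (k + 2) ^ 2 - 1 = k ^ 2 + 4 * k + 3 := by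
    apply Nat.sub_eq_of_eq_add
    ring
  have h6 : 2 ≤ (k + 2) ^ 6 - 1 := by
    have : 2 ^ 6 ≤ (k + 2) ^ 6 := Nat.pow_le_pow_left (by omega) 6
    omega
  rw [e1, e2, mul_assoc]
  apply Nat.mul_lt_mul_of_pos_left _ (by positivity)
  calc (k + 1) ^ 2 < (k ^ 2 + 4 * k + 3) * 1 := by nlinarith
    _ ≤ (k ^ 2 + 4 * k + 3) * ((k + 2) ^ 6 - 1) := Nat.mul_le_mul_left _ (by omega)

/-- a surjective homomorphism from the group of fixed points onto a group of the order of `G₂(K)`
is bijective -/
theorem tri_bijective {M : Type*} [Group M]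
    (Ψ : ↥(twistedD4 K (Fintype.card K)) →* M) (hΨ : Function.Surjective Ψ) {q : ℕ}
    (hq : Fintype.card K = q) (hcard : Nat.card M = q ^ 6 * (q ^ 2 - 1) * (q ^ 6 - 1)) :
    Function.Bijective Ψ := by
  subst hq
  have h2 : 2 ≤ Fintype.card K := Fintype.one_lt_card
  refine ⟨?_, hΨ⟩
  apply (triSetup (K := K)).injective_of_card_lt CoxeterMatrix.G₂ JsW hJs hsurj hMb hconn tri_core Ψ hΨ
  rw [tri_card_B1, hcard]
  exact tri_num _ h2

end tri

end D4

end Cfsg.Agent.Lib.Helper5.Tw
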