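import Cfsg.Agent.Lib.Helper5.Tw.TriFix
import Cfsg.Agent.Lib.Helper5.AutBN.OutSym
import Mathlib

/-!
# The fixed points of a graph automorphism of order three of `D₄(K)` (helper5)

A graph automorphism of order three of the Chevalley group of type `D₄` over a finite field has the
same fixed points as the twisting endomorphism of the triality; the group of its fixed points is
therefore the group `twistedD4 K (Fintype.card K)`.
-/

set_option autoImplicit false
set_option maxRecDepth 100000
set_option linter.unusedSectionVars false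

namespace Cfsg.Agent.Lib.Helper5.Tw

open Cfsg.Lie Cfsg.Agent.Lib.Helper5.ChevPerm Cfsg.Agent.Lib.Helper5.ChevPermB
open Cfsg.Agent.Lib.Helper5.Chev Cfsg.Agent.Lib.Helper5.AutBN
open scoped Matrix

namespace D4

theorem tri_simple_data : ∀ i < chevD4.rank,
    sg.getD (chevD4.simple i) 0 = chevD4.simple (pi.getD i 0) ∧
    ep.getD (chevD4.simple i) 1 = 1 ∧
    sg.getD (chevD4.neg (chevD4.simple i)) 0 = chevD4.neg (chevD4.simple (pi.getD i 0)) ∧
    ep.getD (chevD4.neg (chevD4.simple i)) 1 = 1 ∧
    chevD4.simple i < chevD4.nroots ∧ chevD4.neg (chevD4.simple i) < chevD4.nroots := by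
  decide +kernel

theorem perm_case_a : ∀ π : Equiv.Perm (Fin chevD4.rank),
    (List.ofFn fun i => (π i).val) = [2, 1, 3, 0] → ∀ i, (π i).val = pi.getD i.val 0 := by
  decide +kernel

theorem perm_case_b : ∀ π : Equiv.Perm (Fin chevD4.rank),
    (List.ofFn fun i => (π i).val) = [3, 1, 0, 2] → ∀ i, ((π * π) i).val = pi.getD i.val 0 := by
  decide +kernel

theorem perm_case_one : ∀ π : Equiv.Perm (Fin chevD4.rank),
    (List.ofFn fun i => (π i).val) = [0, 1, 2, 3] → π = 1 := by
  decide +kernel

theorem perm_case_two : ∀ π : Equiv.Perm (Fin chevD4.rank),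
    ((List.ofFn fun i => (π i).val) = [2, 1, 0, 3] ∨ (List.ofFn fun i => (π i).val) = [3, 1, 2, 0] ∨
      (List.ofFn fun i => (π i).val) = [0, 1, 3, 2]) → π * π = 1 := by
  decide +kernel

section link

variable {K : Type*} [Field K] [Fintype K]

/-- an automorphism acting through the permutation of the triality agrees with the twisting
endomorphism -/
theorem val_eq_sigma (π : Equiv.Perm (Fin chevD4.rank)) (hπ : ∀ i, (π i).val = pi.getD i.val 0)
    (g : ↥(chevD4.group K) ≃* ↥(chevD4.group K)) (hg : ActsVia chevD4 π g)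
    (y : ↥(chevD4.group K)) :
    ((g y : ↥(chevD4.group K)) : GL chevD4.Idx K) = sigma cert (RingHom.id K) (y : GL chevD4.Idx K) := by
  have hadd := hadd' (K := K)
  have key := hom_ext_simple (F := K) chevD4 hD4
    ((chevD4.group K).subtype.comp g.toMonoidHom)
    ((sigma cert (RingHom.id K)).comp (chevD4.group K).subtype) ?_ ?_
  · exact DFunLike.congr_fun key y
  · intro i hi t y hy
    obtain ⟨h1, h2, -, -, h5, -⟩ := tri_simple_data i hi
    show ((g y : ↥(chevD4.group K)) : GL chevD4.Idx K) = sigma cert (RingHom.id K) (y : GL chevD4.Idx K)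
    have e1 : (y : GL chevD4.Idx K) = hadd.xU (chevD4.simple i) t := by
      apply Units.ext
      rw [hy, AllAdd.xU_val]
    rw [e1, sigma_xU cert (RingHom.id K) hadd _ h5 t]
    apply Units.ext
    rw [(hg y ⟨i, hi⟩ t).1 hy, AllAdd.xU_val, h1, hπ ⟨i, hi⟩]
    unfold epF
    rw [h2]
    simp
  · intro i hi t y hy
    obtain ⟨-, -, h3, h4, -, h6⟩ := tri_simple_data i hi
    show ((g y : ↥(chevD4.group K)) : GL chevD4.Idx K) = sigma cert (RingHom.id K) (y : GL chevD4.Idx K)
    have e1 : (y : GL chevD4.Idx K) = hadd.xU (chevD4.neg (chevD4.simple i)) t := by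
      apply Units.ext
      rw [hy, AllAdd.xU_val]
    rw [e1, sigma_xU cert (RingHom.id K) hadd _ h6 t]
    apply Units.ext
    rw [(hg y ⟨i, hi⟩ t).2 hy, AllAdd.xU_val, h3, hπ ⟨i, hi⟩]
    unfold epF
    rw [h4]
    simp

theorem mem_tri_iff (z : GL chevD4.Idx K) :
    z ∈ twistedD4 K (Fintype.card K) ↔
      z ∈ chevD4.group K ∧ sigma cert (RingHom.id K) z = z := by
  rw [← tri_fix_eq, Subgroup.mem_inf, mem_fixS]

/-- the fixed points of an automorphism agreeing with the twisting endomorphism -/
noncomputable def eqLocusEquiv (g : ↥(chevD4.group K) ≃* ↥(chevD4.group K))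
    (hg : ∀ y : ↥(chevD4.group K),
      ((g y : ↥(chevD4.group K)) : GL chevD4.Idx K) = sigma cert (RingHom.id K) (y : GL chevD4.Idx K)) :
    ↥(MonoidHom.eqLocus g.toMonoidHom (MonoidHom.id ↥(chevD4.group K))) ≃*
      ↥(twistedD4 K (Fintype.card K)) where
  toFun y := ⟨((y : ↥(chevD4.group K)) : GL chevD4.Idx K), by
    refine (mem_tri_iff _).2 ⟨(y : ↥(chevD4.group K)).2, ?_⟩
    rw [← hg]
    exact congrArg Subtype.val y.2⟩
  invFun z := ⟨⟨(z : GL chevD4.Idx K), ((mem_tri_iff _).1 z.2).1⟩, by
    apply Subtype.ext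
    show ((g _ : ↥(chevD4.group K)) : GL chevD4.Idx K) = (z : GL chevD4.Idx K)
    rw [hg]
    exact ((mem_tri_iff _).1 z.2).2⟩
  left_inv y := rfl
  right_inv z := rfl
  map_mul' y y' := rfl

/-- the group of fixed points of a graph automorphism of order three of `D₄(K)` is the group
generated by the orbit elements -/
theorem tri_eqLocus (τ : MulAut ↥(chevD4.group K)) (hτ : chevD4.IsGraphAut τ)
    (hτ3 : orderOf τ = 3) :
    Nonempty (↥(MonoidHom.eqLocus τ.toMonoidHom (MonoidHom.id ↥(chevD4.group K))) ≃*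
      ↥(twistedD4 K (Fintype.card K))) := by
  obtain ⟨π, hπ, hact⟩ := actsVia_of_isGraphAut chevD4 (by simp) τ hτ
  have hcl := classD4 π hπ
  have h3 : τ * τ * τ = 1 := by
    have := pow_orderOf_eq_one τ
    rw [hτ3] at this
    rw [← this]
    simp [pow_succ]
  simp only [List.mem_cons, List.not_mem_nil, or_false] at hcl
  rcases hcl with h | h | h | h | h | h
  · exfalso
    have e := perm_case_one π h
    rw [e] at hact
    have : τ = 1 := ActsVia.unique hD4 hact (ActsVia.one chevD4)
    rw [this, orderOf_one] at hτ3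
    omega
  · exact ⟨eqLocusEquiv τ (val_eq_sigma π (perm_case_a π h) τ hact)⟩
  · have hact2 : ActsVia chevD4 (π * π) (τ * τ) := hact.mul hact
    have hval := val_eq_sigma (π * π) (perm_case_b π h) (τ * τ) hact2
    have heq : MonoidHom.eqLocus τ.toMonoidHom (MonoidHom.id ↥(chevD4.group K))
        = MonoidHom.eqLocus (τ * τ).toMonoidHom (MonoidHom.id ↥(chevD4.group K)) := by
      ext y
      constructor
      · intro hy
        have hy' : τ y = y := hy
        show τ (τ y) = y
        rw [hy', hy']
      · intro hy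
        have hy' : τ (τ y) = y := hy
        show τ y = y
        have h4 : τ (τ (τ y)) = y := DFunLike.congr_fun h3 y
        rw [hy'] at h4
        exact h4
    rw [heq]
    exact ⟨eqLocusEquiv (τ * τ) hval⟩
  all_goals
    exfalso
    have e : π * π = 1 := perm_case_two π (by simp [h])
    have hact2 : ActsVia chevD4 (π * π) (τ * τ) := hact.mul hact
    rw [e] at hact2
    have h2 : τ * τ = 1 := ActsVia.unique hD4 hact2 (ActsVia.one chevD4)
    have h2' : τ ^ 2 = 1 := by rw [sq]; exact h2
    have := orderOf_dvd_of_pow_eq_one h2'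
    rw [hτ3] at this
    omega

end link

end D4

end Cfsg.Agent.Lib.Helper5.Tw
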