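import Cfsg.Agent.Lib.Helper5.Chev.PcChain
import Mathlib

/-!
# The elements of the Weyl group fixed by a graph automorphism (helper5)
-/

set_option autoImplicit false

namespace Cfsg.Agent.Lib.Helper5.Tw

open Cfsg.Lie Cfsg.Agent.Lib.Helper5.Chev

/-- a graph automorphism, on the data of a Weyl group -/
structure GraphW (W : WD) (piL piiL sgL sgiL : List ℕ) : Prop where
  pi_lt : ∀ i < W.l, piL.getD i 0 < W.l
  pii_lt : ∀ i < W.l, piiL.getD i 0 < W.l
  pi_pii : ∀ i < W.l, piL.getD (piiL.getD i 0) 0 = i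
  pii_pi : ∀ i < W.l, piiL.getD (piL.getD i 0) 0 = i
  sg_lt : ∀ r < W.n, sgL.getD r 0 < W.n
  sgi_lt : ∀ r < W.n, sgiL.getD r 0 < W.n
  sg_sgi : ∀ r < W.n, sgL.getD (sgiL.getD r 0) 0 = r
  sgi_sg : ∀ r < W.n, sgiL.getD (sgL.getD r 0) 0 = r
  sg_w : ∀ i < W.l, ∀ r < W.n, sgL.getD (W.w i r) 0 = W.w (piL.getD i 0) (sgL.getD r 0)
  sg_pos : ∀ r < W.n, (W.h ≤ sgL.getD r 0 ↔ W.h ≤ r)
  sg_p : ∀ i < W.l, sgL.getD (W.p i) 0 = W.p (piL.getD i 0)

instance (W : WD) (piL piiL sgL sgiL : List ℕ) : Decidable (GraphW W piL piiL sgL sgiL) :=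
  decidable_of_iff ((∀ i < W.l, piL.getD i 0 < W.l) ∧ (∀ i < W.l, piiL.getD i 0 < W.l) ∧
    (∀ i < W.l, piL.getD (piiL.getD i 0) 0 = i) ∧ (∀ i < W.l, piiL.getD (piL.getD i 0) 0 = i) ∧
    (∀ r < W.n, sgL.getD r 0 < W.n) ∧ (∀ r < W.n, sgiL.getD r 0 < W.n) ∧
    (∀ r < W.n, sgL.getD (sgiL.getD r 0) 0 = r) ∧ (∀ r < W.n, sgiL.getD (sgL.getD r 0) 0 = r) ∧
    (∀ i < W.l, ∀ r < W.n, sgL.getD (W.w i r) 0 = W.w (piL.getD i 0) (sgL.getD r 0)) ∧
    (∀ r < W.n, (W.h ≤ sgL.getD r 0 ↔ W.h ≤ r)) ∧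
    (∀ i < W.l, sgL.getD (W.p i) 0 = W.p (piL.getD i 0)))
    ⟨fun h => ⟨h.1, h.2.1, h.2.2.1, h.2.2.2.1, h.2.2.2.2.1, h.2.2.2.2.2.1, h.2.2.2.2.2.2.1,
      h.2.2.2.2.2.2.2.1, h.2.2.2.2.2.2.2.2.1, h.2.2.2.2.2.2.2.2.2.1, h.2.2.2.2.2.2.2.2.2.2⟩,
     fun h => ⟨h.pi_lt, h.pii_lt, h.pi_pii, h.pii_pi, h.sg_lt, h.sgi_lt, h.sg_sgi, h.sgi_sg,
      h.sg_w, h.sg_pos, h.sg_p⟩⟩

section

variable {W : WD} {piL piiL sgL sgiL : List ℕ}

/-- the image of a word -/
def mapW (piL : List ℕ) (u : List ℕ) : List ℕ := u.map fun i => piL.getD i 0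

theorem mapW_append (piL : List ℕ) (u v : List ℕ) : mapW piL (u ++ v) = mapW piL u ++ mapW piL v :=
  List.map_append

theorem mapW_isWord (G : GraphW W piL piiL sgL sgiL) {u : List ℕ} (hu : W.IsWord u) :
    W.IsWord (mapW piL u) := by
  intro x hx
  unfold mapW at hx
  rw [List.mem_map] at hx
  obtain ⟨i, hi, rfl⟩ := hx
  exact G.pi_lt i (hu i hi)

/-- the graph automorphism commutes with the action of words -/
theorem act_mapW (G : GraphW W piL piiL sgL sgiL) (hV : W.Valid) {u : List ℕ} (hu : W.IsWord u)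
    {r : ℕ} (hr : r < W.n) :
    sgL.getD (W.act u r) 0 = W.act (mapW piL u) (sgL.getD r 0) := by
  induction u with
  | nil => rfl
  | cons i u ih =>
    have hu' : W.IsWord u := fun x hx => hu x (List.mem_cons_of_mem _ hx)
    have hi := hu i List.mem_cons_self
    show sgL.getD (W.w i (W.act u r)) 0 = W.w (piL.getD i 0) (W.act (mapW piL u) (sgL.getD r 0))
    rw [G.sg_w i hi _ (hV.act_lt hu' hr), ih hu']

/-- the word acts as an element fixed by the graph automorphism -/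
def Fixw (W : WD) (piL : List ℕ) (u : List ℕ) : Prop :=
  ∀ r < W.n, W.act (mapW piL u) r = W.act u r

/-- the map commutes with the graph automorphism -/
def FixF (W : WD) (sgL : List ℕ) (a : Fin W.n → Fin W.n) : Prop :=
  ∀ r s : Fin W.n, s.val = sgL.getD r.val 0 → (a s).val = sgL.getD (a r).val 0

theorem fixF_iff (G : GraphW W piL piiL sgL sgiL) (hV : W.Valid) {a : Fin W.n → Fin W.n}
    {u : List ℕ} (hu : W.IsWord u) (h : W.IsAct a u) : FixF W sgL a ↔ Fixw W piL u := by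
  constructor
  · intro hf s hs
    have hr := G.sgi_lt s hs
    have e := hf ⟨sgiL.getD s 0, hr⟩ ⟨s, hs⟩ (G.sg_sgi s hs).symm
    rw [h, h] at e
    simp only at e
    rw [e, act_mapW G hV hu hr, G.sg_sgi s hs]
  · intro hf r s hs
    rw [h, h, hs, act_mapW G hV hu r.isLt]
    exact (hf _ (G.sg_lt _ r.isLt)).symm

theorem Fixw.congr (hV : W.Valid) (G : GraphW W piL piiL sgL sgiL) {u u' : List ℕ}
    (hu : W.IsWord u) (hu' : W.IsWord u')
    (h : ∀ r < W.n, W.act u r = W.act u' r) (hf : Fixw W piL u) : Fixw W piL u' := by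
  intro s hs
  have hr := G.sgi_lt s hs
  have e1 := act_mapW G hV hu' hr
  have e2 := act_mapW G hV hu hr
  rw [G.sg_sgi s hs] at e1 e2
  rw [← e1, ← h _ hr, e2, hf s hs, h s hs]

/-- a descent of a fixed element: the image of the fundamental root is a descent too -/
theorem Fixw.desc (G : GraphW W piL piiL sgL sgiL) (hV : W.Valid) {u : List ℕ}
    (hu : W.IsWord u) (hf : Fixw W piL u) {i : ℕ} (hi : i < W.l)
    (hd : W.act u (W.p i) < W.h) : W.act u (W.p (piL.getD i 0)) < W.h := by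
  have hpi := hV.p_lt i hi
  rw [← G.sg_p i hi, ← hf _ (G.sg_lt _ hpi), ← act_mapW G hV hu hpi]
  by_contra hcon
  push Not at hcon
  have := (G.sg_pos _ (hV.act_lt hu hpi)).1 hcon
  omega

theorem Fixw.append (_G : GraphW W piL piiL sgL sgiL) (hV : W.Valid) {u v : List ℕ}
    (hv : W.IsWord v) (hfu : Fixw W piL u) (hfv : Fixw W piL v) :
    Fixw W piL (u ++ v) := by
  intro r hr
  rw [mapW_append, W.act_append, W.act_append, hfv r hr, hfu _ (hV.act_lt hv hr)]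

theorem fixw_nil : Fixw W piL [] := fun _ _ => rfl

end

/-- the data of the orbits of the graph automorphism on the fundamental roots -/
structure OrbOK (W : WD) (piL : List ℕ) (Ws : List (List ℕ)) : Prop where
  word : ∀ J ∈ Ws, ∀ i ∈ J, i < W.l
  cover : ∀ i < W.l, ∃ J ∈ Ws, i ∈ J
  orth : ∀ J ∈ Ws, J.Pairwise fun i j => W.w i (W.p j) = W.p j ∧ W.w j (W.p i) = W.p i
  stable : ∀ J ∈ Ws, ∀ i ∈ J, piL.getD i 0 ∈ J
  orbit : ∀ J ∈ Ws, ∀ i ∈ J, ∀ j ∈ J, ∃ k < 4, (fun x => piL.getD x 0)^[k] i = j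
  fix : ∀ J ∈ Ws, ∀ k < W.l, W.act (mapW piL J) (W.p k) = W.act J (W.p k)
  rev : ∀ J ∈ Ws, ∀ k < W.l, W.act J.reverse (W.p k) = W.act J (W.p k)
  nodup : ∀ J ∈ Ws, J.Nodup

instance (W : WD) (piL : List ℕ) (Ws : List (List ℕ)) : Decidable (OrbOK W piL Ws) :=
  decidable_of_iff ((∀ J ∈ Ws, ∀ i ∈ J, i < W.l) ∧ (∀ i < W.l, ∃ J ∈ Ws, i ∈ J) ∧
    (∀ J ∈ Ws, J.Pairwise fun i j => W.w i (W.p j) = W.p j ∧ W.w j (W.p i) = W.p i) ∧
    (∀ J ∈ Ws, ∀ i ∈ J, piL.getD i 0 ∈ J) ∧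
    (∀ J ∈ Ws, ∀ i ∈ J, ∀ j ∈ J, ∃ k < 4, (fun x => piL.getD x 0)^[k] i = j) ∧
    (∀ J ∈ Ws, ∀ k < W.l, W.act (mapW piL J) (W.p k) = W.act J (W.p k)) ∧
    (∀ J ∈ Ws, ∀ k < W.l, W.act J.reverse (W.p k) = W.act J (W.p k)) ∧
    (∀ J ∈ Ws, J.Nodup))
    ⟨fun h => ⟨h.1, h.2.1, h.2.2.1, h.2.2.2.1, h.2.2.2.2.1, h.2.2.2.2.2.1, h.2.2.2.2.2.2.1,
      h.2.2.2.2.2.2.2⟩,
     fun h => ⟨h.word, h.cover, h.orth, h.stable, h.orbit, h.fix, h.rev, h.nodup⟩⟩

section

variable {W : WD} {piL piiL sgL sgiL : List ℕ}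

/-- appending descents which are orthogonal -/
theorem inv_append_desc (hV : W.Valid) {u : List ℕ} (hu : W.IsWord u) :
    ∀ (J : List ℕ), (∀ i ∈ J, i < W.l) → J.Nodup →
      (J.Pairwise fun i j => W.w i (W.p j) = W.p j ∧ W.w j (W.p i) = W.p i) →
      (∀ i ∈ J, W.act u (W.p i) < W.h) → W.inv (u ++ J) + J.length = W.inv u
  | [], _, _, _, _ => by simp
  | i :: J, hJ, hnd, horth, hd => by
    have hi := hJ i List.mem_cons_self
    have hJ' : ∀ j ∈ J, j < W.l := fun j hj => hJ j (List.mem_cons_of_mem _ hj)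
    rw [List.pairwise_cons] at horth
    rw [List.nodup_cons] at hnd
    have h1 := hV.inv_desc_eq hu hi (hd i List.mem_cons_self)
    have hu' : W.IsWord (u ++ [i]) := WD.IsWord.concat W hu hi
    have h2 := inv_append_desc hV hu' J hJ' hnd.2 horth.2 (by
      intro j hj
      rw [W.act_concat, (horth.1 j hj).1]
      exact hd j (List.mem_cons_of_mem _ hj))
    have e : u ++ i :: J = u ++ [i] ++ J := by simp
    rw [e, List.length_cons]
    omega

end

section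

variable {T : FD} {D : ChevalleyDatum}

variable (hD : D ∈ [chevG2, chevB2, chevD4, chevF4, chevE6, chevE7, chevE8])
  (hA : T.Agrees D) (Bs : List ℕ) (mLL : List (List ℕ))
  (hB : ∀ i < D.rank, ReflChecks T D i (Bs.getD i 0)) (h1 : Cox1 T Bs)
  (h2 : ∀ i < T.rank, ∀ j < T.rank, i ≠ j → Cox2 T Bs mLL i j)
  {piL piiL sgL sgiL : List ℕ}

include hA hB h1 h2 in
/-- a fixed element with a descent in an orbit: all the orbit consists of descents -/
theorem desc_orbit (G : GraphW (wdOf T Bs mLL) piL piiL sgL sgiL) {Ws : List (List ℕ)}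
    (O : OrbOK (wdOf T Bs mLL) piL Ws) {u : List ℕ} (hu : (wdOf T Bs mLL).IsWord u)
    (hf : Fixw (wdOf T Bs mLL) piL u) {J : List ℕ} (hJ : J ∈ Ws) {i : ℕ} (hi : i ∈ J)
    (hd : (wdOf T Bs mLL).act u ((wdOf T Bs mLL).p i) < (wdOf T Bs mLL).h) :
    ∀ j ∈ J, (wdOf T Bs mLL).act u ((wdOf T Bs mLL).p j) < (wdOf T Bs mLL).h := by
  have hV := wdOf_valid hA Bs mLL hB h1 h2
  intro j hj
  obtain ⟨k, -, hk⟩ := O.orbit J hJ i hi j hj
  have key : ∀ k : ℕ, (fun x => piL.getD x 0)^[k] i ∈ J ∧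
      (wdOf T Bs mLL).act u ((wdOf T Bs mLL).p ((fun x => piL.getD x 0)^[k] i))
        < (wdOf T Bs mLL).h := by
    intro k
    induction k with
    | zero => exact ⟨hi, hd⟩
    | succ k ih =>
      rw [Function.iterate_succ_apply']
      exact ⟨O.stable J hJ _ ih.1, hf.desc G hV hu (O.word J hJ _ ih.1) ih.2⟩
  rw [← hk]
  exact (key k).2

include hA hB h1 h2 in
/-- every fixed element is a product of the elements of the orbits, with additive lengths -/
theorem fixw_gen (G : GraphW (wdOf T Bs mLL) piL piiL sgL sgiL) {Ws : List (List ℕ)}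
    (O : OrbOK (wdOf T Bs mLL) piL Ws) :
    ∀ (m : ℕ) (u : List ℕ), (wdOf T Bs mLL).IsWord u → Fixw (wdOf T Bs mLL) piL u →
      (wdOf T Bs mLL).inv u = m →
      ∃ Js : List (List ℕ), (∀ J ∈ Js, J ∈ Ws) ∧
        ∀ r < (wdOf T Bs mLL).n, (wdOf T Bs mLL).act u r = (wdOf T Bs mLL).act Js.flatten r := by
  have hV := wdOf_valid hA Bs mLL hB h1 h2
  have hR := wdOf_rankTwo hA Bs mLL hB h1 h2
  have hm : ∀ i < (wdOf T Bs mLL).l, ∀ j < (wdOf T Bs mLL).l, i ≠ j →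
      1 ≤ (wdOf T Bs mLL).m i j := fun i hi j hj hij => (h2 i hi j hj hij).m_pos
  set W := wdOf T Bs mLL with hW
  intro m
  induction m using Nat.strong_induction_on with
  | _ m ih =>
    intro u hu hf hinv
    by_cases hnd : ∀ i < W.l, W.h ≤ W.act u (W.p i)
    · refine ⟨[], fun J hJ => absurd hJ (by simp), ?_⟩
      intro r hr
      rw [hV.act_eq_of_no_desc hR hm hu hnd r hr]
      rfl
    · push Not at hnd
      obtain ⟨i, hi, hd⟩ := hnd
      obtain ⟨J, hJ, hiJ⟩ := O.cover i hi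
      have hJw : W.IsWord J := O.word J hJ
      have hall := desc_orbit hA Bs mLL hB h1 h2 G O hu hf hJ hiJ hd
      have hlen := inv_append_desc hV hu J (O.word J hJ) (O.nodup J hJ) (O.orth J hJ) hall
      have hJpos : 0 < J.length := List.length_pos_of_mem hiJ
      have hfJ : Fixw W piL J := by
        intro r hr
        exact hV.act_eq_of_simple hR hm (mapW_isWord G hJw) hJw (O.fix J hJ) r hr
      obtain ⟨Js, hJs, hact⟩ := ih (W.inv (u ++ J)) (by omega) (u ++ J) (hu.append W hJw)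
        (hf.append G hV hJw hfJ) rfl
      refine ⟨Js ++ [J], ?_, ?_⟩
      · intro J' hJ'
        rw [List.mem_append, List.mem_singleton] at hJ'
        rcases hJ' with hJ' | rfl
        · exact hJs J' hJ'
        · exact hJ
      · intro r hr
        have hrev := hV.act_eq_of_simple hR hm hJw.reverse hJw (O.rev J hJ)
        rw [List.flatten_append, List.flatten_singleton, W.act_append, ← hact _ (hV.act_lt hJw hr),
          W.act_append, ← hrev _ (hV.act_lt hJw hr), hV.act_reverse hJw hr]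

end

end Cfsg.Agent.Lib.Helper5.Tw
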