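import Cfsg.Agent.Lib.Helper5.Tw.WeylFix
import Mathlib

/-!
# The sum of `q ^ l(w)` over the elements of the Weyl group fixed by a graph automorphism (helper5)
-/

set_option autoImplicit false

namespace Cfsg.Agent.Lib.Helper5.Tw

open Cfsg.Lie Cfsg.Agent.Lib.Helper5.Chev

open Classical in
/-- the sum of `q ^ l(w)` over the fixed elements -/
noncomputable def psumF (W : WD) (sgL : List ℕ) (K : Set ℕ) (q : ℕ) : ℕ :=
  ∑ a ∈ (W.WFin K).filter (FixF W sgL), q ^ W.invF a

/-- the decidable form of the fixedness of a word -/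
def FixS (W : WD) (piL : List ℕ) (x : List ℕ) : Prop :=
  ∀ k < W.l, W.act (mapW piL x) (W.p k) = W.act x (W.p k)

instance (W : WD) (piL : List ℕ) (x : List ℕ) : Decidable (FixS W piL x) := by
  unfold FixS
  infer_instance

section

variable {T : FD} {D : ChevalleyDatum}

variable (hD : D ∈ [chevG2, chevB2, chevD4, chevF4, chevE6, chevE7, chevE8])
  (hA : T.Agrees D) (Bs : List ℕ) (mLL : List (List ℕ))
  (hB : ∀ i < D.rank, ReflChecks T D i (Bs.getD i 0)) (h1 : Cox1 T Bs)
  (h2 : ∀ i < T.rank, ∀ j < T.rank, i ≠ j → Cox2 T Bs mLL i j)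
  {piL piiL sgL sgiL : List ℕ}

include hA hB h1 h2 in
theorem fixS_iff (G : GraphW (wdOf T Bs mLL) piL piiL sgL sgiL) {x : List ℕ}
    (hx : (wdOf T Bs mLL).IsWord x) :
    FixS (wdOf T Bs mLL) piL x ↔ Fixw (wdOf T Bs mLL) piL x := by
  have hV := wdOf_valid hA Bs mLL hB h1 h2
  have hR := wdOf_rankTwo hA Bs mLL hB h1 h2
  have hm : ∀ i < (wdOf T Bs mLL).l, ∀ j < (wdOf T Bs mLL).l, i ≠ j →
      1 ≤ (wdOf T Bs mLL).m i j := fun i hi j hj hij => (h2 i hi j hj hij).m_pos
  constructor
  · intro h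
    exact hV.act_eq_of_simple hR hm (mapW_isWord G hx) hx h
  · intro h k hk
    exact h _ (hV.p_lt k hk)

include hD hA hB h1 h2 in
open Classical in
/-- the sum over the fixed elements of the subgroup of `K'` is the sum over the fixed
representatives times the sum over the fixed elements of the subgroup of `K` -/
theorem psumF_step (G : GraphW (wdOf T Bs mLL) piL piiL sgL sgiL) (K K' : Set ℕ)
    (hK : ∀ i < T.rank, i ∈ K → piL.getD i 0 ∈ K ∧ piiL.getD i 0 ∈ K)
    (hK' : ∀ i < T.rank, i ∈ K' → piL.getD i 0 ∈ K')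
    (reps : List (List ℕ)) (hok : RepsOK T Bs mLL K K' reps) (q : ℕ) :
    psumF (wdOf T Bs mLL) sgL K' q
      = ((reps.filter fun x => decide (FixS (wdOf T Bs mLL) piL x)).map
          fun x => q ^ (wdOf T Bs mLL).inv x).sum * psumF (wdOf T Bs mLL) sgL K q := by
  have hV := wdOf_valid hA Bs mLL hB h1 h2
  have hR := wdOf_rankTwo hA Bs mLL hB h1 h2
  have hm : ∀ i < (wdOf T Bs mLL).l, ∀ j < (wdOf T Bs mLL).l, i ≠ j →
      1 ≤ (wdOf T Bs mLL).m i j := fun i hi j hj hij => (h2 i hi j hj hij).m_pos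
  set W := wdOf T Bs mLL with hW
  have hsymm : Std.Symm (fun x x' : List ℕ => ∃ k < T.rank,
      W.act x (T.simple k) ≠ W.act x' (T.simple k)) :=
    ⟨fun a b ⟨k, hk, hne⟩ => ⟨k, hk, hne.symm⟩⟩
  have hnodup0 : reps.Nodup := by
    apply hok.distinct.imp
    rintro a b ⟨k, -, hne⟩ rfl
    exact hne rfl
  set repsF := reps.filter fun x => decide (FixS W piL x) with hrepsF
  have hnodup : repsF.Nodup := hnodup0.filter _
  have hmemF : ∀ x, x ∈ repsF ↔ x ∈ reps ∧ FixS W piL x := by
    intro x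
    rw [hrepsF, List.mem_filter, decide_eq_true_eq]
  have hmapK : ∀ {v : List ℕ}, W.IsWordIn K v → W.IsWordIn K (mapW piL v) := by
    intro v hv x hx
    unfold mapW at hx
    rw [List.mem_map] at hx
    obtain ⟨i, hi, rfl⟩ := hx
    exact ⟨G.pi_lt i (hv i hi).1, (hK i (hv i hi).1 (hv i hi).2).1⟩
  have hmapK' : ∀ {v : List ℕ}, W.IsWordIn K' v → W.IsWordIn K' (mapW piL v) := by
    intro v hv x hx
    unfold mapW at hx
    rw [List.mem_map] at hx
    obtain ⟨i, hi, rfl⟩ := hx
    exact ⟨G.pi_lt i (hv i hi).1, hK' i (hv i hi).1 (hv i hi).2⟩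
  -- the decomposition of the set
  have hunion : (W.WFin K').filter (FixF W sgL)
      = repsF.toFinset.biUnion fun x => ((W.WFin K).filter (FixF W sgL)).image (compW W x) := by
    ext a
    rw [Finset.mem_biUnion, Finset.mem_filter, W.mem_WFin]
    constructor
    · rintro ⟨⟨u, hu, hau⟩, hfa⟩
      obtain ⟨x, hxr, v, hv, hact⟩ := exists_rep hD hA Bs mLL hB h1 h2 K K' reps hok u hu
      have hxw := (hok.word x hxr).isWord
      have hxv : W.IsWord (x ++ v) := hxw.append W hv.isWord
      have hfu : Fixw W piL u := (fixF_iff G hV hu.isWord hau).1 hfa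
      have hfxv : Fixw W piL (x ++ v) := hfu.congr hV G hu.isWord hxv hact
      -- the image of `x` is a minimal representative
      have hx'w : W.IsWord (mapW piL x) := mapW_isWord G hxw
      have hmin' : ∀ j < T.rank, j ∈ K → T.nroots / 2 ≤ W.act (mapW piL x) (T.simple j) := by
        intro j hj hjK
        have hj' := G.pii_lt j hj
        have hjK' := (hK j hj hjK).2
        have e := G.sg_p _ hj'
        rw [G.pi_pii j hj] at e
        show W.h ≤ W.act (mapW piL x) (W.p j)
        rw [← e, ← act_mapW G hV hxw (hV.p_lt _ hj'),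
          G.sg_pos _ (hV.act_lt hxw (hV.p_lt _ hj'))]
        exact hok.minimal x hxr _ hj' hjK'
      have hxx : ∀ r < T.nroots, W.act (mapW piL x) r = W.act x r := by
        apply act_eq_of_minimal hD hA Bs mLL hB h1 h2 K (mapW piL x) x hx'w hxw hmin'
          (hok.minimal x hxr) (mapW piL v) v (hmapK hv) hv
        intro r hr
        rw [← mapW_append]
        exact hfxv r hr
      have hfx : FixS W piL x := fun k hk => hxx _ (hV.p_lt k hk)
      have hfv : Fixw W piL v := by
        intro r hr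
        have e := hfxv r hr
        rw [mapW_append, W.act_append, W.act_append, hxx _ (hV.act_lt (mapW_isWord G hv.isWord) hr)]
          at e
        have e2 := congrArg (W.act x.reverse) e
        rwa [hV.act_reverse hxw (hV.act_lt (mapW_isWord G hv.isWord) hr),
          hV.act_reverse hxw (hV.act_lt hv.isWord hr)] at e2
      refine ⟨x, List.mem_toFinset.2 ((hmemF x).2 ⟨hxr, hfx⟩), ?_⟩
      rw [Finset.mem_image]
      refine ⟨WD.actF hV v hv.isWord, ?_, ?_⟩
      · rw [Finset.mem_filter, W.mem_WFin]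
        exact ⟨⟨v, hv, WD.isAct_actF hV v hv.isWord⟩,
          (fixF_iff G hV hv.isWord (WD.isAct_actF hV v hv.isWord)).2 hfv⟩
      · exact WD.IsAct.ext W (isAct_compW hV hxw (WD.isAct_actF hV v hv.isWord))
          hau (fun r hr => (hact r hr).symm)
    · rintro ⟨x, hxr, hax⟩
      rw [List.mem_toFinset, hmemF] at hxr
      rw [Finset.mem_image] at hax
      obtain ⟨b, hb, rfl⟩ := hax
      rw [Finset.mem_filter, W.mem_WFin] at hb
      obtain ⟨⟨v, hv, hbv⟩, hfb⟩ := hb
      have hxw := (hok.word x hxr.1).isWord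
      have hact := isAct_compW hV hxw hbv
      refine ⟨⟨x ++ v, (hok.word x hxr.1).append _ (hv.mono _ hok.sub), hact⟩, ?_⟩
      rw [fixF_iff G hV (hxw.append W hv.isWord) hact]
      exact ((fixS_iff hA Bs mLL hB h1 h2 G hxw).1 hxr.2).append G hV hv.isWord
        ((fixF_iff G hV hv.isWord hbv).1 hfb)
  -- disjointness
  have hdisj : (repsF.toFinset : Set (List ℕ)).PairwiseDisjoint
      fun x => ((W.WFin K).filter (FixF W sgL)).image (compW W x) := by
    intro x hx x' hx' hne
    rw [Finset.mem_coe, List.mem_toFinset, hmemF] at hx hx'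
    rw [Function.onFun, Finset.disjoint_left]
    intro a ha ha'
    rw [Finset.mem_image] at ha ha'
    obtain ⟨b, hb, rfl⟩ := ha
    obtain ⟨b', hb', e⟩ := ha'
    rw [Finset.mem_filter] at hb hb'
    obtain ⟨v, hv, hbv⟩ := (W.mem_WFin).1 hb.1
    obtain ⟨v', hv', hbv'⟩ := (W.mem_WFin).1 hb'.1
    have hact : ∀ r < T.nroots, W.act (x ++ v) r = W.act (x' ++ v') r := by
      intro r hr
      have e1 := isAct_compW hV (hok.word x hx.1).isWord hbv ⟨r, hr⟩
      have e2 := isAct_compW hV (hok.word x' hx'.1).isWord hbv' ⟨r, hr⟩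
      rw [← e1, ← e2, e]
    have hxx := act_eq_of_minimal hD hA Bs mLL hB h1 h2 K x x' (hok.word x hx.1).isWord
      (hok.word x' hx'.1).isWord (hok.minimal x hx.1) (hok.minimal x' hx'.1) v v' hv hv' hact
    obtain ⟨k, hk, hkne⟩ := hok.distinct.forall hx.1 hx'.1 hne
    exact hkne (hxx _ (hV.p_lt k hk))
  -- injectivity
  have hinj : ∀ x ∈ repsF, Set.InjOn (compW W x)
      ((W.WFin K).filter (FixF W sgL) : Set (Fin W.n → Fin W.n)) := by
    intro x hx b _ b' _ e
    rw [hmemF] at hx
    have hxw := (hok.word x hx.1).isWord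
    funext r
    have e1 : (compW W x b r).val = (compW W x b' r).val := by rw [e]
    unfold compW at e1
    rw [dif_pos (hV.act_lt hxw (b r).isLt), dif_pos (hV.act_lt hxw (b' r).isLt)] at e1
    have e2 : W.act x (b r).val = W.act x (b' r).val := e1
    apply Fin.ext
    rw [← hV.act_reverse hxw (b r).isLt, e2, hV.act_reverse hxw (b' r).isLt]
  -- the lengths
  have hlen : ∀ x ∈ repsF, ∀ b ∈ (W.WFin K).filter (FixF W sgL),
      W.invF (compW W x b) = W.inv x + W.invF b := by
    intro x hx b hb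
    rw [hmemF] at hx
    rw [Finset.mem_filter] at hb
    obtain ⟨v, hv, hbv⟩ := (W.mem_WFin).1 hb.1
    rw [W.invF_eq (isAct_compW hV (hok.word x hx.1).isWord hbv), W.invF_eq hbv]
    exact inv_append_of_minimal hD hA Bs mLL hB h1 h2 K x (hok.word x hx.1).isWord
      (hok.minimal x hx.1) _ v hv rfl
  unfold psumF
  rw [hunion, Finset.sum_biUnion hdisj, ← List.sum_toFinset _ hnodup, Finset.sum_mul]
  apply Finset.sum_congr rfl
  intro x hx
  rw [List.mem_toFinset] at hx
  rw [Finset.sum_image (hinj x hx), Finset.mul_sum]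
  apply Finset.sum_congr rfl
  intro b hb
  rw [hlen x hx b hb, pow_add]

end

section base

open Classical

theorem psumF_empty (W : WD) (sgL : List ℕ) (q : ℕ) : psumF W sgL ∅ q = 1 := by
  have hW : W.WFin ∅ = {fun r => r} := by
    ext a
    rw [W.mem_WFin, Finset.mem_singleton]
    constructor
    · rintro ⟨u, hu, hau⟩
      have : u = [] := by
        cases u with
        | nil => rfl
        | cons i u => exact absurd (hu i List.mem_cons_self).2 (Set.notMem_empty i)
      subst this
      funext r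
      exact Fin.ext (hau r)
    · rintro rfl
      exact ⟨[], W.isWordIn_nil ∅, fun _ => rfl⟩
  have hF : (W.WFin ∅).filter (FixF W sgL) = {fun r => r} := by
    rw [hW, Finset.filter_singleton, if_pos]
    intro r s hs
    exact hs
  unfold psumF
  rw [hF, Finset.sum_singleton]
  have : W.invF (fun r => r) = 0 := by
    unfold WD.invF
    rw [Finset.card_eq_zero, Finset.filter_eq_empty_iff]
    intro r _
    show ¬ (W.h ≤ r.val ∧ r.val < W.h)
    omega
  rw [this, pow_zero]

theorem psumF_congr (W : WD) (sgL : List ℕ) (K K' : Set ℕ) (h : ∀ i < W.l, (i ∈ K ↔ i ∈ K'))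
    (q : ℕ) : psumF W sgL K q = psumF W sgL K' q := by
  have hW : W.WFin K = W.WFin K' := by
    ext a
    rw [W.mem_WFin, W.mem_WFin]
    constructor
    · rintro ⟨u, hu, hau⟩
      exact ⟨u, fun x hx => ⟨(hu x hx).1, (h x (hu x hx).1).1 (hu x hx).2⟩, hau⟩
    · rintro ⟨u, hu, hau⟩
      exact ⟨u, fun x hx => ⟨(hu x hx).1, (h x (hu x hx).1).2 (hu x hx).2⟩, hau⟩
  unfold psumF
  rw [hW]

end base

end Cfsg.Agent.Lib.Helper5.Tw
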